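import Cfsg.Agent.H16.NormForm2

/-! Certificates for the Mathieu group of degree 23. -/

set_option autoImplicit false
set_option synthInstance.maxSize 2048

namespace Cfsg.Agent.H16

open Cfsg Subgroup H14

namespace M23

def s23L0 : Lev := ⟨nat_lit 0, nat_lit 0x7fffff, (.node (nat_lit 11) (.node (nat_lit 5) (.node (nat_lit 2) (.node (nat_lit 1) (.leaf (nat_lit 0x5ab49ca307b9ac5a928398a418820)) (.leaf (nat_lit 0x5ab49ca307b9ac5a928398a418801))) (.node (nat_lit 3) (.leaf (nat_lit 0x5ab49ca307b9ac5a928398a418041)) (.node (nat_lit 4) (.leaf (nat_lit 0x5ab49b6297b86c5aa50398a801041)) (.leaf (nat_lit 0x5ab49ca307b9ac5a928398a019041))))) (.node (nat_lit 8) (.node (nat_lit 6) (.leaf (nat_lit 0x5ab49b6297b8655aa503b00831041)) (.node (nat_lit 7) (.leaf (nat_lit 0x5ab49b6297b86c5aa50380a831041)) (.leaf (nat_lit 0x56717b5693b865b52500314831041)))) (.node (nat_lit 9) (.leaf (nat_lit 0x5ab49ca307b9ac5a920398a819041)) (.node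 (nat_lit 10) (.leaf (nat_lit 0x5ab49ca297b9ac5a810398a819041)) (.leaf (nat_lit 0x5ab49b6297b865582503b14831041)))))) (.node (nat_lit 17) (.node (nat_lit 14) (.node (nat_lit 12) (.leaf (nat_lit 0x5ab19b5697b865052503b14831041)) (.node (nat_lit 13) (.leaf (nat_lit 0x5ab49b6297b8605aa503b0a831041)) (.leaf (nat_lit 0x5ab49b6297b80c5aa50398a819041)))) (.node (nat_lit 15) (.leaf (nat_lit 0x56717b56938065b52507314831041)) (.node (nat_lit 16) (.leaf (nat_lit 0x56717b56903865b52503b14831041)) (.leaf (nat_lit 0x5ab49ca207b9ac5a930398a819041))))) (.node (nat_lit 20) (.node (nat_lit 18) (.leaf (nat_lit 0x5ab19b4097b8655d2503b14831041)) (.node (nat_lit 19) (.leaf (nat_lit 0x5ab4982297b9ac5aa50398a819041)) (.leaf (nat_lit 0x5671035697b865b52503b14831041)))) (.node (nat_lit 21) (.leaf (nat_lit 0x5aa09b6297b8655d2503b14831041)) (.node (nat_lit 22) (.leaf (nat_lit 0x54119b5697b865b52503b14831041)) (.leaf (nat_lit 0x2b19b5697b865b52503b14831041)))))))⟩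
def s23C0 : LevCert := ⟨s23L0,
    [(nat_lit 1, nat_lit 0), (nat_lit 2, nat_lit 1), (nat_lit 4, nat_lit 2), (nat_lit 8, nat_lit 3), (nat_lit 16, nat_lit 4), (nat_lit 9, nat_lit 5), (nat_lit 18, nat_lit 6), (nat_lit 13, nat_lit 7), (nat_lit 3, nat_lit 8), (nat_lit 6, nat_lit 9), (nat_lit 12, nat_lit 10), (nat_lit 5, nat_lit 11), (nat_lit 10, nat_lit 12), (nat_lit 20, nat_lit 13), (nat_lit 17, nat_lit 14), (nat_lit 11, nat_lit 15), (nat_lit 22, nat_lit 16), (nat_lit 21, nat_lit 17), (nat_lit 19, nat_lit 18), (nat_lit 15, nat_lit 19), (nat_lit 7, nat_lit 20), (nat_lit 14, nat_lit 21)],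
    [],
    [nat_lit 0x5ab49ca307b9ac5a928398a418440, nat_lit 0x5ab49ca307b9ac5a928398a219020, nat_lit 0x5ab49ca307b9ac5a924398a818820, nat_lit 0x5ab49ca287b9ac5a930398a418820, nat_lit 0x5ab49ca297b9ac5aa08398a418820, nat_lit 0x5ab49a6307b9ac5aa48398a418820, nat_lit 0x5ab49b6307ba4c5a928398a418820, nat_lit 0x5ab49ca307b86c5a928398a468820, nat_lit 0x5ab49ca307b9ac5a92838ca430820, nat_lit 0x5ab49ca307b9a65a9283b0a418820, nat_lit 0x5ab49ca307b9a55a9283998418820, nat_lit 0x5ab49ca307b9ac595283994418820, nat_lit 0x5aaa9ca307b9ac5d128398a418820, nat_lit 0x5ab19ca907b9ac5a928398a418820, nat_lit 0x5ab49c9707b9ac8a928398a418820, nat_lit 0x2eb49ca307b9acb2928398a418820, nat_lit 0x56d49ca307b9ac5a928398a418820, nat_lit 0x5a74aca307b9ac5a928398a418820, nat_lit 0x5ab47ca309b9ac5a928398a418820, nat_lit 0x5ab49ca303b9ac5a928798a418820, nat_lit 0x5ab49ca3079dac5a928718a418820]⟩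
def s23L1 : Lev := ⟨nat_lit 1, nat_lit 0x7ffffe, (.node (nat_lit 12) (.node (nat_lit 6) (.node (nat_lit 3) (.node (nat_lit 2) (.leaf (nat_lit 0x5ab49ca307b9ac5a928398a418820)) (.leaf (nat_lit 0x5ab49ca307b9ac5a928398a418440))) (.node (nat_lit 4) (.leaf (nat_lit 0x5ab49b6297b86c5aa50398a809040)) (.node (nat_lit 5) (.leaf (nat_lit 0x5ab49ca307b9ac5a928398a119040)) (.leaf (nat_lit 0x5ab49b6297b8655aa503b02831040))))) (.node (nat_lit 9) (.node (nat_lit 7) (.leaf (nat_lit 0x5ab49b6297b86c5aa50384a831040)) (.node (nat_lit 8) (.leaf (nat_lit 0x56717b5693b865b52500b14831040)) (.leaf (nat_lit 0x5ab49ca307b9ac5a921398a819040)))) (.node (nat_lit 10) (.leaf (nat_lit 0x5ab49ca297b9ac5a830398a819040)) (.node (nat_lit 11) (.leaf (nat_lit 0x5ab49b6297b865586503b14831040)) (.leaf (nat_lit 0x5ab19b5697b8650d2503b14831040)))))) (.node (nat_lit 17) (.node (nat_lit 14) (.node (nat_lit 13) (.leaf (nat_lit 0x5ab49b6297b8615aa503b0a831040))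 (.leaf (nat_lit 0x5ab49b6297b82c5aa50398a819040))) (.node (nat_lit 15) (.leaf (nat_lit 0x56717b56938465b52507314831040)) (.node (nat_lit 16) (.leaf (nat_lit 0x56717b5690b865b52503b14831040)) (.leaf (nat_lit 0x5ab49ca217b9ac5a930398a819040))))) (.node (nat_lit 20) (.node (nat_lit 18) (.leaf (nat_lit 0x5ab19b4297b8655d2503b14831040)) (.node (nat_lit 19) (.leaf (nat_lit 0x5ab4986297b9ac5aa50398a819040)) (.leaf (nat_lit 0x56710b5697b865b52503b14831040)))) (.node (nat_lit 21) (.leaf (nat_lit 0x5aa19b6297b8655d2503b14831040)) (.node (nat_lit 22) (.leaf (nat_lit 0x54319b5697b865b52503b14831040)) (.leaf (nat_lit 0x6b19b5697b865b52503b14831040)))))))⟩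
def s23C1 : LevCert := ⟨s23L1,
    [(nat_lit 2, nat_lit 0), (nat_lit 4, nat_lit 1), (nat_lit 8, nat_lit 2), (nat_lit 16, nat_lit 3), (nat_lit 9, nat_lit 4), (nat_lit 18, nat_lit 5), (nat_lit 13, nat_lit 6), (nat_lit 3, nat_lit 7), (nat_lit 6, nat_lit 8), (nat_lit 12, nat_lit 9), (nat_lit 5, nat_lit 10), (nat_lit 10, nat_lit 11), (nat_lit 20, nat_lit 12), (nat_lit 17, nat_lit 13), (nat_lit 11, nat_lit 14), (nat_lit 22, nat_lit 15), (nat_lit 21, nat_lit 16), (nat_lit 19, nat_lit 17), (nat_lit 15, nat_lit 18), (nat_lit 7, nat_lit 19), (nat_lit 14, nat_lit 20)],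
    [],
    [nat_lit 0x5ab49ca307b9ac5a928398a219020, nat_lit 0x5ab49ca307b9ac5a924398a818820, nat_lit 0x5ab49ca287b9ac5a930398a418820, nat_lit 0x5ab49ca297b9ac5aa08398a418820, nat_lit 0x5ab49a6307b9ac5aa48398a418820, nat_lit 0x5ab49b6307ba4c5a928398a418820, nat_lit 0x5ab49ca307b86c5a928398a468820, nat_lit 0x5ab49ca307b9ac5a92838ca430820, nat_lit 0x5ab49ca307b9a65a9283b0a418820, nat_lit 0x5ab49ca307b9a55a9283998418820, nat_lit 0x5ab49ca307b9ac595283994418820, nat_lit 0x5aaa9ca307b9ac5d128398a418820, nat_lit 0x5ab19ca907b9ac5a928398a418820, nat_lit 0x5ab49c9707b9ac8a928398a418820, nat_lit 0x2eb49ca307b9acb2928398a418820, nat_lit 0x56d49ca307b9ac5a928398a418820, nat_lit 0x5a74aca307b9ac5a928398a418820, nat_lit 0x5ab47ca309b9ac5a928398a418820, nat_lit 0x5ab49ca303b9ac5a928798a418820, nat_lit 0x5ab49ca3079dac5a928718a418820]⟩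
def s23L2 : Lev := ⟨nat_lit 2, nat_lit 0x7ffffc, (.node (nat_lit 12) (.node (nat_lit 7) (.node (nat_lit 4) (.node (nat_lit 3) (.leaf (nat_lit 0x5ab49ca307b9ac5a928398a418820)) (.leaf (nat_lit 0x5ab49b6297b86c5aa50398a811020))) (.node (nat_lit 5) (.leaf (nat_lit 0x5ab49ca307b9ac5a928398a219020)) (.node (nat_lit 6) (.leaf (nat_lit 0x5ab49b6297b8655aa503b04831020)) (.leaf (nat_lit 0x5ab49b6297b86c5aa50388a831020))))) (.node (nat_lit 9) (.node (nat_lit 8) (.leaf (nat_lit 0x56717b5693b865b52501314831020)) (.leaf (nat_lit 0x5ab49ca307b9ac5a922398a819020))) (.node (nat_lit 10) (.leaf (nat_lit 0x5ab49ca297b9ac5a850398a819020)) (.node (nat_lit 11) (.leaf (nat_lit 0x5ab49b6297b86558a503b14831020)) (.leaf (nat_lit 0x5ab19b5697b865152503b14831020)))))) (.node (nat_lit 17) (.node (nat_lit 14) (.node (nat_lit 13) (.leaf (nat_lit 0x5ab49b6297b8625aa503b0a831020)) (.leaf (nat_lit 0x5ab49b6297b84c5aa50398a819020))) (.node (nat_lit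 15) (.leaf (nat_lit 0x56717b56938865b52507314831020)) (.node (nat_lit 16) (.leaf (nat_lit 0x56717b56913865b52503b14831020)) (.leaf (nat_lit 0x5ab49ca227b9ac5a930398a819020))))) (.node (nat_lit 20) (.node (nat_lit 18) (.leaf (nat_lit 0x5ab19b4497b8655d2503b14831020)) (.node (nat_lit 19) (.leaf (nat_lit 0x5ab498a297b9ac5aa50398a819020)) (.leaf (nat_lit 0x5671135697b865b52503b14831020)))) (.node (nat_lit 21) (.leaf (nat_lit 0x5aa29b6297b8655d2503b14831020)) (.node (nat_lit 22) (.leaf (nat_lit 0x54519b5697b865b52503b14831020)) (.leaf (nat_lit 0xab19b5697b865b52503b14831020)))))))⟩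
def s23C2 : LevCert := ⟨s23L2,
    [(nat_lit 4, nat_lit 0), (nat_lit 8, nat_lit 1), (nat_lit 16, nat_lit 2), (nat_lit 9, nat_lit 3), (nat_lit 18, nat_lit 4), (nat_lit 13, nat_lit 5), (nat_lit 3, nat_lit 6), (nat_lit 6, nat_lit 7), (nat_lit 12, nat_lit 8), (nat_lit 5, nat_lit 9), (nat_lit 10, nat_lit 10), (nat_lit 20, nat_lit 11), (nat_lit 17, nat_lit 12), (nat_lit 11, nat_lit 13), (nat_lit 22, nat_lit 14), (nat_lit 21, nat_lit 15), (nat_lit 19, nat_lit 16), (nat_lit 15, nat_lit 17), (nat_lit 7, nat_lit 18), (nat_lit 14, nat_lit 19)],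
    [],
    [nat_lit 0x5ab49ca307b9ac5a924398a818820, nat_lit 0x5ab49ca287b9ac5a930398a418820, nat_lit 0x5ab49ca297b9ac5aa08398a418820, nat_lit 0x5ab49a6307b9ac5aa48398a418820, nat_lit 0x5ab49b6307ba4c5a928398a418820, nat_lit 0x5ab49ca307b86c5a928398a468820, nat_lit 0x5ab49ca307b9ac5a92838ca430820, nat_lit 0x5ab49ca307b9a65a9283b0a418820, nat_lit 0x5ab49ca307b9a55a9283998418820, nat_lit 0x5ab49ca307b9ac595283994418820, nat_lit 0x5aaa9ca307b9ac5d128398a418820, nat_lit 0x5ab19ca907b9ac5a928398a418820, nat_lit 0x5ab49c9707b9ac8a928398a418820, nat_lit 0x2eb49ca307b9acb2928398a418820, nat_lit 0x56d49ca307b9ac5a928398a418820, nat_lit 0x5a74aca307b9ac5a928398a418820, nat_lit 0x5ab47ca309b9ac5a928398a418820, nat_lit 0x5ab49ca303b9ac5a928798a418820, nat_lit 0x5ab49ca3079dac5a928718a418820]⟩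
def s23L3 : Lev := ⟨nat_lit 4, nat_lit 0x7ffff8, (.node (nat_lit 13) (.node (nat_lit 8) (.node (nat_lit 5) (.node (nat_lit 4) (.leaf (nat_lit 0x5ab49b6297b86c5aa50398a820820)) (.leaf (nat_lit 0x5ab49ca307b9ac5a928398a418820))) (.node (nat_lit 6) (.leaf (nat_lit 0x5ab49b6297b8655aa503b08830820)) (.node (nat_lit 7) (.leaf (nat_lit 0x5ab49b6297b86c5aa50390a830820)) (.leaf (nat_lit 0x56717b5693b865b52502314830820))))) (.node (nat_lit 10) (.node (nat_lit 9) (.leaf (nat_lit 0x5ab49ca307b9ac5a924398a818820)) (.leaf (nat_lit 0x5ab49ca297b9ac5a890398a818820))) (.node (nat_lit 11) (.leaf (nat_lit 0x5ab49b6297b865592503b14830820)) (.node (nat_lit 12) (.leaf (nat_lit 0x5ab19b5697b865252503b14830820)) (.leaf (nat_lit 0x5ab49b6297b8645aa503b0a830820)))))) (.node (nat_lit 18) (.node (nat_lit 15) (.node (nat_lit 14) (.leaf (nat_lit 0x5ab49b6297b88c5aa50398a818820)) (.leaf (nat_lit 0x56717b56939065b52507314830820))) (.node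 (nat_lit 16) (.leaf (nat_lit 0x56717b56923865b52503b14830820)) (.node (nat_lit 17) (.leaf (nat_lit 0x5ab49ca247b9ac5a930398a818820)) (.leaf (nat_lit 0x5ab19b4897b8655d2503b14830820))))) (.node (nat_lit 20) (.node (nat_lit 19) (.leaf (nat_lit 0x5ab4992297b9ac5aa50398a818820)) (.leaf (nat_lit 0x5671235697b865b52503b14830820))) (.node (nat_lit 21) (.leaf (nat_lit 0x5aa49b6297b8655d2503b14830820)) (.node (nat_lit 22) (.leaf (nat_lit 0x54919b5697b865b52503b14830820)) (.leaf (nat_lit 0x12b19b5697b865b52503b14830820)))))))⟩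
def s23C3 : LevCert := ⟨s23L3,
    [(nat_lit 8, nat_lit 0), (nat_lit 16, nat_lit 1), (nat_lit 9, nat_lit 2), (nat_lit 18, nat_lit 3), (nat_lit 13, nat_lit 4), (nat_lit 3, nat_lit 5), (nat_lit 6, nat_lit 6), (nat_lit 12, nat_lit 7), (nat_lit 5, nat_lit 8), (nat_lit 10, nat_lit 9), (nat_lit 20, nat_lit 10), (nat_lit 17, nat_lit 11), (nat_lit 11, nat_lit 12), (nat_lit 22, nat_lit 13), (nat_lit 21, nat_lit 14), (nat_lit 19, nat_lit 15), (nat_lit 15, nat_lit 16), (nat_lit 7, nat_lit 17), (nat_lit 14, nat_lit 18)],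
    [],
    [nat_lit 0x5ab49ca287b9ac5a930398a418820, nat_lit 0x5ab49ca297b9ac5aa08398a418820, nat_lit 0x5ab49a6307b9ac5aa48398a418820, nat_lit 0x5ab49b6307ba4c5a928398a418820, nat_lit 0x5ab49ca307b86c5a928398a468820, nat_lit 0x5ab49ca307b9ac5a92838ca430820, nat_lit 0x5ab49ca307b9a65a9283b0a418820, nat_lit 0x5ab49ca307b9a55a9283998418820, nat_lit 0x5ab49ca307b9ac595283994418820, nat_lit 0x5aaa9ca307b9ac5d128398a418820, nat_lit 0x5ab19ca907b9ac5a928398a418820, nat_lit 0x5ab49c9707b9ac8a928398a418820, nat_lit 0x2eb49ca307b9acb2928398a418820, nat_lit 0x56d49ca307b9ac5a928398a418820, nat_lit 0x5a74aca307b9ac5a928398a418820, nat_lit 0x5ab47ca309b9ac5a928398a418820, nat_lit 0x5ab49ca303b9ac5a928798a418820, nat_lit 0x5ab49ca3079dac5a928718a418820]⟩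
def s23L4 : Lev := ⟨nat_lit 8, nat_lit 0x7fffe8, (.node (nat_lit 13) (.node (nat_lit 8) (.node (nat_lit 6) (.node (nat_lit 5) (.leaf (nat_lit 0x5ab49b6297b86c5aa50398a440820)) (.leaf (nat_lit 0x5ab49b6297b8655aa503b10430820))) (.node (nat_lit 7) (.leaf (nat_lit 0x5ab49b6297b86c5aa503a0a430820)) (.leaf (nat_lit 0x56717b5693b865b52504314430820)))) (.node (nat_lit 10) (.node (nat_lit 9) (.leaf (nat_lit 0x5ab49ca307b9ac5a928398a418820)) (.leaf (nat_lit 0x5ab49ca297b9ac5a910398a418820))) (.node (nat_lit 11) (.leaf (nat_lit 0x5ab49b6297b8655a2503b14430820)) (.node (nat_lit 12) (.leaf (nat_lit 0x5ab19b5697b865452503b14430820)) (.leaf (nat_lit 0x5ab49b6297b8685aa503b0a430820)))))) (.node (nat_lit 18) (.node (nat_lit 15) (.node (nat_lit 14) (.leaf (nat_lit 0x5ab49b6297b90c5aa50398a418820)) (.leaf (nat_lit 0x56717b5693a065b52507314430820))) (.node (nat_lit 16) (.leaf (nat_lit 0x56717b56943865b52503b14430820)) (.node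 (nat_lit 17) (.leaf (nat_lit 0x5ab49ca287b9ac5a930398a418820)) (.leaf (nat_lit 0x5ab19b5097b8655d2503b14430820))))) (.node (nat_lit 20) (.node (nat_lit 19) (.leaf (nat_lit 0x5ab49a2297b9ac5aa50398a418820)) (.leaf (nat_lit 0x5671435697b865b52503b14430820))) (.node (nat_lit 21) (.leaf (nat_lit 0x5aa89b6297b8655d2503b14430820)) (.node (nat_lit 22) (.leaf (nat_lit 0x55119b5697b865b52503b14430820)) (.leaf (nat_lit 0x22b19b5697b865b52503b14430820)))))))⟩
def s23C4 : LevCert := ⟨s23L4,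
    [(nat_lit 16, nat_lit 0), (nat_lit 9, nat_lit 1), (nat_lit 18, nat_lit 2), (nat_lit 13, nat_lit 3), (nat_lit 3, nat_lit 4), (nat_lit 6, nat_lit 5), (nat_lit 12, nat_lit 6), (nat_lit 5, nat_lit 7), (nat_lit 10, nat_lit 8), (nat_lit 20, nat_lit 9), (nat_lit 17, nat_lit 10), (nat_lit 11, nat_lit 11), (nat_lit 22, nat_lit 12), (nat_lit 21, nat_lit 13), (nat_lit 19, nat_lit 14), (nat_lit 15, nat_lit 15), (nat_lit 7, nat_lit 16), (nat_lit 14, nat_lit 17)],
    [],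
    [nat_lit 0x5ab49ca297b9ac5aa08398a418820, nat_lit 0x5ab49a6307b9ac5aa48398a418820, nat_lit 0x5ab49b6307ba4c5a928398a418820, nat_lit 0x5ab49ca307b86c5a928398a468820, nat_lit 0x5ab49ca307b9ac5a92838ca430820, nat_lit 0x5ab49ca307b9a65a9283b0a418820, nat_lit 0x5ab49ca307b9a55a9283998418820, nat_lit 0x5ab49ca307b9ac595283994418820, nat_lit 0x5aaa9ca307b9ac5d128398a418820, nat_lit 0x5ab19ca907b9ac5a928398a418820, nat_lit 0x5ab49c9707b9ac8a928398a418820, nat_lit 0x2eb49ca307b9acb2928398a418820, nat_lit 0x56d49ca307b9ac5a928398a418820, nat_lit 0x5a74aca307b9ac5a928398a418820, nat_lit 0x5ab47ca309b9ac5a928398a418820, nat_lit 0x5ab49ca303b9ac5a928798a418820, nat_lit 0x5ab49ca3079dac5a928718a418820]⟩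
def s23L5 : Lev := ⟨nat_lit 16, nat_lit 0x7ffee8, (.node (nat_lit 14) (.node (nat_lit 9) (.node (nat_lit 6) (.node (nat_lit 5) (.leaf (nat_lit 0x5ab49b6297b86c5aa48398a480820)) (.leaf (nat_lit 0x5ab49b6297b8655aa483b20430820))) (.node (nat_lit 7) (.leaf (nat_lit 0x5ab49b6297b86c5aa483c0a430820)) (.leaf (nat_lit 0x56717b5693b865b52488314430820)))) (.node (nat_lit 11) (.node (nat_lit 10) (.leaf (nat_lit 0x5ab49ca297b9ac5aa08398a418820)) (.leaf (nat_lit 0x5ab49b6297b8655c2483b14430820))) (.node (nat_lit 12) (.leaf (nat_lit 0x5ab19b5697b865852483b14430820)) (.node (nat_lit 13) (.leaf (nat_lit 0x5ab49b6297b8705aa483b0a430820)) (.leaf (nat_lit 0x5ab49b6297ba0c5aa48398a418820)))))) (.node (nat_lit 18) (.node (nat_lit 16) (.node (nat_lit 15) (.leaf (nat_lit 0x56717b5693c065b52487314430820)) (.leaf (nat_lit 0x56717b56983865b52483b14430820))) (.node (nat_lit 17) (.leaf (nat_lit 0x5ab49ca307b9ac5a928398a418820)) (.leaf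 (nat_lit 0x5ab19b6097b8655d2483b14430820)))) (.node (nat_lit 20) (.node (nat_lit 19) (.leaf (nat_lit 0x5ab49c2297b9ac5aa48398a418820)) (.leaf (nat_lit 0x5671835697b865b52483b14430820))) (.node (nat_lit 21) (.leaf (nat_lit 0x5ab09b6297b8655d2483b14430820)) (.node (nat_lit 22) (.leaf (nat_lit 0x56119b5697b865b52483b14430820)) (.leaf (nat_lit 0x42b19b5697b865b52483b14430820)))))))⟩
def s23C5 : LevCert := ⟨s23L5,
    [(nat_lit 9, nat_lit 0), (nat_lit 18, nat_lit 1), (nat_lit 13, nat_lit 2), (nat_lit 3, nat_lit 3), (nat_lit 6, nat_lit 4), (nat_lit 12, nat_lit 5), (nat_lit 5, nat_lit 6), (nat_lit 10, nat_lit 7), (nat_lit 20, nat_lit 8), (nat_lit 17, nat_lit 9), (nat_lit 11, nat_lit 10), (nat_lit 22, nat_lit 11), (nat_lit 21, nat_lit 12), (nat_lit 19, nat_lit 13), (nat_lit 15, nat_lit 14), (nat_lit 7, nat_lit 15), (nat_lit 14, nat_lit 16)],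
    [],
    [nat_lit 0x5ab49a6307b9ac5aa48398a418820, nat_lit 0x5ab49b6307ba4c5a928398a418820, nat_lit 0x5ab49ca307b86c5a928398a468820, nat_lit 0x5ab49ca307b9ac5a92838ca430820, nat_lit 0x5ab49ca307b9a65a9283b0a418820, nat_lit 0x5ab49ca307b9a55a9283998418820, nat_lit 0x5ab49ca307b9ac595283994418820, nat_lit 0x5aaa9ca307b9ac5d128398a418820, nat_lit 0x5ab19ca907b9ac5a928398a418820, nat_lit 0x5ab49c9707b9ac8a928398a418820, nat_lit 0x2eb49ca307b9acb2928398a418820, nat_lit 0x56d49ca307b9ac5a928398a418820, nat_lit 0x5a74aca307b9ac5a928398a418820, nat_lit 0x5ab47ca309b9ac5a928398a418820, nat_lit 0x5ab49ca303b9ac5a928798a418820, nat_lit 0x5ab49ca3079dac5a928718a418820]⟩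
def s23L6 : Lev := ⟨nat_lit 9, nat_lit 0x7efee8, (.node (nat_lit 13) (.node (nat_lit 9) (.node (nat_lit 6) (.node (nat_lit 5) (.leaf (nat_lit 0x5ab49b6307b86c5aa48398a448820)) (.leaf (nat_lit 0x5ab49b6307b8655aa483b12430820))) (.node (nat_lit 7) (.leaf (nat_lit 0x5ab49b6307b86c5aa483a4a430820)) (.leaf (nat_lit 0x56717b5703b865b52484b14430820)))) (.node (nat_lit 11) (.node (nat_lit 10) (.leaf (nat_lit 0x5ab49ca307b9ac5a928398a418820)) (.leaf (nat_lit 0x5ab49b6307b8655a6483b14430820))) (.node (nat_lit 12) (.leaf (nat_lit 0x5ab19b5707b8654d2483b14430820)) (.leaf (nat_lit 0x5ab49b6307b8695aa483b0a430820))))) (.node (nat_lit 18) (.node (nat_lit 15) (.node (nat_lit 14) (.leaf (nat_lit 0x5ab49b6307b92c5aa48398a418820)) (.leaf (nat_lit 0x56717b5703a465b52487314430820))) (.node (nat_lit 17) (.leaf (nat_lit 0x56717b5704b865b52483b14430820)) (.leaf (nat_lit 0x5ab19b5307b8655d2483b14430820)))) (.node (nat_lit 20) (.node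 (nat_lit 19) (.leaf (nat_lit 0x5ab49a6307b9ac5aa48398a418820)) (.leaf (nat_lit 0x56714b5707b865b52483b14430820))) (.node (nat_lit 21) (.leaf (nat_lit 0x5aa99b6307b8655d2483b14430820)) (.node (nat_lit 22) (.leaf (nat_lit 0x55319b5707b865b52483b14430820)) (.leaf (nat_lit 0x26b19b5707b865b52483b14430820)))))))⟩
def s23C6 : LevCert := ⟨s23L6,
    [(nat_lit 18, nat_lit 0), (nat_lit 13, nat_lit 1), (nat_lit 3, nat_lit 2), (nat_lit 6, nat_lit 3), (nat_lit 12, nat_lit 4), (nat_lit 5, nat_lit 5), (nat_lit 10, nat_lit 6), (nat_lit 20, nat_lit 7), (nat_lit 17, nat_lit 8), (nat_lit 11, nat_lit 9), (nat_lit 22, nat_lit 10), (nat_lit 21, nat_lit 11), (nat_lit 19, nat_lit 12), (nat_lit 15, nat_lit 13), (nat_lit 7, nat_lit 14), (nat_lit 14, nat_lit 15)],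
    [],
    [nat_lit 0x5ab49b6307ba4c5a928398a418820, nat_lit 0x5ab49ca307b86c5a928398a468820, nat_lit 0x5ab49ca307b9ac5a92838ca430820, nat_lit 0x5ab49ca307b9a65a9283b0a418820, nat_lit 0x5ab49ca307b9a55a9283998418820, nat_lit 0x5ab49ca307b9ac595283994418820, nat_lit 0x5aaa9ca307b9ac5d128398a418820, nat_lit 0x5ab19ca907b9ac5a928398a418820, nat_lit 0x5ab49c9707b9ac8a928398a418820, nat_lit 0x2eb49ca307b9acb2928398a418820, nat_lit 0x56d49ca307b9ac5a928398a418820, nat_lit 0x5a74aca307b9ac5a928398a418820, nat_lit 0x5ab47ca309b9ac5a928398a418820, nat_lit 0x5ab49ca303b9ac5a928798a418820, nat_lit 0x5ab49ca3079dac5a928718a418820]⟩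
def s23L7 : Lev := ⟨nat_lit 18, nat_lit 0x7efce8, (.node (nat_lit 14) (.node (nat_lit 10) (.node (nat_lit 6) (.node (nat_lit 5) (.leaf (nat_lit 0x5ab49b6307b86c5a928398a490820)) (.leaf (nat_lit 0x5ab49b6307b8655a9283b24430820))) (.node (nat_lit 7) (.leaf (nat_lit 0x5ab49b6307b86c5a9283c8a430820)) (.leaf (nat_lit 0x56717b5703b865b51289314430820)))) (.node (nat_lit 12) (.node (nat_lit 11) (.leaf (nat_lit 0x5ab49b6307b8655c9283b14430820)) (.leaf (nat_lit 0x5ab19b5707b865951283b14430820))) (.node (nat_lit 13) (.leaf (nat_lit 0x5ab49b6307b8725a9283b0a430820)) (.leaf (nat_lit 0x5ab49b6307ba4c5a928398a418820))))) (.node (nat_lit 19) (.node (nat_lit 17) (.node (nat_lit 15) (.leaf (nat_lit 0x56717b5703c865b51287314430820)) (.leaf (nat_lit 0x56717b57093865b51283b14430820))) (.node (nat_lit 18) (.leaf (nat_lit 0x5ab19b6507b8655d1283b14430820)) (.leaf (nat_lit 0x5ab49ca307b9ac5a928398a418820)))) (.node (nat_lit 21) (.node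 (nat_lit 20) (.leaf (nat_lit 0x5671935707b865b51283b14430820)) (.leaf (nat_lit 0x5ab29b6307b8655d1283b14430820))) (.node (nat_lit 22) (.leaf (nat_lit 0x56519b5707b865b51283b14430820)) (.leaf (nat_lit 0x4ab19b5707b865b51283b14430820))))))⟩
def s23C7 : LevCert := ⟨s23L7,
    [(nat_lit 13, nat_lit 0), (nat_lit 3, nat_lit 1), (nat_lit 6, nat_lit 2), (nat_lit 12, nat_lit 3), (nat_lit 5, nat_lit 4), (nat_lit 10, nat_lit 5), (nat_lit 20, nat_lit 6), (nat_lit 17, nat_lit 7), (nat_lit 11, nat_lit 8), (nat_lit 22, nat_lit 9), (nat_lit 21, nat_lit 10), (nat_lit 19, nat_lit 11), (nat_lit 15, nat_lit 12), (nat_lit 7, nat_lit 13), (nat_lit 14, nat_lit 14)],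
    [],
    [nat_lit 0x5ab49ca307b86c5a928398a468820, nat_lit 0x5ab49ca307b9ac5a92838ca430820, nat_lit 0x5ab49ca307b9a65a9283b0a418820, nat_lit 0x5ab49ca307b9a55a9283998418820, nat_lit 0x5ab49ca307b9ac595283994418820, nat_lit 0x5aaa9ca307b9ac5d128398a418820, nat_lit 0x5ab19ca907b9ac5a928398a418820, nat_lit 0x5ab49c9707b9ac8a928398a418820, nat_lit 0x2eb49ca307b9acb2928398a418820, nat_lit 0x56d49ca307b9ac5a928398a418820, nat_lit 0x5a74aca307b9ac5a928398a418820, nat_lit 0x5ab47ca309b9ac5a928398a418820, nat_lit 0x5ab49ca303b9ac5a928798a418820, nat_lit 0x5ab49ca3079dac5a928718a418820]⟩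
def s23L8 : Lev := ⟨nat_lit 13, nat_lit 0x7afce8, (.node (nat_lit 13) (.node (nat_lit 7) (.node (nat_lit 5) (.leaf (nat_lit 0x5ab49ca307b86c5a928398a468820)) (.node (nat_lit 6) (.leaf (nat_lit 0x5ab49ca307b8655a9283b1a430820)) (.leaf (nat_lit 0x5ab49ca307b86c5a9283b4a430820)))) (.node (nat_lit 11) (.node (nat_lit 10) (.leaf (nat_lit 0x56717c9703b865b51286b14430820)) (.leaf (nat_lit 0x5ab49ca307b8655b5283b14430820))) (.node (nat_lit 12) (.leaf (nat_lit 0x5ab19c9707b8656d1283b14430820)) (.leaf (nat_lit 0x5ab49ca307b86d5a9283b0a430820))))) (.node (nat_lit 19) (.node (nat_lit 15) (.node (nat_lit 14) (.leaf (nat_lit 0x5ab49ca307b9ac5a928398a418820)) (.leaf (nat_lit 0x56717c9703b465b51287314430820))) (.node (nat_lit 17) (.leaf (nat_lit 0x56717c9706b865b51283b14430820)) (.leaf (nat_lit 0x5ab19c9b07b8655d1283b14430820)))) (.node (nat_lit 21) (.node (nat_lit 20) (.leaf (nat_lit 0x56716c9707b865b51283b14430820)) (.leaf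 (nat_lit 0x5aad9ca307b8655d1283b14430820))) (.node (nat_lit 22) (.leaf (nat_lit 0x55b19c9707b865b51283b14430820)) (.leaf (nat_lit 0x36b19c9707b865b51283b14430820))))))⟩
def s23C8 : LevCert := ⟨s23L8,
    [(nat_lit 3, nat_lit 0), (nat_lit 6, nat_lit 1), (nat_lit 12, nat_lit 2), (nat_lit 5, nat_lit 3), (nat_lit 10, nat_lit 4), (nat_lit 20, nat_lit 5), (nat_lit 17, nat_lit 6), (nat_lit 11, nat_lit 7), (nat_lit 22, nat_lit 8), (nat_lit 21, nat_lit 9), (nat_lit 19, nat_lit 10), (nat_lit 15, nat_lit 11), (nat_lit 7, nat_lit 12), (nat_lit 14, nat_lit 13)],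
    [],
    [nat_lit 0x5ab49ca307b9ac5a92838ca430820, nat_lit 0x5ab49ca307b9a65a9283b0a418820, nat_lit 0x5ab49ca307b9a55a9283998418820, nat_lit 0x5ab49ca307b9ac595283994418820, nat_lit 0x5aaa9ca307b9ac5d128398a418820, nat_lit 0x5ab19ca907b9ac5a928398a418820, nat_lit 0x5ab49c9707b9ac8a928398a418820, nat_lit 0x2eb49ca307b9acb2928398a418820, nat_lit 0x56d49ca307b9ac5a928398a418820, nat_lit 0x5a74aca307b9ac5a928398a418820, nat_lit 0x5ab47ca309b9ac5a928398a418820, nat_lit 0x5ab49ca303b9ac5a928798a418820, nat_lit 0x5ab49ca3079dac5a928718a418820]⟩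
def s23L9 : Lev := ⟨nat_lit 3, nat_lit 0x7adce8, (.node (nat_lit 14) (.node (nat_lit 7) (.node (nat_lit 5) (.leaf (nat_lit 0x5ab49ca307b9ac5a928398a418820)) (.node (nat_lit 6) (.leaf (nat_lit 0x5ab49ca307b9a55a9283b06430820)) (.leaf (nat_lit 0x5ab49ca307b9ac5a92838ca430820)))) (.node (nat_lit 11) (.node (nat_lit 10) (.leaf (nat_lit 0x56717c9703b9a5b51281b14430820)) (.leaf (nat_lit 0x5ab49ca307b9a558d283b14430820))) (.node (nat_lit 12) (.leaf (nat_lit 0x5ab19c9707b9a51d1283b14430820)) (.leaf (nat_lit 0x5ab49ca307b9a35a9283b0a430820))))) (.node (nat_lit 19) (.node (nat_lit 15) (.leaf (nat_lit 0x56717c97038da5b51287314430820)) (.node (nat_lit 17) (.leaf (nat_lit 0x56717c9701b9a5b51283b14430820)) (.leaf (nat_lit 0x5ab19c8707b9a55d1283b14430820)))) (.node (nat_lit 21) (.node (nat_lit 20) (.leaf (nat_lit 0x56711c9707b9a5b51283b14430820)) (.leaf (nat_lit 0x5aa39ca307b9a55d1283b14430820))) (.node (nat_lit 22) (.leaf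 (nat_lit 0x54719c9707b9a5b51283b14430820)) (.leaf (nat_lit 0xeb19c9707b9a5b51283b14430820))))))⟩
def s23C9 : LevCert := ⟨s23L9,
    [(nat_lit 6, nat_lit 0), (nat_lit 12, nat_lit 1), (nat_lit 5, nat_lit 2), (nat_lit 10, nat_lit 3), (nat_lit 20, nat_lit 4), (nat_lit 17, nat_lit 5), (nat_lit 11, nat_lit 6), (nat_lit 22, nat_lit 7), (nat_lit 21, nat_lit 8), (nat_lit 19, nat_lit 9), (nat_lit 15, nat_lit 10), (nat_lit 7, nat_lit 11), (nat_lit 14, nat_lit 12)],
    [],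
    [nat_lit 0x5ab49ca307b9a65a9283b0a418820, nat_lit 0x5ab49ca307b9a55a9283998418820, nat_lit 0x5ab49ca307b9ac595283994418820, nat_lit 0x5aaa9ca307b9ac5d128398a418820, nat_lit 0x5ab19ca907b9ac5a928398a418820, nat_lit 0x5ab49c9707b9ac8a928398a418820, nat_lit 0x2eb49ca307b9acb2928398a418820, nat_lit 0x56d49ca307b9ac5a928398a418820, nat_lit 0x5a74aca307b9ac5a928398a418820, nat_lit 0x5ab47ca309b9ac5a928398a418820, nat_lit 0x5ab49ca303b9ac5a928798a418820, nat_lit 0x5ab49ca3079dac5a928718a418820]⟩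
def s23L10 : Lev := ⟨nat_lit 6, nat_lit 0x7adce0, (.node (nat_lit 14) (.node (nat_lit 10) (.node (nat_lit 6) (.leaf (nat_lit 0x5ab49ca307b9a55a9283b0c418820)) (.node (nat_lit 7) (.leaf (nat_lit 0x5ab49ca307b9ac5a928398a418820)) (.leaf (nat_lit 0x56717c9703b9a5b51283314418820)))) (.node (nat_lit 11) (.leaf (nat_lit 0x5ab49ca307b9a5599283b14418820)) (.node (nat_lit 12) (.leaf (nat_lit 0x5ab19c9707b9a5351283b14418820)) (.leaf (nat_lit 0x5ab49ca307b9a65a9283b0a418820))))) (.node (nat_lit 19) (.node (nat_lit 15) (.leaf (nat_lit 0x56717c970399a5b51287314418820)) (.node (nat_lit 17) (.leaf (nat_lit 0x56717c970339a5b51283b14418820)) (.leaf (nat_lit 0x5ab19c8d07b9a55d1283b14418820)))) (.node (nat_lit 21) (.node (nat_lit 20) (.leaf (nat_lit 0x5671349707b9a5b51283b14418820)) (.leaf (nat_lit 0x5aa69ca307b9a55d1283b14418820))) (.node (nat_lit 22) (.leaf (nat_lit 0x54d19c9707b9a5b51283b14418820)) (.leaf (nat_lit 0x1ab19c9707b9a5b51283b14418820))))))⟩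
def s23C10 : LevCert := ⟨s23L10,
    [(nat_lit 12, nat_lit 0), (nat_lit 5, nat_lit 1), (nat_lit 10, nat_lit 2), (nat_lit 20, nat_lit 3), (nat_lit 17, nat_lit 4), (nat_lit 11, nat_lit 5), (nat_lit 22, nat_lit 6), (nat_lit 21, nat_lit 7), (nat_lit 19, nat_lit 8), (nat_lit 15, nat_lit 9), (nat_lit 7, nat_lit 10), (nat_lit 14, nat_lit 11)],
    [],
    [nat_lit 0x5ab49ca307b9a55a9283998418820, nat_lit 0x5ab49ca307b9ac595283994418820, nat_lit 0x5aaa9ca307b9ac5d128398a418820, nat_lit 0x5ab19ca907b9ac5a928398a418820, nat_lit 0x5ab49c9707b9ac8a928398a418820, nat_lit 0x2eb49ca307b9acb2928398a418820, nat_lit 0x56d49ca307b9ac5a928398a418820, nat_lit 0x5a74aca307b9ac5a928398a418820, nat_lit 0x5ab47ca309b9ac5a928398a418820, nat_lit 0x5ab49ca303b9ac5a928798a418820, nat_lit 0x5ab49ca3079dac5a928718a418820]⟩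
def s23L11 : Lev := ⟨nat_lit 12, nat_lit 0x7adca0, (.node (nat_lit 15) (.node (nat_lit 11) (.node (nat_lit 7) (.leaf (nat_lit 0x5ab49ca307b9a55a9283998418820)) (.node (nat_lit 10) (.leaf (nat_lit 0x56717c9703b9a5b51286194418820)) (.leaf (nat_lit 0x5ab49ca307b9a55b1283994418820)))) (.node (nat_lit 12) (.leaf (nat_lit 0x5ab19c9707b9a5651283994418820)) (.node (nat_lit 14) (.leaf (nat_lit 0x5ab49ca307b9ac5a928398a418820)) (.leaf (nat_lit 0x56717c9703b1a5b51287194418820))))) (.node (nat_lit 20) (.node (nat_lit 17) (.leaf (nat_lit 0x56717c970639a5b51283994418820)) (.node (nat_lit 19) (.leaf (nat_lit 0x5ab19c9907b9a55d1283994418820)) (.leaf (nat_lit 0x5671649707b9a5b51283994418820)))) (.node (nat_lit 21) (.leaf (nat_lit 0x5aac9ca307b9a55d1283994418820)) (.node (nat_lit 22) (.leaf (nat_lit 0x55919c9707b9a5b51283994418820)) (.leaf (nat_lit 0x32b19c9707b9a5b51283994418820))))))⟩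
def s23C11 : LevCert := ⟨s23L11,
    [(nat_lit 5, nat_lit 0), (nat_lit 10, nat_lit 1), (nat_lit 20, nat_lit 2), (nat_lit 17, nat_lit 3), (nat_lit 11, nat_lit 4), (nat_lit 22, nat_lit 5), (nat_lit 21, nat_lit 6), (nat_lit 19, nat_lit 7), (nat_lit 15, nat_lit 8), (nat_lit 7, nat_lit 9), (nat_lit 14, nat_lit 10)],
    [],
    [nat_lit 0x5ab49ca307b9ac595283994418820, nat_lit 0x5aaa9ca307b9ac5d128398a418820, nat_lit 0x5ab19ca907b9ac5a928398a418820, nat_lit 0x5ab49c9707b9ac8a928398a418820, nat_lit 0x2eb49ca307b9acb2928398a418820, nat_lit 0x56d49ca307b9ac5a928398a418820, nat_lit 0x5a74aca307b9ac5a928398a418820, nat_lit 0x5ab47ca309b9ac5a928398a418820, nat_lit 0x5ab49ca303b9ac5a928798a418820, nat_lit 0x5ab49ca3079dac5a928718a418820]⟩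
def s23L12 : Lev := ⟨nat_lit 5, nat_lit 0x7acca0, (.node (nat_lit 15) (.node (nat_lit 10) (.node (nat_lit 7) (.leaf (nat_lit 0x5ab49ca307b9ac5a928398a418820)) (.leaf (nat_lit 0x56717c9703b9acb51282994418820))) (.node (nat_lit 11) (.leaf (nat_lit 0x5ab49ca307b9ac595283994418820)) (.node (nat_lit 14) (.leaf (nat_lit 0x5ab19c9707b9ac2d1283994418820)) (.leaf (nat_lit 0x56717c970395acb51287194418820))))) (.node (nat_lit 20) (.node (nat_lit 17) (.leaf (nat_lit 0x56717c9702b9acb51283994418820)) (.node (nat_lit 19) (.leaf (nat_lit 0x5ab19c8b07b9ac5d1283994418820)) (.leaf (nat_lit 0x56712c9707b9acb51283994418820)))) (.node (nat_lit 21) (.leaf (nat_lit 0x5aa59ca307b9ac5d1283994418820)) (.node (nat_lit 22) (.leaf (nat_lit 0x54b19c9707b9acb51283994418820)) (.leaf (nat_lit 0x16b19c9707b9acb51283994418820))))))⟩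
def s23C12 : LevCert := ⟨s23L12,
    [(nat_lit 10, nat_lit 0), (nat_lit 20, nat_lit 1), (nat_lit 17, nat_lit 2), (nat_lit 11, nat_lit 3), (nat_lit 22, nat_lit 4), (nat_lit 21, nat_lit 5), (nat_lit 19, nat_lit 6), (nat_lit 15, nat_lit 7), (nat_lit 7, nat_lit 8), (nat_lit 14, nat_lit 9)],
    [],
    [nat_lit 0x5aaa9ca307b9ac5d128398a418820, nat_lit 0x5ab19ca907b9ac5a928398a418820, nat_lit 0x5ab49c9707b9ac8a928398a418820, nat_lit 0x2eb49ca307b9acb2928398a418820, nat_lit 0x56d49ca307b9ac5a928398a418820, nat_lit 0x5a74aca307b9ac5a928398a418820, nat_lit 0x5ab47ca309b9ac5a928398a418820, nat_lit 0x5ab49ca303b9ac5a928798a418820, nat_lit 0x5ab49ca3079dac5a928718a418820]⟩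
def s23L13 : Lev := ⟨nat_lit 10, nat_lit 0x7acc80, (.node (nat_lit 17) (.node (nat_lit 11) (.node (nat_lit 10) (.leaf (nat_lit 0x56717c9703b9acb5128518a418820)) (.leaf (nat_lit 0x5ab49ca307b9ac5a928398a418820))) (.node (nat_lit 14) (.leaf (nat_lit 0x5ab19c9707b9ac55128398a418820)) (.node (nat_lit 15) (.leaf (nat_lit 0x56717c9703a9acb5128718a418820)) (.leaf (nat_lit 0x56717c970539acb5128398a418820))))) (.node (nat_lit 20) (.node (nat_lit 19) (.leaf (nat_lit 0x5ab19c9507b9ac5d128398a418820)) (.leaf (nat_lit 0x5671549707b9acb5128398a418820))) (.node (nat_lit 21) (.leaf (nat_lit 0x5aaa9ca307b9ac5d128398a418820)) (.node (nat_lit 22) (.leaf (nat_lit 0x55519c9707b9acb5128398a418820)) (.leaf (nat_lit 0x2ab19c9707b9acb5128398a418820))))))⟩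
def s23C13 : LevCert := ⟨s23L13,
    [(nat_lit 20, nat_lit 0), (nat_lit 17, nat_lit 1), (nat_lit 11, nat_lit 2), (nat_lit 22, nat_lit 3), (nat_lit 21, nat_lit 4), (nat_lit 19, nat_lit 5), (nat_lit 15, nat_lit 6), (nat_lit 7, nat_lit 7), (nat_lit 14, nat_lit 8)],
    [],
    [nat_lit 0x5ab19ca907b9ac5a928398a418820, nat_lit 0x5ab49c9707b9ac8a928398a418820, nat_lit 0x2eb49ca307b9acb2928398a418820, nat_lit 0x56d49ca307b9ac5a928398a418820, nat_lit 0x5a74aca307b9ac5a928398a418820, nat_lit 0x5ab47ca309b9ac5a928398a418820, nat_lit 0x5ab49ca303b9ac5a928798a418820, nat_lit 0x5ab49ca3079dac5a928718a418820]⟩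
def s23L14 : Lev := ⟨nat_lit 20, nat_lit 0x7ac880, (.node (nat_lit 17) (.node (nat_lit 14) (.node (nat_lit 11) (.leaf (nat_lit 0x56717c9703b9acb2928a18a418820)) (.leaf (nat_lit 0x5ab19c9707b9aca2928398a418820))) (.node (nat_lit 15) (.leaf (nat_lit 0x56717c9703d1acb2928718a418820)) (.leaf (nat_lit 0x56717c970a39acb2928398a418820)))) (.node (nat_lit 20) (.node (nat_lit 19) (.leaf (nat_lit 0x5ab19ca907b9ac5a928398a418820)) (.leaf (nat_lit 0x5671a49707b9acb2928398a418820))) (.node (nat_lit 21) (.leaf (nat_lit 0x5ab49ca307b9ac5a928398a418820)) (.node (nat_lit 22) (.leaf (nat_lit 0x56919c9707b9acb2928398a418820)) (.leaf (nat_lit 0x52b19c9707b9acb2928398a418820))))))⟩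
def s23C14 : LevCert := ⟨s23L14,
    [(nat_lit 17, nat_lit 0), (nat_lit 11, nat_lit 1), (nat_lit 22, nat_lit 2), (nat_lit 21, nat_lit 3), (nat_lit 19, nat_lit 4), (nat_lit 15, nat_lit 5), (nat_lit 7, nat_lit 6), (nat_lit 14, nat_lit 7)],
    [],
    [nat_lit 0x5ab49c9707b9ac8a928398a418820, nat_lit 0x2eb49ca307b9acb2928398a418820, nat_lit 0x56d49ca307b9ac5a928398a418820, nat_lit 0x5a74aca307b9ac5a928398a418820, nat_lit 0x5ab47ca309b9ac5a928398a418820, nat_lit 0x5ab49ca303b9ac5a928798a418820, nat_lit 0x5ab49ca3079dac5a928718a418820]⟩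
def s23L15 : Lev := ⟨nat_lit 17, nat_lit 0x6ac880, (.node (nat_lit 17) (.node (nat_lit 14) (.node (nat_lit 11) (.leaf (nat_lit 0x56747c9703b9acb2928898a418820)) (.leaf (nat_lit 0x5ab49c9707b9ac8a928398a418820))) (.node (nat_lit 15) (.leaf (nat_lit 0x56747c9703c5acb2928718a418820)) (.leaf (nat_lit 0x56747c9708b9acb2928398a418820)))) (.node (nat_lit 21) (.node (nat_lit 19) (.leaf (nat_lit 0x5ab49ca307b9ac5a928398a418820)) (.leaf (nat_lit 0x56748c9707b9acb2928398a418820))) (.node (nat_lit 22) (.leaf (nat_lit 0x56349c9707b9acb2928398a418820)) (.leaf (nat_lit 0x46b49c9707b9acb2928398a418820)))))⟩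
def s23C15 : LevCert := ⟨s23L15,
    [(nat_lit 11, nat_lit 0), (nat_lit 22, nat_lit 1), (nat_lit 21, nat_lit 2), (nat_lit 19, nat_lit 3), (nat_lit 15, nat_lit 4), (nat_lit 7, nat_lit 5), (nat_lit 14, nat_lit 6)],
    [],
    [nat_lit 0x2eb49ca307b9acb2928398a418820, nat_lit 0x56d49ca307b9ac5a928398a418820, nat_lit 0x5a74aca307b9ac5a928398a418820, nat_lit 0x5ab47ca309b9ac5a928398a418820, nat_lit 0x5ab49ca303b9ac5a928798a418820, nat_lit 0x5ab49ca3079dac5a928718a418820]⟩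
def s23L16 : Lev := ⟨nat_lit 11, nat_lit 0x68c880, (.node (nat_lit 15) (.node (nat_lit 11) (.leaf (nat_lit 0x56747ca303b9acb2928598a418820)) (.node (nat_lit 14) (.leaf (nat_lit 0x5ab49ca307b9ac5a928398a418820)) (.leaf (nat_lit 0x56747ca303adacb2928718a418820)))) (.node (nat_lit 21) (.node (nat_lit 19) (.leaf (nat_lit 0x56747ca305b9acb2928398a418820)) (.leaf (nat_lit 0x56745ca307b9acb2928398a418820))) (.node (nat_lit 22) (.leaf (nat_lit 0x55749ca307b9acb2928398a418820)) (.leaf (nat_lit 0x2eb49ca307b9acb2928398a418820)))))⟩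
def s23C16 : LevCert := ⟨s23L16,
    [(nat_lit 22, nat_lit 0), (nat_lit 21, nat_lit 1), (nat_lit 19, nat_lit 2), (nat_lit 15, nat_lit 3), (nat_lit 7, nat_lit 4), (nat_lit 14, nat_lit 5)],
    [],
    [nat_lit 0x56d49ca307b9ac5a928398a418820, nat_lit 0x5a74aca307b9ac5a928398a418820, nat_lit 0x5ab47ca309b9ac5a928398a418820, nat_lit 0x5ab49ca303b9ac5a928798a418820, nat_lit 0x5ab49ca3079dac5a928718a418820]⟩
def s23L17 : Lev := ⟨nat_lit 22, nat_lit 0x68c080, (.node (nat_lit 19) (.node (nat_lit 14) (.leaf (nat_lit 0x56747ca303b9ac5a928b18a418820)) (.node (nat_lit 15) (.leaf (nat_lit 0x56747ca303d9ac5a928718a418820)) (.leaf (nat_lit 0x56747ca30b39ac5a928398a418820)))) (.node (nat_lit 21) (.leaf (nat_lit 0x5674b4a307b9ac5a928398a418820)) (.node (nat_lit 22) (.leaf (nat_lit 0x56d49ca307b9ac5a928398a418820)) (.leaf (nat_lit 0x5ab49ca307b9ac5a928398a418820)))))⟩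
def s23C17 : LevCert := ⟨s23L17,
    [(nat_lit 21, nat_lit 0), (nat_lit 19, nat_lit 1), (nat_lit 15, nat_lit 2), (nat_lit 7, nat_lit 3), (nat_lit 14, nat_lit 4)],
    [],
    [nat_lit 0x5a74aca307b9ac5a928398a418820, nat_lit 0x5ab47ca309b9ac5a928398a418820, nat_lit 0x5ab49ca303b9ac5a928798a418820, nat_lit 0x5ab49ca3079dac5a928718a418820]⟩
def s23L18 : Lev := ⟨nat_lit 21, nat_lit 0x28c080, (.node (nat_lit 15) (.node (nat_lit 14) (.leaf (nat_lit 0x5a747ca303b9ac5a928a98a418820)) (.leaf (nat_lit 0x5a747ca303d5ac5a928718a418820))) (.node (nat_lit 19) (.leaf (nat_lit 0x5a747ca30ab9ac5a928398a418820)) (.node (nat_lit 21) (.leaf (nat_lit 0x5a74aca307b9ac5a928398a418820)) (.leaf (nat_lit 0x5ab49ca307b9ac5a928398a418820)))))⟩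
def s23C18 : LevCert := ⟨s23L18,
    [(nat_lit 19, nat_lit 0), (nat_lit 15, nat_lit 1), (nat_lit 7, nat_lit 2), (nat_lit 14, nat_lit 3)],
    [],
    [nat_lit 0x5ab47ca309b9ac5a928398a418820, nat_lit 0x5ab49ca303b9ac5a928798a418820, nat_lit 0x5ab49ca3079dac5a928718a418820]⟩
def s23L19 : Lev := ⟨nat_lit 19, nat_lit 0x8c080, (.node (nat_lit 15) (.node (nat_lit 14) (.leaf (nat_lit 0x5ab47ca303b9ac5a928998a418820)) (.leaf (nat_lit 0x5ab47ca303cdac5a928718a418820))) (.node (nat_lit 19) (.leaf (nat_lit 0x5ab47ca309b9ac5a928398a418820)) (.leaf (nat_lit 0x5ab49ca307b9ac5a928398a418820))))⟩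
def s23C19 : LevCert := ⟨s23L19,
    [(nat_lit 15, nat_lit 0), (nat_lit 7, nat_lit 1), (nat_lit 14, nat_lit 2)],
    [],
    [nat_lit 0x5ab49ca303b9ac5a928798a418820, nat_lit 0x5ab49ca3079dac5a928718a418820]⟩
def s23L20 : Lev := ⟨nat_lit 15, nat_lit 0xc080, (.node (nat_lit 14) (.leaf (nat_lit 0x5ab49ca303b9ac5a928798a418820)) (.node (nat_lit 15) (.leaf (nat_lit 0x5ab49ca303bdac5a928718a418820)) (.leaf (nat_lit 0x5ab49ca307b9ac5a928398a418820))))⟩
def s23C20 : LevCert := ⟨s23L20,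
    [(nat_lit 7, nat_lit 0), (nat_lit 14, nat_lit 1)],
    [],
    [nat_lit 0x5ab49ca3079dac5a928718a418820]⟩
def s23L21 : Lev := ⟨nat_lit 7, nat_lit 0x4080, (.node (nat_lit 14) (.leaf (nat_lit 0x5ab49ca307b9ac5a928398a418820)) (.leaf (nat_lit 0x5ab49ca3079dac5a928718a418820)))⟩
def s23C21 : LevCert := ⟨s23L21,
    [(nat_lit 14, nat_lit 0)],
    [],
    []⟩
def s23 : List LevCert := [s23C0, s23C1, s23C2, s23C3, s23C4, s23C5, s23C6, s23C7, s23C8, s23C9, s23C10, s23C11, s23C12, s23C13, s23C14, s23C15, s23C16, s23C17, s23C18, s23C19, s23C20, s23C21]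
def s23G : List ℕ := [nat_lit 0x5ab49ca307b9ac5a928398a418801, nat_lit 0x5ab49ca307b9ac5a928398a418440, nat_lit 0x5ab49ca307b9ac5a928398a219020, nat_lit 0x5ab49ca307b9ac5a924398a818820, nat_lit 0x5ab49ca287b9ac5a930398a418820, nat_lit 0x5ab49ca297b9ac5aa08398a418820, nat_lit 0x5ab49a6307b9ac5aa48398a418820, nat_lit 0x5ab49b6307ba4c5a928398a418820, nat_lit 0x5ab49ca307b86c5a928398a468820, nat_lit 0x5ab49ca307b9ac5a92838ca430820, nat_lit 0x5ab49ca307b9a65a9283b0a418820, nat_lit 0x5ab49ca307b9a55a9283998418820, nat_lit 0x5ab49ca307b9ac595283994418820, nat_lit 0x5aaa9ca307b9ac5d128398a418820, nat_lit 0x5ab19ca907b9ac5a928398a418820, nat_lit 0x5ab49c9707b9ac8a928398a418820, nat_lit 0x2eb49ca307b9acb2928398a418820, nat_lit 0x56d49ca307b9ac5a928398a418820, nat_lit 0x5a74aca307b9ac5a928398a418820, nat_lit 0x5ab47ca309b9ac5a928398a418820, nat_lit 0x5ab49ca303b9ac5a928798a418820, nat_lit 0x5ab49ca3079dac5a928718a418820]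
def g23L0 : Lev := ⟨nat_lit 0, nat_lit 0x7fffff, (.node (nat_lit 11) (.node (nat_lit 5) (.node (nat_lit 2) (.node (nat_lit 1) (.leaf (nat_lit 0x5ab49ca307b9ac5a928398a418820)) (.leaf (nat_lit 0x144cb3870248ea9a4347a2ad5c406))) (.node (nat_lit 3) (.leaf (nat_lit 0x99670e0491d534868f455ab880c5)) (.node (nat_lit 4) (.leaf (nat_lit 0x32ce1c0923aa690d1e8ab571018a2)) (.leaf (nat_lit 0xed2728c2ac5a928690620809bd67))))) (.node (nat_lit 8) (.node (nat_lit 6) (.leaf (nat_lit 0x5a4e518558b5250d20c410137ace3)) (.node (nat_lit 7) (.leaf (nat_lit 0x594b3dc81d60d22e513814699522)) (.leaf (nat_lit 0x32967b903ac1a45ca27028d32a441)))) (.node (nat_lit 9) (.leaf (nat_lit 0x12ccac0e5a0db35b9000c94f34522)) (.node (nat_lit 10) (.leaf (nat_lit 0xc36a4a0e62906208159c5ed5a4e5)) (.leaf (nat_lit 0x6d4941cc520c4102b38bdab49ca3)))))) (.node (nat_lit 17) (.node (nat_lit 14) (.node (nat_lit 12) (.leaf (nat_lit 0x5a928398a41882056717b56939461))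 (.node (nat_lit 13) (.leaf (nat_lit 0x47654ea671d20a124d63d708a0a2)) (.leaf (nat_lit 0x58643cc2faac0563a12526886c4c2)))) (.node (nat_lit 15) (.leaf (nat_lit 0x68f455ab880c5132ce1c0923aa69)) (.node (nat_lit 16) (.leaf (nat_lit 0x51e8ab571018a2659c38124754d21)) (.leaf (nat_lit 0x690620809bd671da4e518558b525))))) (.node (nat_lit 20) (.node (nat_lit 18) (.leaf (nat_lit 0x520c410137ace3b49ca30ab16a4a1)) (.node (nat_lit 19) (.leaf (nat_lit 0x1062082d5a4e5183dcd62d4941cc5)) (.leaf (nat_lit 0xc4105ab49ca307b9ac5a928398a4)))) (.node (nat_lit 21) (.leaf (nat_lit 0x820b56939460f7358b5250731483)) (.node (nat_lit 22) (.leaf (nat_lit 0x416ad2728c1ee6b16a4a0e629062)) (.leaf (nat_lit 0x2d5a4e5183dcd62d4941cc520c41)))))))⟩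
def g23C0 : LevCert := ⟨g23L0,
    [(nat_lit 22, nat_lit 0), (nat_lit 21, nat_lit 0), (nat_lit 11, nat_lit 1), (nat_lit 7, nat_lit 2), (nat_lit 20, nat_lit 0), (nat_lit 10, nat_lit 0), (nat_lit 17, nat_lit 1), (nat_lit 6, nat_lit 0), (nat_lit 15, nat_lit 1), (nat_lit 19, nat_lit 0), (nat_lit 9, nat_lit 0), (nat_lit 5, nat_lit 1), (nat_lit 16, nat_lit 0), (nat_lit 3, nat_lit 1), (nat_lit 8, nat_lit 2), (nat_lit 14, nat_lit 0), (nat_lit 18, nat_lit 0), (nat_lit 4, nat_lit 0), (nat_lit 2, nat_lit 0), (nat_lit 13, nat_lit 1), (nat_lit 12, nat_lit 2), (nat_lit 1, nat_lit 0)],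
    [[nat_lit 0, nat_lit 4, nat_lit 0, nat_lit 2, nat_lit 0, nat_lit 0, nat_lit 0], [nat_lit 2, nat_lit 2, nat_lit 2, nat_lit 4, nat_lit 2, nat_lit 2, nat_lit 4, nat_lit 4, nat_lit 4, nat_lit 2]],
    [nat_lit 0x18a2659c38124754d21a3d156ae20, nat_lit 0x1dd52b263544287d8cda117212600]⟩
def g23L1 : Lev := ⟨nat_lit 1, nat_lit 0x7ffffe, (.node (nat_lit 12) (.node (nat_lit 6) (.node (nat_lit 3) (.node (nat_lit 2) (.leaf (nat_lit 0x5ab49ca307b9ac5a928398a418820)) (.leaf (nat_lit 0x49af432b474ca98ae041a8f6104c0))) (.node (nat_lit 4) (.leaf (nat_lit 0x116941e221c994b14d0aa9ae0be60)) (.node (nat_lit 5) (.leaf (nat_lit 0xe33140b6921eb3d124535c1332a0)) (.leaf (nat_lit 0x3d0b3988d1d6d49b13114025929c0))))) (.node (nat_lit 9) (.node (nat_lit 7) (.leaf (nat_lit 0x291172c46a16a490daf984f0626c0)) (.node (nat_lit 8) (.leaf (nat_lit 0x218972eb3b3c4a8447209cc523680)) (.leaf (nat_lit 0x18a2659c38124754d21a3d156ae20)))) (.node (nat_lit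 10) (.leaf (nat_lit 0x4ca8391cc18acfa28358c24b4b4c0)) (.node (nat_lit 11) (.leaf (nat_lit 0x16698888a91a8b7860d432d570ce0)) (.leaf (nat_lit 0x32c3594ce554480c6074c9b3a3c80)))))) (.node (nat_lit 17) (.node (nat_lit 14) (.node (nat_lit 13) (.leaf (nat_lit 0x508541d8d9ba21819f2155565a460)) (.leaf (nat_lit 0x1dd52b263544287d8cda117212600))) (.node (nat_lit 15) (.leaf (nat_lit 0x35cc58d06b060aa09359c89179ca0)) (.node (nat_lit 16) (.leaf (nat_lit 0xe16aa9cc0ac89450d178a6d39640)) (.leaf (nat_lit 0x29afa1241138f52a0d348e0b65a20))))) (.node (nat_lit 20) (.node (nat_lit 18) (.leaf (nat_lit 0x2c959c42a79db6608ae418744c240)) (.node (nat_lit 19) (.leaf (nat_lit 0x9c45050b330729d2b12da074bda0)) (.leaf (nat_lit 0xaa80d0f2611d11be1659666525a0)))) (.node (nat_lit 21) (.leaf (nat_lit 0x2ca188a963d48e6c0665218f9a640)) (.node (nat_lit 22) (.leaf (nat_lit 0x402aa3eb2694c261d2e58e28b4c80)) (.leaf (nat_lit 0x4e9228ac341731b9b68d1e8ac840)))))))⟩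
def g23C1 : LevCert := ⟨g23L1,
    [(nat_lit 8, nat_lit 0), (nat_lit 13, nat_lit 1), (nat_lit 5, nat_lit 0), (nat_lit 12, nat_lit 1), (nat_lit 3, nat_lit 0), (nat_lit 21, nat_lit 0), (nat_lit 19, nat_lit 1), (nat_lit 18, nat_lit 1), (nat_lit 16, nat_lit 0), (nat_lit 4, nat_lit 0), (nat_lit 20, nat_lit 1), (nat_lit 10, nat_lit 0), (nat_lit 17, nat_lit 1), (nat_lit 15, nat_lit 0), (nat_lit 14, nat_lit 0), (nat_lit 6, nat_lit 1), (nat_lit 7, nat_lit 0), (nat_lit 11, nat_lit 0), (nat_lit 22, nat_lit 0), (nat_lit 9, nat_lit 1), (nat_lit 2, nat_lit 0)],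
    [[nat_lit 0, nat_lit 0, nat_lit 2, nat_lit 2, nat_lit 0], [nat_lit 4, nat_lit 2, nat_lit 2, nat_lit 4, nat_lit 4, nat_lit 2, nat_lit 4, nat_lit 4]],
    [nat_lit 0x1870b2ce95522814cb2abdc46b020, nat_lit 0xe954b22821cd32ba5013ecd5a820]⟩
def g23L2 : Lev := ⟨nat_lit 2, nat_lit 0x7ffffc, (.node (nat_lit 12) (.node (nat_lit 7) (.node (nat_lit 4) (.node (nat_lit 3) (.leaf (nat_lit 0x5ab49ca307b9ac5a928398a418820)) (.leaf (nat_lit 0x36032a0f2255f675169628d114c20))) (.node (nat_lit 5) (.leaf (nat_lit 0x46463b2856adcfaa1568248298c20)) (.node (nat_lit 6) (.leaf (nat_lit 0x10b05d94c3d22874873ab4467a420)) (.leaf (nat_lit 0x189369e8b621c991543b0aaf8c020))))) (.node (nat_lit 9) (.node (nat_lit 8) (.leaf (nat_lit 0xe954b22821cd32ba5013ecd5a820)) (.leaf (nat_lit 0x2a257b06eb26ab41a826ce043c820))) (.node (nat_lit 10) (.leaf (nat_lit 0x452d74aab20d46a404544de765820)) (.node (nat_lit 11) (.leaf (nat_lit 0x1695626283289218a707356fb1c20))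 (.leaf (nat_lit 0x1870b2ce95522814cb2abdc46b020)))))) (.node (nat_lit 17) (.node (nat_lit 14) (.node (nat_lit 13) (.leaf (nat_lit 0x4cee521b43146293e0c8d924aac20)) (.leaf (nat_lit 0x10d27aa964a04c98ce55baad8c020))) (.node (nat_lit 15) (.leaf (nat_lit 0x2eb494e30689e9b1d88510662b820)) (.node (nat_lit 16) (.leaf (nat_lit 0x36c828dd3156303b169a194f24820)) (.leaf (nat_lit 0x1cb1a2c622366f8258e9595541820))))) (.node (nat_lit 20) (.node (nat_lit 18) (.leaf (nat_lit 0x3d681945275630526cca10ed34c20)) (.node (nat_lit 19) (.leaf (nat_lit 0x3da930aa59c0f2659cb1aa848a020)) (.leaf (nat_lit 0x31a911aa53a26e78e4bb122aa4020)))) (.node (nat_lit 21) (.leaf (nat_lit 0x3e42325888c08da8dcbb514799420)) (.node (nat_lit 22) (.leaf (nat_lit 0x28526b98ba0ce9994c8812b17d820)) (.leaf (nat_lit 0x8705d8e98b14535512991af75020)))))))⟩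
def g23C2 : LevCert := ⟨g23L2,
    [(nat_lit 11, nat_lit 0), (nat_lit 7, nat_lit 1), (nat_lit 18, nat_lit 0), (nat_lit 3, nat_lit 1), (nat_lit 17, nat_lit 0), (nat_lit 14, nat_lit 1), (nat_lit 8, nat_lit 0), (nat_lit 9, nat_lit 1), (nat_lit 21, nat_lit 0), (nat_lit 22, nat_lit 1), (nat_lit 13, nat_lit 0), (nat_lit 5, nat_lit 0), (nat_lit 10, nat_lit 1), (nat_lit 12, nat_lit 0), (nat_lit 16, nat_lit 1), (nat_lit 19, nat_lit 1), (nat_lit 20, nat_lit 1), (nat_lit 4, nat_lit 1), (nat_lit 15, nat_lit 0), (nat_lit 6, nat_lit 0)],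
    [[nat_lit 0, nat_lit 0, nat_lit 2, nat_lit 2, nat_lit 2, nat_lit 0], [nat_lit 4, nat_lit 4, nat_lit 2, nat_lit 2, nat_lit 2, nat_lit 4, nat_lit 2, nat_lit 4, nat_lit 2, nat_lit 2, nat_lit 2]],
    [nat_lit 0x1deba4606436a51c98e4aad320820, nat_lit 0x466baa883941cf4b11431ec568820]⟩
def g23L3 : Lev := ⟨nat_lit 3, nat_lit 0x7ffff8, (.node (nat_lit 13) (.node (nat_lit 8) (.node (nat_lit 5) (.node (nat_lit 4) (.leaf (nat_lit 0x5ab49ca307b9ac5a928398a418820)) (.leaf (nat_lit 0x15b322a51aa1c9a18efb418358820))) (.node (nat_lit 6) (.leaf (nat_lit 0x308f6d4a84b9669aa878587288820)) (.node (nat_lit 7) (.leaf (nat_lit 0x59d52b1449d20859cd288ded48820)) (.leaf (nat_lit 0x322d29df222906ada131ba8b48820))))) (.node (nat_lit 10) (.node (nat_lit 9) (.leaf (nat_lit 0x19644469382aae2d9a39312778820)) (.leaf (nat_lit 0x51055d8ef8cd506b864648c9a8820))) (.node (nat_lit 11) (.leaf (nat_lit 0x3e0569d8a74a86a8e33b110958820)) (.node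 (nat_lit 12) (.leaf (nat_lit 0x1deba4606436a51c98e4aad320820)) (.leaf (nat_lit 0x4c8f84507a32a372545b364658820)))))) (.node (nat_lit 18) (.node (nat_lit 15) (.node (nat_lit 14) (.leaf (nat_lit 0x1668abece6346aa496931c9180820)) (.leaf (nat_lit 0x12a99b0ad50e1243e8b39a3670820))) (.node (nat_lit 16) (.leaf (nat_lit 0x4a052526c1d5697c5ca6d8c838820)) (.node (nat_lit 17) (.leaf (nat_lit 0x466baa883941cf4b11431ec568820)) (.leaf (nat_lit 0x1a4959067a3a766a9f04323528820))))) (.node (nat_lit 20) (.node (nat_lit 19) (.leaf (nat_lit 0x228d48cec84e51292ce7a8cba8820)) (.leaf (nat_lit 0x31c4199526bd079c2d52c52ba0820))) (.node (nat_lit 21) (.leaf (nat_lit 0x25035c0ca755f6244ad648f498820)) (.node (nat_lit 22) (.leaf (nat_lit 0x287374174349edb1ea48958940820)) (.leaf (nat_lit 0xd6d92aa521dd47da09620d198820)))))))⟩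
def g23C3 : LevCert := ⟨g23L3,
    [(nat_lit 11, nat_lit 0), (nat_lit 16, nat_lit 1), (nat_lit 20, nat_lit 0), (nat_lit 17, nat_lit 0), (nat_lit 14, nat_lit 1), (nat_lit 19, nat_lit 0), (nat_lit 8, nat_lit 1), (nat_lit 18, nat_lit 0), (nat_lit 22, nat_lit 1), (nat_lit 13, nat_lit 1), (nat_lit 4, nat_lit 0), (nat_lit 21, nat_lit 1), (nat_lit 15, nat_lit 0), (nat_lit 9, nat_lit 1), (nat_lit 10, nat_lit 0), (nat_lit 5, nat_lit 0), (nat_lit 12, nat_lit 1), (nat_lit 7, nat_lit 0), (nat_lit 6, nat_lit 0)],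
    [[nat_lit 0, nat_lit 0, nat_lit 0, nat_lit 2, nat_lit 2, nat_lit 0, nat_lit 2, nat_lit 0, nat_lit 0, nat_lit 2, nat_lit 2, nat_lit 0, nat_lit 2, nat_lit 2, nat_lit 2, nat_lit 0, nat_lit 0], [nat_lit 4, nat_lit 2, nat_lit 2, nat_lit 2, nat_lit 2, nat_lit 4, nat_lit 4, nat_lit 4, nat_lit 2, nat_lit 2, nat_lit 4, nat_lit 2], [nat_lit 4, nat_lit 4, nat_lit 6, nat_lit 6, nat_lit 4, nat_lit 6, nat_lit 6, nat_lit 4, nat_lit 4, nat_lit 6, nat_lit 4]],
    [nat_lit 0x5987929cda948f4ccd442e3018820, nat_lit 0x4e8d549c7216ab45a0c4be2618820, nat_lit 0x190f640a75466db512492dd518820]⟩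
def g23L4 : Lev := ⟨nat_lit 4, nat_lit 0x7dbfd0, (.node (nat_lit 13) (.node (nat_lit 9) (.node (nat_lit 7) (.node (nat_lit 6) (.leaf (nat_lit 0x5ab49ca307b9ac5a928398a418820)) (.leaf (nat_lit 0x29b5b48a93468864ceb811cf18820))) (.node (nat_lit 8) (.leaf (nat_lit 0x19b28523343aaa4b16f258a718820)) (.leaf (nat_lit 0x190f640a75466db512492dd518820)))) (.node (nat_lit 11) (.node (nat_lit 10) (.leaf (nat_lit 0x291094e346b9e63d8955b0a918820)) (.leaf (nat_lit 0x55f04a1c6b166c911ab5522718820))) (.node (nat_lit 12) (.leaf (nat_lit 0x31f3a4232ab916218ed4a8ab18820)) (.leaf (nat_lit 0x2e957b6289ba44b1cd0524ac18820))))) (.node (nat_lit 19) (.node (nat_lit 16) (.node (nat_lit 15) (.leaf (nat_lit 0x5987929cda948f4ccd442e3018820)) (.leaf (nat_lit 0x4e8d549c7216ab45a0c4be2618820))) (.node (nat_lit 18) (.leaf (nat_lit 0x59e854ca46461534967a25cd18820)) (.leaf (nat_lit 0x24eca91d491550b216d99a2f18820)))) (.node (nat_lit 21) (.node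 (nat_lit 20) (.leaf (nat_lit 0x2613220aa3c5f25d4cc6d9d418820)) (.leaf (nat_lit 0x48e49a8a884589a59af355cb18820))) (.node (nat_lit 22) (.leaf (nat_lit 0x2c8a69dd2a159333d3585a2818820)) (.leaf (nat_lit 0x1166425d0996d4554ef9322d18820))))))⟩
def g23C4 : LevCert := ⟨g23L4,
    [(nat_lit 13, nat_lit 0), (nat_lit 15, nat_lit 1), (nat_lit 8, nat_lit 2), (nat_lit 16, nat_lit 0), (nat_lit 20, nat_lit 1), (nat_lit 12, nat_lit 2), (nat_lit 6, nat_lit 1), (nat_lit 7, nat_lit 0), (nat_lit 11, nat_lit 1), (nat_lit 21, nat_lit 2), (nat_lit 9, nat_lit 1), (nat_lit 18, nat_lit 2), (nat_lit 10, nat_lit 2), (nat_lit 19, nat_lit 2), (nat_lit 22, nat_lit 2)],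
    [[nat_lit 4, nat_lit 4, nat_lit 2, nat_lit 0, nat_lit 0, nat_lit 4, nat_lit 2, nat_lit 4, nat_lit 2]],
    [nat_lit 0x35135bdd63160aa1ea964a2418820]⟩
def g23L5 : Lev := ⟨nat_lit 5, nat_lit 0x24020, (.node (nat_lit 14) (.leaf (nat_lit 0x5ab49ca307b9ac5a928398a418820)) (.node (nat_lit 17) (.leaf (nat_lit 0x35135bdd63160aa1ea964a2418820)) (.leaf (nat_lit 0x412ba18ad946c79b11553dc418820))))⟩
def g23C5 : LevCert := ⟨g23L5,
    [(nat_lit 14, nat_lit 0), (nat_lit 17, nat_lit 0)],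
    [],
    []⟩
def g23 : List LevCert := [g23C0, g23C1, g23C2, g23C3, g23C4, g23C5]
def g23L : List Lev := [g23L0, g23L1, g23L2, g23L3, g23L4, g23L5]
def g23G : List ℕ := [nat_lit 0x2d5a4e5183dcd62d4941cc520c41, nat_lit 0x56717b56939461b52507314831040, nat_lit 0x2e75734e2a3d8354606b24b222020]
def g23X : ℕ := nat_lit 0x2d5a4e5183dcd62d4941cc520c41
def g23Y : ℕ := nat_lit 0x56717b56939461b52507314831040
def g23Yj : ℕ := nat_lit 0x3cf671aad2d1849ac7250a290c100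
def g23Cs : List ℕ := [nat_lit 0x5ab49ca307b9ac5a928398a418820, nat_lit 0x443214c74254b635cf84653a56c0]
def g23Ws : List (List ℕ) := [[nat_lit 0, nat_lit 0, nat_lit 0, nat_lit 2], [nat_lit 0, nat_lit 2], [nat_lit 0, nat_lit 2, nat_lit 2], [nat_lit 0, nat_lit 3, nat_lit 3, nat_lit 3], [nat_lit 0, nat_lit 2, nat_lit 2, nat_lit 2, nat_lit 2], [nat_lit 0, nat_lit 2, nat_lit 2, nat_lit 0, nat_lit 3], [nat_lit 0, nat_lit 0, nat_lit 3, nat_lit 0, nat_lit 2], [nat_lit 0, nat_lit 2, nat_lit 2, nat_lit 2], [nat_lit 0, nat_lit 0, nat_lit 2, nat_lit 2], [nat_lit 0, nat_lit 3], [nat_lit 0, nat_lit 3, nat_lit 3], [nat_lit 0, nat_lit 2, nat_lit 1, nat_lit 2], [nat_lit 0, nat_lit 3, nat_lit 3, nat_lit 3, nat_lit 3], [nat_lit 0, nat_lit 3, nat_lit 1, nat_lit 2, nat_lit 2]]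
def g23Tg : List (List ℕ × List (List ℕ)) := [(g23G, [[nat_lit 3], [nat_lit 2, nat_lit 6], [nat_lit 0, nat_lit 8], [nat_lit 0, nat_lit 10], [nat_lit 0, nat_lit 12], [nat_lit 0, nat_lit 14], [nat_lit 0, nat_lit 16], [nat_lit 0, nat_lit 18], [nat_lit 0, nat_lit 20], [nat_lit 0, nat_lit 22], [nat_lit 0, nat_lit 24], [nat_lit 0, nat_lit 26]])]
def g23Tab : ℕ := nat_lit 0xfffffffe0000000000000000ff7ffffcfffff7fc0000000000000000fffffffe00000000fffffffe000000000000000000000000fffffffe00000000fffff7fc0000000000000000000000000000000000000000000000000000000000000000000000000000000000000000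

/-- the numbering of the points -/
abbrev E23 : Enc (Fin 23) 23 5 32 := finEnc 23 5 32 rfl (by decide)

theorem s23_chain : E23.IsChain (s23.map LevCert.L) ⊤ :=
  isChain_top (gens := s23G) (by decide +kernel) (by decide +kernel) (by decide +kernel)

theorem search : allI 5 32 23 (s23.map LevCert.L) 0 [(g23Y, g23Yj)] []
    (candM 5 32 23 g23Tab (fun _ => true) g23Ws g23Cs g23Tg [g23X, g23Y]) = true := by
  decide +kernel

theorem tab_ok : tabOK g23Tab [11, 23] [13, 17, 19] := by unfold tabOK; decide +kernel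

theorem tg_valid : ∀ tg ∈ g23Tg, allL tg.1 (valid 5 32 23) = true := by decide +kernel

theorem pre_ok : preOK 5 32 23 g23 g23G = true := by decide +kernel

theorem hX : nfX 5 23 1 23 = g23X := by decide +kernel
theorem hY : nfY 5 23 1 23 2 = g23Y := by decide +kernel

end M23

end Cfsg.Agent.H16
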