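import Cfsg.Agent.H16.Steiner3
import Cfsg.Agent.H16.SSearch2
import Cfsg.Agent.S0375
import Cfsg.Agent.S0362

/-! A family of subsets of a 24-set spanning a Golay code. -/

set_option autoImplicit false

namespace Cfsg.Agent.H16

open Finset

section ind
variable {γ : Type*} [Fintype γ] [DecidableEq γ]

/-- indicator word -/
def ind (s : Finset γ) : γ → ZMod 2 := fun i => if i ∈ s then 1 else 0

theorem mem_supp {w : γ → ZMod 2} {i : γ} : i ∈ support₂ w ↔ w i ≠ 0 :=
  Finset.mem_filter.trans (by simp)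

theorem zmod2_cases (x : ZMod 2) : x = 0 ∨ x = 1 := by revert x; decide

theorem supp_ind (s : Finset γ) : support₂ (ind s) = s := by
  ext i; rw [mem_supp]; simp [ind]

theorem ind_supp (w : γ → ZMod 2) : ind (support₂ w) = w := by
  funext i
  simp only [ind, mem_supp]
  rcases zmod2_cases (w i) with h | h <;> simp [h]

theorem supp_add (v w : γ → ZMod 2) : support₂ (v + w) = symmDiff (support₂ v) (support₂ w) := by
  ext i
  simp only [mem_supp, mem_symmDiff, Pi.add_apply]
  rcases zmod2_cases (v i) with h | h <;> rcases zmod2_cases (w i) with h' | h' <;>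
    simp [h, h'] <;> decide

theorem supp_zero : support₂ (0 : γ → ZMod 2) = ∅ := by
  ext i; simp [mem_supp]

theorem dot_eq_card (v w : γ → ZMod 2) :
    ∑ i, v i * w i = ((support₂ v ∩ support₂ w).card : ZMod 2) := by
  rw [card_eq_sum_ones, Nat.cast_sum, ← sum_filter_add_sum_filter_not univ
    (fun i => i ∈ support₂ v ∩ support₂ w)]
  rw [sum_eq_zero (s := filter (fun i => ¬ i ∈ support₂ v ∩ support₂ w) univ), add_zero,
    filter_mem_eq_inter, univ_inter]
  · refine sum_congr rfl fun i hi => ?_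
    simp only [mem_inter, mem_supp] at hi
    rw [(zmod2_cases _).resolve_left hi.1, (zmod2_cases _).resolve_left hi.2]; simp
  · intro i hi
    simp only [mem_filter, mem_univ, true_and, mem_inter, mem_supp, not_and_or, not_not] at hi
    rcases hi with h | h <;> simp [h]

theorem dot_eq_zero_iff (v w : γ → ZMod 2) :
    ∑ i, v i * w i = 0 ↔ (support₂ v ∩ support₂ w).card % 2 = 0 := by
  rw [dot_eq_card, ZMod.natCast_eq_zero_iff, Nat.dvd_iff_mod_eq_zero]

theorem mem_supports_iff {C : Set (γ → ZMod 2)} {s : Finset γ} : s ∈ supports C ↔ ind s ∈ C :=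
  ⟨by rintro ⟨w, hw, rfl⟩; rwa [ind_supp], fun h => ⟨_, h, supp_ind s⟩⟩

/-- the standard form -/
def dotB (γ : Type*) [Fintype γ] : LinearMap.BilinForm (ZMod 2) (γ → ZMod 2) :=
  dotProductBilin (ZMod 2) (ZMod 2)

theorem dotB_apply (v w : γ → ZMod 2) : dotB γ v w = ∑ i, v i * w i := rfl

theorem dotB_ker : LinearMap.ker (dotB γ) = ⊥ := by
  rw [eq_bot_iff]
  intro v hv
  rw [Submodule.mem_bot]
  funext i
  have := congrArg (fun f => f (Pi.single i 1)) (LinearMap.mem_ker.1 hv)
  simpa [dotB_apply, Pi.single_apply] using this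

theorem finrank_le_twelve (hγ : Fintype.card γ = 24) (D : Submodule (ZMod 2) (γ → ZMod 2))
    (hD : ∀ w ∈ D, (support₂ w).card ≤ 6 → w = 0) : Module.finrank (ZMod 2) D ≤ 12 := by
  classical
  let T : Finset (Finset γ) := powersetCard 2 univ ∪ powersetCard 3 univ
  have hT : T.card = 2300 := by
    rw [card_union_of_disjoint, card_powersetCard, card_powersetCard, card_univ, hγ]
    · decide
    · exact pairwise_disjoint_powersetCard univ (by norm_num)
  have hT3 : ∀ s ∈ T, s.card ≤ 3 := fun s hs => by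
    simp only [T, mem_union, mem_powersetCard] at hs
    omega
  have h := Fintype.card_le_of_injective (fun p : D × T => (p.1 : γ → ZMod 2) + ind p.2.1) (by
    rintro ⟨d, s⟩ ⟨d', s'⟩ h
    simp only at h
    have h2 : ∀ v : γ → ZMod 2, v + v = 0 := fun v => by
      funext i; exact CharTwo.add_self_eq_zero _
    have h1 : (d : γ → ZMod 2) + d' = ind s.1 + ind s'.1 := by
      have : (d : γ → ZMod 2) + d' = (d + ind s.1) + (d' + ind s'.1) + (ind s.1 + ind s'.1) := by
        have := h2 (ind s.1); have := h2 (ind s'.1)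
        linear_combination (exp := 1) - h2 (ind s.1) - h2 (ind s'.1)
      rw [this, h, h2, zero_add]
    have h3 := hD _ (D.add_mem d.2 d'.2) (by
      rw [h1, supp_add, supp_ind, supp_ind]
      have := card_symmDiff' s.1 s'.1
      have := hT3 _ s.2
      have := hT3 _ s'.2
      omega)
    have h4 : (d : γ → ZMod 2) = d' := by
      rw [← add_zero (d : γ → ZMod 2), ← h2 d', ← add_assoc, h3, zero_add]
    rw [h4, add_right_inj] at h
    have h5 : s.1 = s'.1 := by rw [← supp_ind s.1, h, supp_ind]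
    exact Prod.ext (Subtype.ext h4) (Subtype.ext h5))
  rw [Fintype.card_prod, Fintype.card_coe, hT, Module.card_eq_pow_finrank (K := ZMod 2) (V := D),
    Fintype.card_fun, hγ, ZMod.card] at h
  by_contra h'
  have : 2 ^ 13 ≤ 2 ^ Module.finrank (ZMod 2) D := Nat.pow_le_pow_right (by norm_num) (by omega)
  omega

end ind

theorem golay_of_family_fin (O : Set (Finset (Fin 24))) (h4 : ∀ o ∈ O, o.card % 4 = 0)
    (hev : ∀ o ∈ O, ∀ o' ∈ O, (o ∩ o').card % 2 = 0)
    (hmin : ∀ W : Finset (Fin 24), (∀ o ∈ O, (o ∩ W).card % 2 = 0) → W.card ≤ 6 → W = ∅) :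
    ∃ e : Fin 24 ≃ GolayPt, ∀ W : Finset (Fin 24), (∀ o ∈ O, (o ∩ W).card % 2 = 0) ↔
      W.map e.toEmbedding ∈ supports (golayCode : Set (GolayPt → ZMod 2)) := by
  let C : Submodule (ZMod 2) (Fin 24 → ZMod 2) := Submodule.span (ZMod 2) (ind '' O)
  let D := (dotB (Fin 24)).orthogonal C
  have hD : ∀ w, w ∈ D ↔ ∀ o ∈ O, (o ∩ support₂ w).card % 2 = 0 := by
    intro w
    constructor
    · intro h o ho
      have := h (ind o) (Submodule.subset_span ⟨o, ho, rfl⟩)
      rwa [dotB_apply, dot_eq_zero_iff, supp_ind] at this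
    · intro h v hv
      induction hv using Submodule.span_induction with
      | mem x hx =>
        obtain ⟨o, ho, rfl⟩ := hx
        rw [dotB_apply, dot_eq_zero_iff, supp_ind]
        exact h o ho
      | zero => simp
      | add x y _ _ hx hy => rw [map_add, LinearMap.add_apply, hx, hy, add_zero]
      | smul a x _ hx => rw [map_smul, LinearMap.smul_apply, hx, smul_zero]
  have hCD : C ≤ D := by
    apply Submodule.span_le.2
    rintro _ ⟨o, ho, rfl⟩
    rw [SetLike.mem_coe, hD, supp_ind]
    exact fun o' ho' => hev o' ho' o ho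
  have hD6 : ∀ w ∈ D, (support₂ w).card ≤ 6 → w = 0 := fun w hw h6 => by
    rw [← ind_supp w, hmin _ ((hD w).1 hw) h6, ← supp_zero, ind_supp]
  have h12 := finrank_le_twelve (by simp) D hD6
  have hsum := LinearMap.BilinForm.finrank_add_finrank_orthogonal' (B := dotB (Fin 24)) C
  rw [dotB_ker, inf_bot_eq, finrank_bot, Module.finrank_fintype_fun_eq_card,
    Fintype.card_fin] at hsum
  have hle := Submodule.finrank_mono hCD
  have hCeq : C = D := Submodule.eq_of_le_of_finrank_le hCD (by
    change _ + Module.finrank (ZMod 2) D = _ at hsum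
    omega)
  have horth : ∀ v ∈ C, ∀ w ∈ C, ∑ i, v i * w i = 0 := fun v hv w hw => hCD hw v hv
  have hdiv : ∀ w ∈ C, 4 ∣ hammingNorm w := by
    intro w hw
    change 4 ∣ (support₂ w).card
    induction hw using Submodule.span_induction with
    | mem x hx =>
      obtain ⟨o, ho, rfl⟩ := hx
      rw [supp_ind]; exact Nat.dvd_of_mod_eq_zero (h4 o ho)
    | zero => simp [supp_zero]
    | add x y hx' hy' hx hy =>
      have h1 := card_symmDiff' (support₂ x) (support₂ y)
      have h2 := (dot_eq_zero_iff x y).1 (horth x hx' y hy')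
      rw [supp_add]
      omega
    | smul a x _ hx =>
      rcases zmod2_cases a with rfl | rfl
      · simp [supp_zero]
      · simpa using hx
  obtain ⟨e, he⟩ := S0375.result C (by
    change _ + Module.finrank (ZMod 2) D = _ at hsum
    omega) horth hdiv (fun w hw h => by
      have := hD6 w (hCD hw) (by change hammingNorm w ≤ 6; omega)
      rw [this] at h
      simp at h)
  refine ⟨e, fun W => ?_⟩
  rw [mem_supports_iff, SetLike.mem_coe, he, hCeq, hD]
  have : (fun i => ind (W.map e.toEmbedding) (e i)) = ind W := by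
    funext i; simp [ind]
  rw [this, supp_ind]

theorem golay_of_family {γ : Type*} [Fintype γ] [DecidableEq γ] (hγ : Fintype.card γ = 24)
    (O : Set (Finset γ)) (h4 : ∀ o ∈ O, o.card % 4 = 0)
    (hev : ∀ o ∈ O, ∀ o' ∈ O, (o ∩ o').card % 2 = 0)
    (hmin : ∀ W : Finset γ, (∀ o ∈ O, (o ∩ W).card % 2 = 0) → W.card ≤ 6 → W = ∅) :
    ∃ e : γ ≃ GolayPt, ∀ W : Finset γ, (∀ o ∈ O, (o ∩ W).card % 2 = 0) ↔
      W.map e.toEmbedding ∈ supports (golayCode : Set (GolayPt → ZMod 2)) := by
  let f : Fin 24 ≃ γ := (Fintype.equivFinOfCardEq hγ).symm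
  have key : ∀ W : Finset (Fin 24), (∀ o ∈ {o : Finset (Fin 24) | o.map f.toEmbedding ∈ O},
      (o ∩ W).card % 2 = 0) ↔ ∀ o ∈ O, (o ∩ W.map f.toEmbedding).card % 2 = 0 := by
    intro W
    constructor
    · intro h o ho
      have := h (o.map f.symm.toEmbedding) (by rwa [Set.mem_setOf_eq, map_symm_map])
      rwa [← card_map f.toEmbedding, map_inter, map_symm_map] at this
    · intro h o ho
      rw [← card_map f.toEmbedding, map_inter]
      exact h _ ho
  obtain ⟨e, he⟩ := golay_of_family_fin {o | o.map f.toEmbedding ∈ O}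
    (fun o ho => by rw [← card_map f.toEmbedding]; exact h4 _ ho)
    (fun o ho o' ho' => by rw [← card_map f.toEmbedding, map_inter]; exact hev _ ho _ ho')
    (fun W hW h6 => by
      have := hmin _ ((key W).1 hW) (by rwa [card_map])
      rwa [map_eq_empty] at this)
  refine ⟨f.symm.trans e, fun W => ?_⟩
  rw [← map_map_equiv, ← he, key, map_symm_map]

theorem golay_even {a b : Finset GolayPt}
    (ha : a ∈ supports (golayCode : Set (GolayPt → ZMod 2)))
    (hb : b ∈ supports (golayCode : Set (GolayPt → ZMod 2))) : (a ∩ b).card % 2 = 0 := by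
  obtain ⟨v, hv, rfl⟩ := ha
  obtain ⟨w, hw, rfl⟩ := hb
  exact (dot_eq_zero_iff v w).1 (S0362.result v w hv hw)

theorem mem_octads {W : Finset GolayPt} :
    W ∈ octads ↔ W ∈ supports (golayCode : Set (GolayPt → ZMod 2)) ∧ W.card = 8 := Iff.rfl

end Cfsg.Agent.H16
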