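import Cfsg.Agent.H16.MSearch

/-! A verified search through the values attached to a list of keys, pruned by congruences. -/

set_option autoImplicit false

namespace Cfsg.Agent.H16

open H14

/-- an option with its weights -/
structure Opt (α : Type) where
  /-- the type -/
  a : α
  /-- first weight -/
  u : ℕ
  /-- second weight -/
  q : ℕ
  /-- third weight -/
  m : ℕ

/-- a position of the search -/
structure Pos (α : Type) where
  /-- the next position has the same key -/
  same : Bool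
  /-- the options of the next position -/
  nxt : List (Opt α)
  /-- bound -/
  hU : ℕ
  /-- bound -/
  hQ : ℕ
  /-- modulus -/
  gU : ℕ
  /-- modulus -/
  gQ : ℕ

variable {α : Type}

/-- the search -/
noncomputable def rs (P : List α → Bool) (tab : List (Pos α)) :
    List (Opt α) → ℕ → ℕ → ℕ → List α → Bool :=
  List.rec (motive := fun _ => List (Opt α) → ℕ → ℕ → ℕ → List α → Bool) (fun _ _ _ _ acc => P acc)
    (fun e _ F cur U Q N acc => Pos.rec (motive := fun _ => Bool) (fun same nxt hU hQ gU gQ =>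
      List.rec (motive := fun _ => Bool) true (fun o os ih => Bool.rec false ih
        (Opt.rec (motive := fun _ => Bool) (fun a u q m =>
          Bool.rec true (Bool.rec true (Bool.rec true (Bool.rec true (Bool.rec true (Bool.rec true
            (Bool.rec true
              (force (Nat.sub U u) fun U' => force (Nat.sub Q q) fun Q' =>
                force (Nat.sub N m) fun N' => F (Bool.rec nxt (o :: os) same) U' Q' N' (a :: acc))
              (Nat.ble (Nat.sub U u) hU)) (Nat.ble u U)) (Nat.ble (Nat.sub Q q) hQ)) (Nat.ble q Q))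
            (Nat.beq (Nat.mod (Nat.sub U u) gU) 0)) (Nat.beq (Nat.mod (Nat.sub Q q) gQ) 0))
            (Nat.ble m N)) o)) cur) e) tab

theorem rs_cons {P : List α → Bool} {e : Pos α} {tab : List (Pos α)} {o : Opt α}
    {os : List (Opt α)} {U Q N : ℕ} {acc : List α}
    (h : rs P (e :: tab) (o :: os) (o.u + U) (o.q + Q) N acc = true) (h1 : o.m ≤ N)
    (h2 : U ≤ e.hU ∧ e.gU ∣ U) (h3 : Q ≤ e.hQ ∧ e.gQ ∣ Q) :
    rs P tab (Bool.rec e.nxt (o :: os) e.same) U Q (N - o.m) (o.a :: acc) = true := by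
  have e1 : Nat.sub (o.u + U) o.u = U := Nat.add_sub_cancel_left ..
  have e2 : Nat.sub (o.q + Q) o.q = Q := Nat.add_sub_cancel_left ..
  have := bimp_iff.mp (bimp_iff.mp (bimp_iff.mp (bimp_iff.mp (bimp_iff.mp (bimp_iff.mp
    (bimp_iff.mp (rec_and h).2 (ble_iff.mpr h1))
    (beq_iff.mpr (e2.symm ▸ Nat.mod_eq_zero_of_dvd h3.2)))
    (beq_iff.mpr (e1.symm ▸ Nat.mod_eq_zero_of_dvd h2.2))) (ble_iff.mpr (Nat.le_add_right _ _)))
    (ble_iff.mpr (e2.symm ▸ h3.1))) (ble_iff.mpr (Nat.le_add_right _ _)))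
    (ble_iff.mpr (e1.symm ▸ h2.1))
  rw [force_eq, force_eq, force_eq, e1, e2] at this
  exact this

/-- evaluate a list of options -/
noncomputable def forceO {β : Type} (l : List β) (f : β → Opt α) :
    (List (Opt α) → Bool) → Bool :=
  List.rec (motive := fun _ => (List (Opt α) → Bool) → Bool) (fun k => k [])
    (fun b _ ih k => Opt.rec (motive := fun _ => Bool) (fun a u q m => force u fun u =>
      force q fun q => force m fun m => ih fun l => k (⟨a, u, q, m⟩ :: l)) (f b)) l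

theorem forceO_eq {β : Type} (l : List β) (f : β → Opt α) (k : List (Opt α) → Bool) :
    forceO l f k = k (l.map f) := by
  induction l generalizing k with
  | nil => rfl
  | cons b l ih =>
    have : forceO (b :: l) f k = force (f b).u fun u => force (f b).q fun q => force (f b).m
      fun m => forceO l f fun l => k (⟨(f b).a, u, q, m⟩ :: l) := rfl
    rw [this, force_eq, force_eq, force_eq, ih]
    rfl

/-- minimum -/
noncomputable def minF (f : Opt α → ℕ) (l : List (Opt α)) : ℕ :=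
  List.rec (List.rec 0 (fun b _ _ => f b) l) (fun b _ ih => Nat.sub (f b) (Nat.sub (f b) ih)) l

/-- maximum -/
noncomputable def maxF (f : Opt α → ℕ) (l : List (Opt α)) : ℕ :=
  List.rec 0 (fun b _ ih => Nat.add (f b) (Nat.sub ih (f b))) l

/-- greatest common divisor -/
noncomputable def gcdF (f : Opt α → ℕ) (l : List (Opt α)) : ℕ :=
  List.rec 0 (fun b _ ih => Nat.gcd (f b) ih) l

theorem minF_le (f : Opt α → ℕ) {l : List (Opt α)} {b : Opt α} (h : b ∈ l) : minF f l ≤ f b := by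
  rw [minF]
  generalize (List.rec 0 (fun b _ _ => f b) l : ℕ) = x
  induction l with
  | nil => simp at h
  | cons c l ih =>
    change f c - (f c - _) ≤ _
    rcases List.mem_cons.mp h with rfl | h
    · omega
    · have := ih h
      omega

theorem stat_spec (f : Opt α → ℕ) {l : List (Opt α)} {b : Opt α} (h : b ∈ l) :
    f b ≤ maxF f l ∧ gcdF f l ∣ f b := by
  induction l with
  | nil => simp at h
  | cons c l ih =>
    change _ ≤ f c + (maxF f l - f c) ∧ Nat.gcd (f c) (gcdF f l) ∣ _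
    rcases List.mem_cons.mp h with rfl | h
    · exact ⟨by omega, Nat.gcd_dvd_left _ _⟩
    · exact ⟨by have := (ih h).1; omega, (Nat.gcd_dvd_right _ _).trans (ih h).2⟩

/-- shift of the weights -/
def Opt.sh (lu lq lm : ℕ) (o : Opt α) : Opt α := ⟨o.a, Nat.sub o.u lu, Nat.sub o.q lq, Nat.sub o.m lm⟩

/-- build the table -/
noncomputable def mkR (gen : ℕ → (List α → Bool) → Bool) (w : α → Opt α) (ds : List ℕ) :
    (List (Pos α) → List (Opt α) → ℕ → ℕ → ℕ → ℕ → ℕ → ℕ → ℕ → ℕ → Bool) → Bool :=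
  List.rec (motive := fun _ =>
      (List (Pos α) → List (Opt α) → ℕ → ℕ → ℕ → ℕ → ℕ → ℕ → ℕ → ℕ → Bool) → Bool)
    (fun k => k [] [] 0 0 0 0 0 0 0 0)
    (fun d _ ih k => ih fun tab cur d' hU hQ gU gQ lU lQ lM =>
      gen d fun ts => forceO ts w fun raw => List.rec (motive := fun _ => Bool) true (fun _ _ _ =>
        force (minF Opt.u raw) fun lu => force (minF Opt.q raw) fun lq =>
        force (minF Opt.m raw) fun lm => forceO raw (Opt.sh lu lq lm) fun O =>
        force (Nat.add (maxF Opt.u O) hU) fun hU' => force (Nat.add (maxF Opt.q O) hQ) fun hQ' =>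
        force (Nat.gcd (gcdF Opt.u O) gU) fun gU' => force (Nat.gcd (gcdF Opt.q O) gQ) fun gQ' =>
        force (Nat.add lu lU) fun lU' => force (Nat.add lq lQ) fun lQ' =>
        force (Nat.add lm lM) fun lM' =>
        k (⟨Nat.beq d d', cur, hU, hQ, gU, gQ⟩ :: tab) O d hU' hQ' gU' gQ' lU' lQ' lM') raw) ds

/-- the shifted option -/
noncomputable def shO (T : ℕ → List α) (w : α → Opt α) (d : ℕ) : Opt α → Opt α :=
  Opt.sh (minF Opt.u ((T d).map w)) (minF Opt.q ((T d).map w)) (minF Opt.m ((T d).map w))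

theorem mkR_sound {ι : Type*} (τ : ι → α) (κ : ι → ℕ) {gen : ℕ → (List α → Bool) → Bool}
    {T : ℕ → List α} (hgen : ∀ d k, gen d k = k (T d)) {w : α → Opt α} (hw : ∀ a, (w a).a = a)
    (P : List α → Bool) (ds : List ℕ) : ∀ k, mkR gen w ds k = true → (∀ d ∈ ds, T d ≠ []) →
    ∃ tab cur hU hQ gU gQ lU lQ lM, k tab cur (ds.headD 0) hU hQ gU gQ lU lQ lM = true ∧
      (ds ≠ [] → cur = ((T (ds.headD 0)).map w).map (shO T w (ds.headD 0))) ∧
      ∀ s : Multiset ι, s.map κ = ds → (∀ i ∈ s, τ i ∈ T (κ i)) → ∃ U Q M,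
        (s.map fun i => (w (τ i)).u).sum = U + lU ∧ (s.map fun i => (w (τ i)).q).sum = Q + lQ ∧
        (s.map fun i => (w (τ i)).m).sum = M + lM ∧ (U ≤ hU ∧ gU ∣ U) ∧ (Q ≤ hQ ∧ gQ ∣ Q) ∧
        ∀ cur N acc, (∀ i ∈ s, κ i = ds.headD 0 → shO T w (κ i) (w (τ i)) ∈ cur) → M ≤ N →
          rs P tab cur U Q N acc = true → ∃ L : List ι, s = L ∧ P (L.map τ ++ acc) = true := by
  induction ds with
  | nil =>
    refine fun k h _ => ⟨_, _, _, _, _, _, _, _, _, h, by simp, fun s hs _ => ?_⟩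
    obtain rfl : s = 0 := by simpa using hs
    exact ⟨0, 0, 0, rfl, rfl, rfl, by simp, by simp, fun _ _ _ _ _ h => ⟨[], rfl, h⟩⟩
  | cons d ds ih =>
    intro k h hT
    obtain ⟨tab, cur, hU, hQ, gU, gQ, lU, lQ, lM, h1, h2, h3⟩ :=
      ih _ h fun d hd => hT d (List.mem_cons_of_mem _ hd)
    rw [hgen, forceO_eq] at h1
    obtain ⟨b, bs, hb⟩ := List.exists_cons_of_ne_nil
      (List.map_eq_nil_iff (f := w).not.mpr (hT d List.mem_cons_self))
    rw [hb] at h1
    simp only [force_eq, forceO_eq] at h1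
    rw [← hb] at h1
    refine ⟨_, _, _, _, _, _, _, _, _, h1, fun _ => rfl, fun s hs hτ => ?_⟩
    have h4 : ∀ i ∈ s, κ i = d → ∀ s', s = i ::ₘ s' → ∃ U Q M,
        (s.map fun i => (w (τ i)).u).sum = (shO T w d (w (τ i))).u + U +
          (minF Opt.u ((T d).map w) + lU) ∧ (s.map fun i => (w (τ i)).q).sum =
          (shO T w d (w (τ i))).q + Q + (minF Opt.q ((T d).map w) + lQ) ∧
        (s.map fun i => (w (τ i)).m).sum = (shO T w d (w (τ i))).m + M +
          (minF Opt.m ((T d).map w) + lM) ∧ (U ≤ hU ∧ gU ∣ U) ∧ (Q ≤ hQ ∧ gQ ∣ Q) ∧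
        ∀ cur N acc, (∀ i ∈ s', κ i = ds.headD 0 → shO T w (κ i) (w (τ i)) ∈ cur) → M ≤ N →
          rs P tab cur U Q N acc = true → ∃ L : List ι, s' = L ∧ P (L.map τ ++ acc) = true := by
      rintro i hi rfl s' rfl
      rw [Multiset.map_cons, ← Multiset.cons_coe, Multiset.cons_inj_right] at hs
      obtain ⟨U, Q, M, k1, k2, k3, k4⟩ := h3 s' hs fun j hj => hτ j (Multiset.mem_cons_of_mem hj)
      have k5 := fun f => minF_le f (List.mem_map_of_mem (f := w) (hτ i hi))
      have k6 := k5 Opt.u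
      have k7 := k5 Opt.q
      have k8 := k5 Opt.m
      simp only [Multiset.map_cons, Multiset.sum_cons, k1, k2, k3, shO, Opt.sh, Nat.sub_eq]
      exact ⟨U, Q, M, by omega, by omega, by omega, k4⟩
    obtain ⟨i, hi, hd⟩ := Multiset.mem_map.mp (hs ▸ List.mem_cons_self : d ∈ s.map κ)
    obtain ⟨s', hs'⟩ := Multiset.exists_cons_of_mem hi
    obtain ⟨U, Q, M, k1, k2, k3, k4, k5, -⟩ := h4 i hi hd s' hs'
    have k6 := fun f => stat_spec f (List.mem_map_of_mem (f := shO T w d)
      (List.mem_map_of_mem (f := w) (hd ▸ hτ i hi)))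
    refine ⟨_, _, _, k1, k2, k3, ⟨Nat.add_le_add (k6 Opt.u).1 k4.1, Nat.dvd_add
      ((Nat.gcd_dvd_left _ _).trans (k6 Opt.u).2) ((Nat.gcd_dvd_right _ _).trans k4.2)⟩,
      ⟨Nat.add_le_add (k6 Opt.q).1 k5.1, Nat.dvd_add ((Nat.gcd_dvd_left _ _).trans (k6 Opt.q).2)
        ((Nat.gcd_dvd_right _ _).trans k5.2)⟩, fun c N acc hc hN h5 => ?_⟩
    induction c with
    | nil => exact absurd (hc i hi hd) (by simp)
    | cons o os ihc =>
      by_cases hex : ∃ j ∈ s, κ j = d ∧ shO T w d (w (τ j)) = o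
      · obtain ⟨j, hj, hjd, rfl⟩ := hex
        obtain ⟨t, ht⟩ := Multiset.exists_cons_of_mem hj
        obtain ⟨U', Q', M', l1, l2, l3, l4, l5, l6⟩ := h4 j hj hjd t ht
        rw [Nat.add_right_cancel (k1.symm.trans l1), Nat.add_right_cancel (k2.symm.trans l2)] at h5
        rw [Nat.add_right_cancel (k3.symm.trans l3)] at hN
        refine (l6 _ _ _ (fun x hx hxd => ?_) (by omega) (rs_cons h5 (by omega) l4 l5)).elim
          fun L ⟨hL, hP⟩ => ⟨L ++ [j], ?_, by simpa [shO, Opt.sh, hw] using hP⟩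
        swap
        · rw [ht, hL, ← Multiset.coe_add, add_comm, Multiset.coe_singleton, Multiset.singleton_add]
        · have hx' := ht ▸ Multiset.mem_cons_of_mem hx
          cases e : Nat.beq d (ds.headD 0)
          · rw [ht, Multiset.map_cons, hjd, ← Multiset.cons_coe, Multiset.cons_inj_right] at hs
            rw [h2 (List.ne_nil_of_mem (Multiset.mem_coe.mp (hs ▸ Multiset.mem_map_of_mem κ hx))),
              ← hxd]
            exact List.mem_map_of_mem (List.mem_map_of_mem (hτ x hx'))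
          · exact hc x hx' (hxd.trans (beq_iff.mp e).symm)
      · exact ihc (fun j hj hjd => (List.mem_cons.mp (hc j hj hjd)).resolve_left
          fun e => hex ⟨j, hj, hjd, (show κ j = d from hjd) ▸ e⟩) (rec_and h5).1

/-- all assignments of options to the keys `ds` with the given weights satisfy `P` -/
noncomputable def rsearch (gen : ℕ → (List α → Bool) → Bool) (w : α → Opt α) (ds : List ℕ)
    (U N : ℕ) (Qs : List ℕ) (acc : List α) (P : List α → Bool) : Bool :=
  mkR gen w ds fun tab cur _ hU hQ gU gQ lU lQ lM =>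
    bimp (Nat.ble lU U && Nat.ble lM N && Nat.ble (U - lU) hU && Nat.beq ((U - lU) % gU) 0)
      (force (U - lU) fun U' => force (N - lM) fun N' => allL Qs fun Q =>
        bimp (Nat.ble lQ Q && Nat.ble (Q - lQ) hQ && Nat.beq ((Q - lQ) % gQ) 0)
          (force (Q - lQ) fun Q' => rs P tab cur U' Q' N' acc))

theorem rsearch_sound {ι : Type*} (τ : ι → α) (κ : ι → ℕ) {gen : ℕ → (List α → Bool) → Bool}
    {w : α → Opt α} {P : List α → Bool} {ds : List ℕ} {U N : ℕ} {Qs : List ℕ} {acc : List α}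
    (h : rsearch gen w ds U N Qs acc P = true) {T : ℕ → List α}
    (hgen : ∀ d k, gen d k = k (T d)) (hw : ∀ a, (w a).a = a) {s : Multiset ι} (hs : s.map κ = ds)
    (hτ : ∀ i ∈ s, τ i ∈ T (κ i)) (hU : (s.map fun i => (w (τ i)).u).sum = U)
    (hQ : (s.map fun i => (w (τ i)).q).sum ∈ Qs) (hN : (s.map fun i => (w (τ i)).m).sum ≤ N) :
    ∃ L : List ι, s = L ∧ P (L.map τ ++ acc) = true := by
  obtain ⟨tab, cur, bU, bQ, gU, gQ, lU, lQ, lM, h1, h2, h3⟩ :=
    mkR_sound τ κ hgen hw P ds _ h fun d hd => by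
      obtain ⟨i, hi, rfl⟩ := Multiset.mem_map.mp (hs ▸ hd : d ∈ s.map κ)
      exact List.ne_nil_of_mem (hτ i hi)
  obtain ⟨U', Q', M, k1, k2, k3, k4, k5, k6⟩ := h3 s hs hτ
  subst hU
  rw [k2] at hQ
  simp only [k1, bimp_iff, force_eq, allL_iff, Bool.and_eq_true, ble_iff, beq_iff,
    Nat.add_sub_cancel] at h1
  have h4 := h1 ⟨⟨⟨by omega, by omega⟩, k4.1⟩, Nat.mod_eq_zero_of_dvd k4.2⟩ _ hQ
  rw [Nat.add_sub_cancel] at h4
  refine k6 _ _ _ (fun i hi e => ?_) (by omega)
    (h4 ⟨⟨by omega, k5.1⟩, Nat.mod_eq_zero_of_dvd k5.2⟩)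
  rw [h2 (List.ne_nil_of_mem (Multiset.mem_coe.mp (hs ▸ Multiset.mem_map_of_mem κ hi))), ← e]
  exact List.mem_map_of_mem (List.mem_map_of_mem (hτ i hi))

end Cfsg.Agent.H16
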