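import Cfsg.Agent.H16.Gen5
import Cfsg.Agent.H16.RSearch

/-! A column search for involutions pruned by congruences. -/

set_option autoImplicit false
set_option linter.unusedSectionVars false

namespace Cfsg.Agent.H16

open Cfsg Subgroup H35 H14
open scoped ComplexConjugate

variable {G : Type*} [Group G] [Finite G] {p : ℕ} [hp : Fact p.Prime]

theorem prog_eq {β : Type} (d top s k0 : ℕ) (ok : ℤ → Bool) (n : ℕ) :
    ∀ (acc : List (ℕ × ℤ)) (k : List (ℕ × ℤ) → β),
      prog d top s k0 ok n acc k = k (prog d top s k0 ok n acc id) := by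
  induction n with
  | zero => exact fun _ _ => rfl
  | succ n ih =>
    intro acc k
    have e : ∀ {β : Type} (k : List (ℕ × ℤ) → β), prog d top s k0 ok (n + 1) acc k =
        Bool.rec (prog d top s k0 ok n acc k)
        (prog d top s k0 ok n ((d, (top : ℤ) - (s * (k0 + n) : ℕ)) :: acc) k)
        (ok (top - (s * (k0 + n) : ℕ))) := fun k => forceZ_eq ((top : ℤ) - (s * (k0 + n) : ℕ))
      fun a => Bool.rec (motive := fun _ => _) (prog d top s k0 ok n acc k)
        (prog d top s k0 ok n ((d, a) :: acc) k) (ok a)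
    rw [e, e]
    cases ok (top - (s * (k0 + n) : ℕ)) <;> exact ih _ _

theorem tys2_eq {β : Type} (u m i M : ℕ) (ok : ℕ → ℤ → Bool) (d : ℕ) (k : List (ℕ × ℤ) → β) :
    tys2 u m i M ok [d] k = k (tys2 u m i M ok [d] id) := by
  simp only [tys2, force_eq]
  exact prog_eq ..

/-- the weights -/
noncomputable def wR (p e L M : ℕ) (x : ℕ × ℤ) : Opt (ℕ × ℤ) :=
  Prod.rec (fun d a => ⟨(d, a), Int.toNat (Int.add (Int.mul (sgn p e d) a) (Int.ofNat M)),
    Nat.mul (Bool.rec (Nat.sub (Nat.mul M M) (Nat.mul a.natAbs a.natAbs))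
      (Nat.add (Nat.mul M M) (Nat.mul a.natAbs a.natAbs)) (decide (sgn p e d = 1))) (Nat.div L d),
    Nat.mul (mu p e d).toNat (Nat.mul a.natAbs a.natAbs)⟩) x

theorem wR_spec {p e L M d : ℕ} {a : ℤ} (ha : a.natAbs ≤ M) :
    ((wR p e L M (d, a)).u : ℤ) = sgn p e d * a + M ∧
      ((wR p e L M (d, a)).q : ℤ) = sgn p e d * (a ^ 2 * (L / d : ℕ)) + M ^ 2 * (L / d : ℕ) ∧
      ((wR p e L M (d, a)).m : ℤ) = mu p e d * a ^ 2 := by
  have h1 : sgn p e d = 1 ∨ sgn p e d = -1 := by rw [sgn]; split_ifs <;> simp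
  have h2 : 0 ≤ mu p e d := by rw [mu]; split_ifs <;> positivity
  have h3 : ((a.natAbs * a.natAbs : ℕ) : ℤ) = a ^ 2 := by simp [sq]
  refine ⟨?_, ?_, ?_⟩
  · change ((sgn p e d * a + M).toNat : ℤ) = _
    rcases h1 with h | h <;> rw [h] <;> omega
  · change (((Bool.rec (M * M - a.natAbs * a.natAbs) (M * M + a.natAbs * a.natAbs)
      (decide (sgn p e d = 1)) : ℕ) * (L / d) : ℕ) : ℤ) = _
    rcases h1 with h | h <;> rw [h]
    · rw [decide_eq_true rfl, Nat.cast_mul, Nat.cast_add, h3]; push_cast; ring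
    · rw [decide_eq_false (by norm_num), Nat.cast_mul, Nat.cast_sub (Nat.mul_le_mul ha ha), h3]
      push_cast; ring
  · change (((mu p e d).toNat * (a.natAbs * a.natAbs) : ℕ) : ℤ) = _
    rw [Nat.cast_mul, h3, Int.toNat_of_nonneg h2]

/-- search for the column of an involution with centraliser of order `c`, given part of it -/
noncomputable def colR (p e v n c m : ℕ) (N : ℤ) (l : List ℕ) (pre : List (ℕ × ℤ))
    (qs : List (ℕ × ℕ)) (Q : List (ℕ × ℤ) → Bool) : Bool :=
  forceL (l.diff (pre.map Prod.fst)) fun r => bimp (Nat.beq (r.length + pre.length) l.length)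
  (force (n / c) fun i =>
  bimp (allL pre fun x => decide (i * (x.1 - x.2) % (x.1 * nfm p e qs l x.1 : ℕ) = 0))
  (forceZ (N - (pre.map fun x => mu p e x.1 * x.2 ^ 2).sum) fun N0 => bimp (decide (0 ≤ N0))
  (force N0.toNat fun N' => force N'.sqrt fun M => force (l.foldr Nat.lcm 1) fun L =>
    rsearch (fun d => tys2 1 (Nat.lcm m (d * nfm p e qs l d / Nat.gcd (d * nfm p e qs l d) i)) i M
      (fun d a => Nat.blt a.natAbs d && Nat.ble ((mu p e d).toNat * (a.natAbs * a.natAbs)) N') [d])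
      (wR p e L M) r (-1 - (pre.map fun x => sgn p e x.1 * x.2).sum + r.length * M).toNat N'
      (((List.range (if e % 2 = 0 then v + 1 else 1)).filter fun j =>
        Nat.beq (p * n * j ^ 2 * L % (v * i ^ 2)) 0).map fun j =>
        ((p * n * j ^ 2 * L / (v * i ^ 2) : ℕ) - L -
          (pre.map fun x => sgn p e x.1 * (x.2 ^ 2 * (L / x.1 : ℕ))).sum +
          (M ^ 2 * (r.map (L / ·)).sum : ℕ) : ℤ).toNat)
      pre fun l' => bimp (omOK p e i qs l') (Q l'))))

theorem dvd_foldr_lcm {l : List ℕ} {d : ℕ} (h : d ∈ l) : d ∣ l.foldr Nat.lcm 1 := by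
  induction l with
  | nil => simp at h
  | cons b l ih =>
    rcases List.mem_cons.mp h with h | h
    · exact h ▸ Nat.dvd_lcm_left _ _
    · exact (ih h).trans (Nat.dvd_lcm_right _ _)

theorem PB.colR_sound [IsSimpleGroup G] {S : Setup G p} (P : PB S) (hG : commutator G = ⊤)
    {e v n c m : ℕ} (he : S.V.index = e) (hv : Nat.card S.V = v) (hn : Nat.card G = n) {t : G}
    (ht : orderOf t = 2) (hc : Nat.card (centralizer ({t} : Set G)) = c)
    {L : List (IrrCharacter G)} (hL : P.Z.val = L) {l : List ℕ} (hl : L.map dg = l)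
    {Lp : List (IrrCharacter G)} (hp1 : Lp.Nodup) (hp2 : ∀ χ ∈ Lp, χ ∈ P.Z) {pre : List (ℕ × ℤ)}
    (hpre : (Lp.map fun χ => (dg χ, ival t χ)) = pre) {N : ℤ}
    (hN : ∑ χ ∈ P.Z, mu p e (dg χ) * ival t χ ^ 2 ≤ N)
    {qs : List (ℕ × ℕ)} {Q : List (ℕ × ℤ) → Bool}
    (h : colR p e v n c m N l pre qs Q = true) (hm : 0 < m)
    (hm' : ∀ χ ∈ P.Z, (m : ℤ) ∣ dg χ - ival t χ)
    (hqs : ∀ x ∈ qs, x.1.Prime ∧ x.1 ≠ p ∧ v % x.1 ≠ 0 ∧ n % x.1 ^ x.2 = 0) :
    ∃ L : List (IrrCharacter G), P.Z.val = L ∧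
      Q (L.map fun χ => (dg χ, ival t χ)) = true := by
  subst he hv hn hc hl hpre
  have ht2 : t * t = 1 := by rw [← sq, ← ht, pow_orderOf_eq_one]
  have ht1 : t ≠ 1 := fun e => by simp [e] at ht
  have hreg : ¬ p ∣ orderOf t := fun h => P.p2
    ((Nat.prime_dvd_prime_iff_eq hp.out Nat.prime_two).mp (ht ▸ h))
  have ha : ∀ χ ∈ P.Z, (χ : G → ℂ) t = ival t χ := fun χ _ => (ival_inv hG ht2 χ).1
  have hi : Nat.card G / Nat.card (centralizer ({t} : Set G)) =
      (centralizer ({t} : Set G)).index := by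
    rw [← card_mul_index (centralizer ({t} : Set G)), Nat.mul_div_cancel_left _ Nat.card_pos]
  have hq := P.quad ht2 ha fun χ hχ =>
    dvd_foldr_lcm (List.mem_map_of_mem (f := dg) ((mem_list hL).mp hχ))
  have hj := card_invJ_le (S := S) t
  have hj' := fun h => invJ_eq_empty (S := S) P.p2 h t
  have hlin := P.lin_int hreg ha
  obtain ⟨s, hs⟩ := Multiset.le_iff_exists_add.mp
    ((Multiset.le_iff_subset (t := P.Z.val) (Multiset.coe_nodup.mpr hp1)).mpr hp2)
  have hs1 : ∀ χ ∈ s, χ ∈ P.Z := fun χ h => by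
    rw [← Finset.mem_val, hs]; exact Multiset.mem_add.mpr (Or.inr h)
  have hsum : ∀ F : IrrCharacter G → ℤ, ∑ χ ∈ P.Z, F χ = (Lp.map F).sum + (s.map F).sum :=
    fun F => by rw [Finset.sum, hs]; simp
  have hr : s.map dg = ((L.map dg).diff (Lp.map fun x => dg x) : List ℕ) := by
    rw [← Multiset.coe_sub, ← Multiset.map_coe dg L, ← hL, hs, Multiset.map_add, Multiset.map_coe,
      add_tsub_cancel_left]
  have nf := fun χ (hχ : χ ∈ P.Z) => P.nfm_spec hL ha hχ qs hqs
  have nf' : ∀ χ ∈ P.Z, ((dg χ * nfm p S.V.index qs (L.map dg) (dg χ) : ℕ) : ℤ) ∣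
      (centralizer ({t} : Set G)).index * (dg χ - ival t χ) := fun χ hχ => by
    have := mul_dvd_mul_left (dg χ : ℤ) (nf χ hχ).2
    rwa [mul_sub, Int.mul_ediv_cancel' (dg_dvd_index_mul χ (ha χ hχ)), 
      mul_comm _ ((centralizer ({t} : Set G)).index : ℤ), ← mul_sub, ← Nat.cast_mul] at this
  simp only [colR, force_eq, forceL_eq, forceZ_eq, hi, bimp_iff, List.map_map, Function.comp_def,
    allL_iff, beq_iff, decide_eq_true_eq, List.forall_mem_map] at h
  rw [hsum] at hq hlin hN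
  have hmu : ∀ x ∈ s.map fun χ => mu p S.V.index (dg χ) * ival t χ ^ 2, 0 ≤ x :=
    Multiset.forall_mem_map_iff.mpr fun χ _ =>
      mul_nonneg (zero_le_one.trans (P.mu_pos _)) (sq_nonneg _)
  have h0 := Multiset.sum_nonneg hmu
  replace h := h (by
    have := congrArg Multiset.card hr
    have h1 := congrArg Multiset.card (hL.symm.trans hs)
    simp only [Multiset.card_map, Multiset.coe_card, Multiset.card_add, List.length_map] at *
    omega) (fun χ hχ => Int.emod_eq_zero_of_dvd (nf' χ (hp2 χ hχ))) (by omega)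
  generalize hN' : (N - (Lp.map fun χ => mu p S.V.index (dg χ) * ival t χ ^ 2).sum).toNat = N' at h
  have h1 : ∀ χ ∈ s, mu p S.V.index (dg χ) * ival t χ ^ 2 ≤ N' := fun χ hχ =>
    (Multiset.single_le_sum hmu _ (Multiset.mem_map_of_mem _ hχ)).trans (by omega)
  have h2 : ∀ χ ∈ s, (ival t χ).natAbs ≤ N'.sqrt := fun χ hχ => Nat.le_sqrt'.mpr (by
    zify
    rw [sq_abs]
    nlinarith [h1 χ hχ, P.mu_pos (dg χ), sq_nonneg (ival t χ)])
  generalize (L.map dg).foldr Nat.lcm 1 = Lc at *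
  have h3 := fun χ hχ => wR_spec (p := p) (e := S.V.index) (L := Lc) (d := dg χ) (h2 χ hχ)
  refine (rsearch_sound (fun χ => (dg χ, ival t χ)) dg h
    (fun d k => tys2_eq _ _ _ _ _ d k) (fun _ => rfl) hr (fun χ hχ => ?_) ?_ ?_ ?_).elim
    fun L' ⟨hL', hQ⟩ => ?_
  rotate_right
  · rw [← List.map_append] at hQ
    have hL2 : P.Z.val = (L' ++ Lp : List _) := by rw [hs, hL', add_comm, Multiset.coe_add]
    refine ⟨_, hL2, bimp_iff.mp hQ (allL_iff.mpr fun y hy => allL_iff.mpr fun r _ => ?_)⟩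
    obtain ⟨h1, h2, h3, h4⟩ := hqs y hy
    have h5 := P.bt_omega h1 h2 (fun h => h3 (Nat.mod_eq_zero_of_dvd h))
      (Nat.dvd_of_mod_eq_zero h4) ha r
    simp only [List.map_map, ← sum_list hL2, Bool.and_eq_true, decide_eq_true_eq, bimp_iff,
      beq_iff]
    exact ⟨h5.1, fun e => h5.2 (by rw [e, ht])⟩
  · have hχ' := hs1 χ hχ
    have k0 := Nat.mul_pos (dg_pos χ) (nf χ hχ').1
    obtain ⟨ts, e, hts⟩ := tys2_spec (β := List (ℕ × ℤ)) (u := 1)
      (i := (centralizer ({t} : Set G)).index) (M := N'.sqrt) (Nat.lcm_pos hm (Nat.div_pos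
        (Nat.gcd_le_left (centralizer ({t} : Set G)).index k0) (Nat.gcd_pos_of_pos_left _ k0)))
      (fun d a => Nat.blt a.natAbs d &&
        Nat.ble ((mu p S.V.index d).toNat * (a.natAbs * a.natAbs)) N') [dg χ] id
    have k1 := abs_lt_of_simple hG (P.ne_triv hχ') ht1 (ha χ hχ')
    rw [abs_lt] at k1
    refine e ▸ hts _ List.mem_cons_self (dg_pos χ) _ ?_ (dg_dvd_index_mul χ (ha χ hχ')) (h2 χ hχ)
      (by omega) ?_
    · rw [Nat.cast_one, one_mul]
      exact Int.natCast_dvd.mpr (Nat.lcm_dvd (Int.natCast_dvd.mp (hm' χ hχ'))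
        (Int.natCast_dvd.mp (div_gcd_dvd k0 (nf' χ hχ'))))
    · rw [Nat.blt_eq.mpr (by omega), ble_iff.mpr (by
        exact_mod_cast (h3 χ hχ).2.2.trans_le (h1 χ hχ))]
      rfl
  · refine (Int.toNat_natCast _).symm.trans (congrArg _ ?_)
    rw [Nat.cast_multiset_sum, Multiset.map_map, Function.comp_def,
      Multiset.map_congr rfl fun χ hχ => (h3 χ hχ).1,
      Multiset.sum_map_add, ← Multiset.coe_card, ← hr]
    simp only [Multiset.map_const', Multiset.sum_replicate, Multiset.card_map, nsmul_eq_mul]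
    omega
  · have hi0 : 0 < Nat.card S.V * (centralizer ({t} : Set G)).index ^ 2 :=
      Nat.mul_pos Nat.card_pos (pow_pos (Nat.pos_of_ne_zero index_ne_zero_of_finite) _)
    rw [mul_assoc] at hq
    refine List.mem_map.mpr ⟨(invJ S t).card, List.mem_filter.mpr ⟨List.mem_range.mpr ?_,
      beq_iff.mpr (Nat.mod_eq_zero_of_dvd (Int.natCast_dvd_natCast.mp ?_))⟩, ?_⟩
    · split_ifs with h
      · omega
      · simp [hj' (by omega)]
    · push_cast
      exact hq ▸ dvd_mul_left _ _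
    · refine (congrArg _ ?_).trans (Int.toNat_natCast _)
      rw [Nat.cast_multiset_sum, Multiset.map_map, Function.comp_def,
        Multiset.map_congr rfl fun χ hχ => (h3 χ hχ).2.1, Multiset.sum_map_add,
        Multiset.sum_map_mul_left, Int.natCast_div, Nat.cast_mul _ Lc, Nat.cast_mul _ (_ ^ 2),
        Nat.cast_mul p, Nat.cast_pow, ← hq, Nat.cast_mul, Nat.cast_pow,
        Int.mul_ediv_cancel _ (by exact_mod_cast hi0.ne'), ← Multiset.sum_coe (List.map (Lc / ·) _),
        ← Multiset.map_coe, ← hr, Nat.cast_mul, Nat.cast_multiset_sum, Multiset.map_map, Multiset.map_map]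
      simp only [Function.comp_def, Nat.cast_pow]
      ring
  · apply Int.le_of_ofNat_le_ofNat
    rw [Nat.cast_multiset_sum, Multiset.map_map, Function.comp_def,
      Multiset.map_congr rfl fun χ hχ => (h3 χ hχ).2.2]
    omega

end Cfsg.Agent.H16
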