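import Cfsg.Agent.H16.Gen4

/-! Groups with a self-centralising Sylow subgroup of prime order of index two in its
normaliser: the numerical data. -/

set_option autoImplicit false
set_option linter.unusedSectionVars false

namespace Cfsg.Agent.H16

open Cfsg Subgroup H35
open scoped ComplexConjugate

/-- order of the centraliser -/
noncomputable abbrev cc {G : Type*} [Group G] (g : G) : ℕ := Nat.card (centralizer ({g} : Set G))

/-- the numerical data -/
structure E2 (G : Type*) [Group G] (p x y : ℕ) (δ : ℤ) (b : G → ℤ) : Prop where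
  hδ : δ = 1 ∨ δ = -1
  hy : (y : ℤ) = x + δ
  hk : (p : ℤ) ∣ x - δ
  x1 : 1 < x
  y1 : 1 < y
  dvd : p * (x * y) ∣ Nat.card G
  sq : ¬ p ^ 2 ∣ Nat.card G
  syl : Nat.card G / (2 * p) % p = 1
  one : ∀ s t : G, orderOf s = 2 → orderOf t = 2 → IsConj s t
  inv : ∀ t : G, orderOf t = 2 → Nat.card G * (y - b t) ^ 2 = p * cc t ^ 2 * (x * y) ∧
    4 ∣ y - b t ∧ p * |b t| ≤ y - 2 * δ
  ndvd : ∀ g : G, g ≠ 1 → ¬ p ∣ orderOf g → ¬ p ∣ cc g
  div : ∀ t g : G, orderOf t = 2 → g ≠ 1 → ¬ p ∣ orderOf g →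
    (cc g * (y - b t) : ℤ) ∣ cc t * (y - b g)
  lt : ∀ g : G, g ≠ 1 → ¬ p ∣ orderOf g → |b g| < y
  col : ∀ g : G, ¬ p ∣ orderOf g → 1 + (b g - δ) ^ 2 + ((p - 1) / 2 : ℕ) * b g ^ 2 ≤ cc g
  pr : ∀ (g : G) (r : ℕ), r.Prime → r ≠ p → orderOf g = r →
    (r : ℤ) ∣ y - b g ∧ (r - 1) * (y - b g) ≤ r * x
  dx : ∀ (g : G) (r : ℕ), r.Prime → r ∣ orderOf g → ¬ r ∣ Nat.card G / x → b g = δ
  dy : ∀ (g : G) (r : ℕ), r.Prime → r ∣ orderOf g → ¬ r ∣ Nat.card G / y → b g = 0
  wt : ∀ T : Finset G, (∀ g ∈ T, g ≠ 1 ∧ ¬ p ∣ orderOf g) →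
    p * (∑ g ∈ T, b g ^ 2 + y ^ 2) ≤ 2 * Nat.card G
  cj : ∀ g h : G, IsConj g h → b g = b h
  reg : ∀ g : G, p ∣ orderOf g → orderOf g = p

variable {G : Type*} [Group G] [Finite G] {p : ℕ} [hp : Fact p.Prime]

/-- the dihedral bound -/
theorem dih_bound (S : Setup G p) (h2 : p ≠ 2) (hK : Nat.card S.K = 2) {s : S.K}
    (hs : S.κ s = -1) {φ : G → ℂ} (hφ : IsCharacter G φ) {A b : ℤ}
    (hA : ∑ i, φ (S.xp i) = A) (hb : φ s = b) : p * |b| ≤ A := by
  classical
  have := Fintype.ofFinite G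
  have hs1 : s ≠ 1 := by
    rintro rfl
    rw [map_one] at hs
    have h := congrArg (fun u : (ZMod p)ˣ => (u : ZMod p)) hs
    simp only [Units.val_one, Units.val_neg] at h
    have h3 : ((2 : ℕ) : ZMod p) = 0 := by push_cast; linear_combination h
    exact h2 ((Nat.prime_dvd_prime_iff_eq hp.out Nat.prime_two).mp
      ((ZMod.natCast_eq_zero_iff 2 p).mp h3))
  have hu : (Finset.univ : Finset S.K) = {1, s} := by
    symm
    refine Finset.eq_univ_of_card _ ?_
    rw [Finset.card_pair hs1.symm, ← Nat.card_eq_fintype_card, hK]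
  set N := normalizer ((zpowers S.x : Subgroup G) : Set G)
  have hi : ((zpowers S.x).subgroupOf N).index = 2 := by
    have h1 := ((zpowers S.x).subgroupOf N).card_mul_index
    rw [Nat.card_congr (subgroupOfEquivOfLe le_normalizer).toEquiv, Nat.card_zpowers, S.hx,
      S.card_normalizer, hK] at h1
    exact Nat.eq_of_mul_eq_mul_left hp.out.pos h1
  let lam : N →* ℂˣ := MonoidHom.mk' (fun g => if (g : G) ∈ zpowers S.x then 1 else -1)
    fun g h => by
      have := mul_mem_iff_of_index_two hi (a := g) (b := h)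
      simp only [mem_subgroupOf] at this
      by_cases h1 : (g : G) ∈ zpowers S.x <;> by_cases h2 : (h : G) ∈ zpowers S.x <;> simp_all
  have hn : ∀ i, S.xp i * (s : G) ∉ zpowers S.x := fun i h => by
    obtain ⟨j, hj⟩ := S.exists_xp h
    exact hs1 (S.eq_of_xp_mul_eq (k' := 1) (by simpa using hj)).2
  have hc : ∀ i, φ (S.xp i * s) = b := fun i => by
    obtain ⟨c, hc⟩ := isConj_iff.mp (conj_xp_mul h2 hs i)
    rw [← hc, H5.isCharacter_mul_comm hφ, ← mul_assoc, inv_mul_cancel, one_mul, hb]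
  have key : ∀ ψ : G → ℂ, IsCharacter N (fun g => ψ g) → ∃ m : ℕ,
      ∑ i, (φ (S.xp i) * conj (ψ (S.xp i)) + b * conj (ψ (S.xp i * s))) = Nat.card N * m :=
    fun ψ hψ => by
      obtain ⟨m, hm⟩ := H5.exists_nat_classInner (H5.isCharacter_restrict hφ N) hψ
      rw [classInner, inv_mul_eq_iff_eq_mul₀ H5.natCard_ne_zero,
        ← Finset.sum_subtype (Finset.univ.filter (· ∈ N)) (by simp) fun g => φ g * conj (ψ g),
        S.sum_normalizer] at hm
      refine ⟨m, hm ▸ Finset.sum_congr rfl fun i _ => ?_⟩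
      rw [hu, Finset.sum_pair hs1.symm, hc]
      simp
  obtain ⟨m, hm⟩ := key (fun _ => 1) H5.isCharacter_one
  obtain ⟨n, hn'⟩ := key (fun g => if g ∈ zpowers S.x then 1 else -1) (by
    convert H5.isCharacter_monoidHom lam using 2 with g
    simp only [lam, MonoidHom.mk'_apply]
    split_ifs <;> simp)
  simp only [if_pos (S.xp_mem _), if_neg (hn _), map_one, map_neg, mul_one, mul_neg,
    Finset.sum_add_distrib, hA, Finset.sum_const, Finset.card_univ, ZMod.card,
    nsmul_eq_mul] at hm hn'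
  have e1 : A + p * b = Nat.card N * m := by exact_mod_cast hm
  have e2 : A + -(p * b) = Nat.card N * n := by exact_mod_cast hn'
  have p1 : (0 : ℤ) ≤ Nat.card N * m := by positivity
  have p2 : (0 : ℤ) ≤ Nat.card N * n := by positivity
  rcases abs_cases b with h | h <;> rw [h.1] <;> linarith

theorem exists_E2 [IsSimpleGroup G] (hG : commutator G = ⊤) (S : Setup G p) (h3 : p ≠ 3)
    (hK : Nat.card S.K = 2) : ∃ x y δ b, E2 G p x y δ b := by
  classical
  have := Fintype.ofFinite G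
  obtain ⟨P⟩ := nonempty_PB hG S
  obtain ⟨n1, n2, -, n4, n5, n6⟩ := numerics hG S
  have hVi := S.V.card_mul_index
  rw [hK] at hVi
  have he : S.V.index = 2 := ((Nat.dvd_prime Nat.prime_two).mp ⟨_, by rw [← hVi, mul_comm]⟩).resolve_left n4
  have hV : Nat.card S.V = 1 := by rw [he] at hVi; omega
  have hp5 : 5 ≤ p := hp.out.five_le_of_ne_two_of_ne_three P.p2 h3
  obtain ⟨χ, hχ⟩ := Finset.card_eq_one.mp (show (P.B.X.erase (triv G)).card = 1 by
    rw [Finset.card_erase_of_mem P.ht, P.B.cardX', he])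
  have hχ' := Finset.mem_erase.mp (hχ ▸ Finset.mem_singleton_self χ)
  have hZ : ∀ {A : Type} [AddCommMonoid A] (F : IrrCharacter G → A),
      ∑ φ ∈ P.Z, F φ = F P.ψ + F χ := fun F => by
    rw [P.sum_Z, ← Finset.sum_singleton F χ, ← hχ]; congr!
  have mZ : ∀ φ ∈ P.Z, φ = P.ψ ∨ φ = χ := fun φ h => (P.mem_Z.mp h).imp_right fun h =>
    Finset.mem_singleton.mp (hχ ▸ Finset.mem_erase.mpr h)
  have χZ : χ ∈ P.Z := P.mem_Z.mpr (Or.inr hχ')
  have ψZ : P.ψ ∈ P.Z := P.mem_Z.mpr (Or.inl rfl)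
  have s1 := P.sgn_X hχ'.2
  have s2 := P.sgn_Y P.hψ
  have nψ : ¬ nexc p (dg P.ψ) := by rw [s2.2, he]; omega
  set δ := P.B.δ χ
  have hδ : δ = 1 ∨ δ = -1 := P.B.δ_sign χ hχ'.2
  have x1 := one_lt_dg hG hχ'.1
  have y1 := one_lt_dg hG P.ψ_ne_triv
  have ld := P.lin_deg
  rw [hZ, s1.2, s2.1] at ld
  have hε : P.B.ε = δ := by
    rcases P.B.ε_sign with h | h <;> rcases hδ with h' | h' <;> rw [h, h'] at ld ⊢ <;> omega
  rw [hε] at ld s2
  have hy : (dg P.ψ : ℤ) = dg χ + δ := by rcases hδ with h | h <;> rw [h] at ld ⊢ <;> omega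
  have dd : δ * δ = 1 := by rcases hδ with h | h <;> rw [h] <;> rfl
  have ha : ∀ g, (χ : G → ℂ) g = ival g χ := fun g => ival_spec (exists_int_of_gal_fixed χ
    (fun τ => (mZ _ (P.mem_of_nexc hV (fun e => hχ'.1 (eq_triv_of_dg hG (by
      rw [← dg_gal τ, e, dg_triv]))) (by rw [dg_gal]; exact s1.1))).resolve_left fun e =>
        nψ (by rw [← e, dg_gal]; exact s1.1)) g)
  have hb : ∀ g, ¬ p ∣ orderOf g → (P.ψ : G → ℂ) g = (ival g χ + δ : ℤ) := fun g hg => by
    have h := P.lin hg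
    rw [hZ, s1.2, s2.1, ha] at h
    have h' : (δ : ℂ) * δ = 1 := by exact_mod_cast dd
    push_cast at h ⊢
    linear_combination -δ * h - ((P.ψ : G → ℂ) g - ival g χ) * h'
  have hab : ∀ g, ¬ p ∣ orderOf g → ∀ φ ∈ P.Z, (φ : G → ℂ) g =
      (if φ = χ then ival g χ else ival g χ + δ : ℤ) := fun g hg φ h => by
    split_ifs with e
    · rw [e, ha]
    · rw [(mZ φ h).resolve_right e, hb g hg]
  have ne : P.ψ ≠ χ := fun e => nψ (e ▸ s1.1)
  have cop : (dg χ).Coprime (dg P.ψ) := by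
    rcases hδ with h | h <;> rw [h] at hy
    · rw [show dg P.ψ = dg χ + 1 by omega]; simp
    · rw [show dg χ = dg P.ψ + 1 by omega]; simp
  have hidx : Nat.card G = p * (centralizer ({S.x} : Set G)).index := by
    rw [n6, n1, hV]; ring
  have hdvd : p * (dg χ * dg P.ψ) ∣ Nat.card G := hidx ▸ Nat.mul_dvd_mul_left p
    (cop.mul_dvd_of_dvd_of_dvd (P.deg_ok χZ).1 (P.deg_ok ψZ).1)
  have r2 : ∀ t : G, orderOf t = 2 → ¬ p ∣ orderOf t := fun t ht h => by
    rw [ht] at h; have := Nat.le_of_dvd two_pos h; omega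
  have t1 : ∀ t : G, orderOf t = 2 → t ≠ 1 := fun t ht h => by rw [h, orderOf_one] at ht; omega
  have hlt : ∀ g : G, g ≠ 1 → ¬ p ∣ orderOf g → |ival g χ + δ| < dg P.ψ := fun g h1 hg =>
    abs_lt_of_simple hG P.ψ_ne_triv h1 (hb g hg)
  have hN0 : (Nat.card G : ℤ) ≠ 0 := by exact_mod_cast Nat.card_pos.ne'
  have hq : ∀ t : G, orderOf t = 2 → (∃ k, k ∈ invJ S t) ∧
      (Nat.card G : ℤ) * (dg P.ψ - (ival t χ + δ)) ^ 2 = p * cc t ^ 2 * (dg χ * dg P.ψ) :=
    fun t ht => by
      have h := P.quad (t := t) (by rw [← sq, ← ht, pow_orderOf_eq_one]) (hab t (r2 t ht))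
        (L := dg χ * dg P.ψ) fun φ h => by rcases mZ φ h with rfl | rfl <;> simp
      rw [hZ, s1.2, s2.1, if_pos rfl, if_neg ne, hV, Nat.mul_div_cancel _ (dg_pos _),
        Nat.mul_div_cancel_left _ (dg_pos _)] at h
      have h1 := card_invJ_le (S := S) t
      have h2 : (cc t : ℤ) * (centralizer ({t} : Set G)).index = Nat.card G := by
        exact_mod_cast card_cent_mul t
      have h4 : (dg P.ψ - (ival t χ + δ)) ^ 2 * (Nat.card G : ℤ) ^ 2 =
          p * Nat.card G * (invJ S t).card ^ 2 * (dg χ * dg P.ψ) * cc t ^ 2 := by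
        push_cast at h
        rw [← h, ← h2, hy]
        linear_combination (cc t * (centralizer ({t} : Set G)).index) ^ 2 *
          ((dg χ : ℤ) * δ + 2 * dg χ * ival t χ - ival t χ ^ 2) * dd
      have h5 : (invJ S t).card ≠ 0 := fun e => by
        rw [e] at h4
        have := (abs_lt.mp (hlt t (t1 t ht) (r2 t ht))).2
        have h6 : (dg P.ψ - (ival t χ + δ) : ℤ) ≠ 0 := by omega
        simp [h6] at h4
      refine ⟨Finset.card_pos.mp (by omega), mul_left_cancel₀ hN0 ?_⟩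
      rw [show (invJ S t).card = 1 by omega] at h4
      linear_combination h4
  have nd := fun (g : G) h1 hg => not_dvd_card_centralizer S hV (g := g) h1 hg
  refine ⟨dg χ, dg P.ψ, δ, fun g => ival g χ + δ, hδ, hy, ?_, x1, y1, hdvd, S.hsq, ?_,
    fun s t hs ht => ?_, fun t ht => ⟨(hq t ht).2, ?_, ?_⟩, nd, fun t g ht h1 hg => ?_, hlt,
    fun g hg => ?_, fun g r hr hrp hg => ?_, fun g r hr hg h => ?_, fun g r hr hg h => ?_,
    fun T hT => ?_, fun g h hc => by rw [ival_conj hc], fun g => orderOf_eq_of_sing S hV⟩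
  · have := int_cong_dg χ hp.out (x := S.x) ⟨1, by rw [S.hx, pow_one]⟩
      (valX_sing P.B hχ'.2 (by rw [S.hx]))
    exact dvd_sub_comm.mp this
  · rw [n1, hV, he, show p * (1 * 2) = 2 * p by ring, Nat.mul_div_cancel _ (by omega), n2]
  · obtain ⟨k, hk⟩ := (hq s hs).1
    obtain ⟨l, hl⟩ := (hq t ht).1
    have h : k * l ∈ S.V := by
      rw [MonoidHom.mem_ker, map_mul, (mem_invJ.mp hk).2, (mem_invJ.mp hl).2]; simp
    have h' := mul_mem_V hl hl
    rw [card_eq_one.mp hV, mem_bot] at h h'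
    rw [mul_right_cancel (h.trans h'.symm)] at hk
    exact (mem_invJ.mp hk).1.trans (mem_invJ.mp hl).1.symm
  · have := four_dvd hG χ ht
    rwa [hy, add_sub_add_right_eq_sub]
  · obtain ⟨k, hk⟩ := (hq t ht).1
    have h := (P.trace_all hV P.ψ).1
    rw [tau, if_neg (fun e => not_dvd_dg P.B (Or.inr P.hψ) (Nat.dvd_of_mod_eq_zero e)), if_neg nψ,
      s2.1, he] at h
    refine dih_bound S P.p2 hK (mem_invJ.mp hk).2 (irr_char P.ψ) ?_
      ((irr_conj _ (mem_invJ.mp hk).1).symm.trans (hb t (r2 t ht)))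
    rw [← Finset.add_sum_erase _ _ (Finset.mem_univ 0), h, S.xp_zero, dg_cast]
    push_cast
    ring
  · have h := H88.card_class_mul g t S.x⁻¹
    have hx : p ∣ orderOf S.x := by rw [S.hx]
    rw [inv_inv, ← Finset.sum_subset (Finset.subset_univ (P.B.X ∪ P.B.Y)) (fun φ _ hφ => by
      rw [Finset.mem_union, not_or] at hφ
      rw [zero_sing P.B hV hφ.1 hφ.2 hx]; simp), Finset.sum_union P.B.disj,
      ← Finset.add_sum_erase _ _ P.ht, hχ, Finset.sum_singleton, Finset.sum_congr (s₁ := P.B.Y) rfl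
        (g := fun φ => (P.ψ : G → ℂ) g * (P.ψ : G → ℂ) t / dg P.ψ * (φ : G → ℂ) S.x) fun φ hφ => by
          rw [P.B.eq_on_regular hφ P.hψ hg, P.B.eq_on_regular hφ P.hψ (r2 t ht), dg_cast,
            dgY_eq P.B hφ P.hψ]; ring, ← Finset.mul_sum, sumY_sing P.B hx, valX_sing P.B hχ'.2 hx,
      hb g hg, hb t (r2 t ht), ha g, ha t, dg_cast χ, hε, H36.card_isConj_eq_index,
      H36.card_isConj_eq_index] at h
    simp only [triv_apply] at h
    set n := Nat.card {q : G × G // IsConj g q.1 ∧ IsConj t q.2 ∧ q.1 * q.2 = S.x⁻¹}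
    have h2 : (cc t : ℂ) * (centralizer ({t} : Set G)).index = Nat.card G := by
      exact_mod_cast card_cent_mul t
    have h4 : (cc g : ℂ) * (centralizer ({g} : Set G)).index = Nat.card G := by
      exact_mod_cast card_cent_mul g
    have x0 : (dg χ : ℂ) ≠ 0 := by exact_mod_cast (dg_pos χ).ne'
    have y0 : (dg P.ψ : ℂ) ≠ 0 := by exact_mod_cast (dg_pos _).ne'
    have hy' : (dg P.ψ : ℂ) = dg χ + δ := by exact_mod_cast hy
    have dd' : (δ : ℂ) * δ = 1 := by exact_mod_cast dd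
    have h5 : (n * cc g * cc t * (dg χ * dg P.ψ) : ℤ) =
        Nat.card G * ((dg P.ψ - (ival g χ + δ)) * (dg P.ψ - (ival t χ + δ))) := by
      apply Int.cast_injective (α := ℂ)
      apply mul_left_cancel₀ (H5.natCard_ne_zero (G := G))
      have h' : (Nat.card G : ℂ) * n * (dg χ * dg P.ψ) = (centralizer ({g} : Set G)).index *
          (centralizer ({t} : Set G)).index * ((dg χ - ival g χ) * (dg χ - ival t χ)) := by
        rw [h, mul_assoc]
        congr 1
        field_simp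
        push_cast
        rw [hy']
        linear_combination (ival g χ * ival t χ - dg χ * (ival g χ + ival t χ) - δ * dg χ) * dd'
      push_cast
      rw [hy', add_sub_add_right_eq_sub, add_sub_add_right_eq_sub, ← hy']
      linear_combination (cc g * cc t) * h' + ((dg χ - ival g χ) * (dg χ - ival t χ)) *
        (cc g * (centralizer ({g} : Set G)).index * h2 + Nat.card G * h4)
    have h6 : (n * (cc g * (dg P.ψ - (ival t χ + δ))) : ℤ) =
        p * (cc t * (dg P.ψ - (ival g χ + δ))) := by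
      have c0 : (cc t * (dg χ * dg P.ψ) : ℤ) ≠ 0 := by
        have := dg_pos χ; have := dg_pos P.ψ; have := Nat.card_pos (α := centralizer ({t} : Set G))
        positivity
      apply mul_left_cancel₀ c0
      linear_combination (dg P.ψ - (ival t χ + δ)) * h5 + (dg P.ψ - (ival g χ + δ)) * (hq t ht).2
    have pz : Prime (p : ℤ) := Nat.prime_iff_prime_int.mp hp.out
    have np : ¬ (p : ℤ) ∣ cc g * (dg P.ψ - (ival t χ + δ)) := fun h => by
      rcases pz.dvd_or_dvd h with h | ⟨m, hm⟩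
      · exact nd g h1 hg (by exact_mod_cast h)
      · have h7 := (hq t ht).2
        rw [hm] at h7
        have h8 : (p : ℤ) ∣ cc t ^ 2 * (dg χ * dg P.ψ) :=
          ⟨Nat.card G * m ^ 2, mul_left_cancel₀ pz.ne_zero (by linear_combination -h7)⟩
        rcases pz.dvd_or_dvd h8 with h | h
        · exact nd t (t1 t ht) (r2 t ht) (by exact_mod_cast pz.dvd_of_dvd_pow h)
        · exact S.hsq (Dvd.dvd.trans (by rw [sq]; exact Nat.mul_dvd_mul_left p (by exact_mod_cast h))
            hdvd)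
    exact ((pz.coprime_iff_not_dvd.mpr np).symm).dvd_of_dvd_mul_left ⟨n, by rw [← h6]; ring⟩
  · have h := P.norm_le hg (hab g hg)
    rw [hZ, if_pos rfl, if_neg ne, mu, mu, if_neg nψ, if_pos s1.1, he] at h
    simp only [add_sub_cancel_right]
    linarith
  · obtain ⟨-, m, -, -, h⟩ := trv_spec g χ
    rw [trv_rat (hg ▸ hr) (ha g), hg, Nat.cast_pred hr.pos] at h
    have h1 := int_cong_dg χ hr (x := g) ⟨1, by rw [hg, pow_one]⟩ (ha g)
    rw [hy]
    refine ⟨by rw [add_sub_add_right_eq_sub]; exact dvd_sub_comm.mp h1, ?_⟩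
    have : (0 : ℤ) ≤ r * m := by positivity
    linarith
  · rw [ival_eq (a := 0) (by
      simpa using zero_of_defect_zero χ hr (Nat.mul_div_cancel' (dg_dvd χ)).symm h hg), zero_add]
  · have h1 := zero_of_defect_zero P.ψ hr (Nat.mul_div_cancel' (dg_dvd _)).symm h hg
    rw [hb g fun e => h (by
      rw [orderOf_eq_of_sing S hV e] at hg
      rw [(Nat.prime_dvd_prime_iff_eq hr hp.out).mp hg]
      exact (Nat.dvd_div_iff_mul_dvd (dg_dvd _)).mpr (Dvd.dvd.trans ⟨dg χ, by ring⟩ hdvd))] at h1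
    exact_mod_cast h1
  · have r1 := row_int ha ha (k := 1) (by simpa using H5.classInner_irr_self χ.2)
    have r0 := row_int ha (ψ := fun _ => 1) (b := fun _ => 1) (by simp) (k := 0) (by
      simpa using H5.classInner_irr_ne χ.2 H5.isIrrCharacter_one (ne_one_of_ne_triv hχ'.1))
    have h1 : ∑ g, (ival g χ + δ) ^ 2 = 2 * (Nat.card G : ℤ) := by
      rw [Finset.sum_congr rfl (g := fun g => ival g χ * ival g χ + 2 * δ * (ival g χ * 1) + 1)
        fun g _ => by linear_combination dd, Finset.sum_add_distrib, Finset.sum_add_distrib,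
        ← Finset.mul_sum, r1, r0]
      simp [Nat.card_eq_fintype_card]; ring
    let U := Finset.univ.filter fun g : G => p ∣ orderOf g
    have h2 : ∑ g ∈ U, (ival g χ + δ) ^ 2 = (Nat.card (Sylow p G) * (p - 1 : ℕ) : ℕ) * 4 := by
      rw [Finset.sum_congr rfl (g := fun _ => 4) fun g hg => by
        rw [ival_eq (valX_sing P.B hχ'.2 (Finset.mem_filter.mp hg).2)]
        linear_combination 4 * dd, Finset.sum_const, ← card_sing S hV, Nat.card_eq_fintype_card,
        Fintype.card_subtype, nsmul_eq_mul]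
    have h4 : (1 : G) ∉ T ∪ U := by
      simp only [Finset.mem_union, U, Finset.mem_filter, orderOf_one, Nat.dvd_one]
      rintro (h | h)
      · exact (hT 1 h).1 rfl
      · omega
    have h5 := Finset.sum_le_sum_of_subset_of_nonneg (Finset.subset_univ (insert 1 (T ∪ U)))
      (f := fun g => (ival g χ + δ) ^ 2) fun _ _ _ => sq_nonneg _
    rw [Finset.sum_insert h4, Finset.sum_union (Finset.disjoint_left.mpr fun g h h' =>
      (hT g h).2 (Finset.mem_filter.mp h').2), h1, h2, ival_one, ← hy, n1, hV, he] at h5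
    rw [n1, hV, he]
    push_cast [Nat.cast_pred hp.out.pos] at h5 ⊢
    have : (0 : ℤ) ≤ p := by positivity
    nlinarith [mul_le_mul_of_nonneg_left h5 this]

end Cfsg.Agent.H16
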