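import Mathlib

/-! Størmer's theorem for the primes 2, 3, 5, 7. -/

set_option autoImplicit false

namespace Cfsg.Agent.H16

open Pell

/-- the Pell sequence -/
def pl (a n : ℕ) : ℕ × ℕ :=
  Nat.rec (1, 0) (fun _ q => (q.1 * a + (a * a - 1) * q.2, q.1 + q.2 * a)) n

theorem pl_eq {a : ℕ} (a1 : 1 < a) (n : ℕ) : pl a n = (xn a1 n, yn a1 n) := by
  induction n with
  | zero => rfl
  | succ n ih =>
    change ((pl a n).1 * a + (a * a - 1) * (pl a n).2, (pl a n).1 + (pl a n).2 * a) = _
    rw [ih]; rfl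

/-- a certificate for a prime factor larger than seven -/
def rough (y : ℕ) : Bool :=
  1 < y / Nat.gcd y (210 ^ 250) && Nat.gcd (y / Nat.gcd y (210 ^ 250)) 210 == 1

theorem not_rough {y N : ℕ} (h : y ∣ 210 ^ N) : rough y = false := by
  by_contra e
  simp only [rough, Bool.not_eq_false, Bool.and_eq_true, decide_eq_true_eq, beq_iff_eq] at e
  have := Nat.Coprime.eq_one_of_dvd (Nat.Coprime.pow_right N e.2)
    ((Nat.div_dvd_of_dvd (Nat.gcd_dvd_left _ _)).trans h)
  omega

theorem dvd_yn_gcd {a : ℕ} (a1 : 1 < a) {r : ℕ} (m n : ℕ) :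
    r ∣ yn a1 m → r ∣ yn a1 n → r ∣ yn a1 (m.gcd n) := by
  induction m, n using Nat.gcd.induction with
  | H0 n => simp
  | H1 m n _ ih =>
    intro h1 h2
    rw [Nat.gcd_rec]
    refine ih ?_ h1
    have h3 := h1.trans (y_mul_dvd a1 m (n / m))
    rw [← Nat.mod_add_div n m, yn_add, ← Nat.dvd_add_iff_right (h3.mul_left _)] at h2
    exact (Nat.Coprime.coprime_dvd_left h3 (xy_coprime a1 _).symm).dvd_of_dvd_mul_right h2

/-- the consecutive smooth numbers -/
def stL : List ℕ :=
  [1, 2, 3, 4, 5, 6, 7, 8, 9, 14, 15, 20, 24, 27, 35, 48, 49, 63, 80, 125, 224, 2400, 4374]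

/-- the check for one Pell equation -/
def stOK (D a y : ℕ) : Bool :=
  1 < a && a * a == D * y * y + 1 && 0 < y &&
  ((List.range y).all fun Y => Y == 0 || (List.range a).all fun X => X * X != D * Y * Y + 1) &&
  ([2, 3, 5, 7].all fun r => [2, 3, 4, 5, 7].any fun k => (pl a k).2 % r == 0) &&
  [1, 2, 3, 4].all fun n => rough (pl a n).2 ||
    (((pl a n).1 % 2 == 0 || stL.contains ((pl a n).1 / 2)) &&
      [2, 3, 5, 7].all fun l => n * l ≤ 4 || rough (pl a (n * l)).2)

theorem pell_dvd {D a y : ℕ} (a1 : 1 < a) (ha : a * a = D * y * y + 1) (hy : 0 < y)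
    (h : ∀ Y < y, Y ≠ 0 → ∀ X < a, X * X ≠ D * Y * Y + 1) (Y : ℕ) :
    ∀ X, X * X = D * Y * Y + 1 → y ∣ Y := by
  induction Y using Nat.strong_induction_on with
  | _ Y ih =>
    intro X hX
    rcases Nat.eq_zero_or_pos Y with rfl | h0
    · simp
    rcases Nat.lt_or_ge Y y with h1 | h1
    · have hD : D ≠ 0 := by
        rintro rfl
        nlinarith
      refine absurd hX (h Y h1 h0.ne' X ?_)
      have : D * Y * Y < D * y * y := by
        rw [mul_assoc, mul_assoc]
        exact Nat.mul_lt_mul_of_pos_left (Nat.mul_lt_mul'' h1 h1) (Nat.pos_of_ne_zero hD)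
      nlinarith
    have h2 : y * X ≤ a * Y := by
      refine Nat.mul_self_le_mul_self_iff.mp ?_
      calc y * X * (y * X) = y * y * (X * X) := by ring
        _ ≤ Y * Y * (a * a) := by rw [hX, ha]; nlinarith
        _ = _ := by ring
    obtain ⟨Z, hZ⟩ := Nat.exists_eq_add_of_le h2
    have h3 : ((a : ℤ) * X - D * y * Y).natAbs * ((a : ℤ) * X - D * y * Y).natAbs =
        D * Z * Z + 1 := by
      zify at *
      rw [abs_mul_abs_self, show (Z : ℤ) = a * Y - y * X by linarith]
      linear_combination (X * X - D * Y * Y) * ha + hX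
    have h4 : Z < Y := by
      by_contra h5
      have h6 : Z * (a * Y + y * X) + y * y = Y * Y := by
        zify at *
        rw [show (Z : ℤ) = a * Y - y * X by linarith]
        linear_combination (Y * Y : ℤ) * ha - y * y * hX
      have : 0 < a := by nlinarith
      have h7 := Nat.mul_le_mul (not_lt.mp h5) ((Nat.le_mul_of_pos_left Y this).trans
        (Nat.le_add_right _ (y * X)))
      have := Nat.mul_pos hy hy
      omega
    have h5 : y ∣ a * Y := hZ ▸ dvd_add (dvd_mul_right _ _) (ih Z h4 _ h3)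
    refine Nat.Coprime.dvd_of_dvd_mul_left ?_ h5
    refine Nat.Coprime.coprime_mul_left_right (k := a) ?_
    rw [ha]; simp

theorem st_pell {D a y : ℕ} (h : stOK D a y = true) {n s N : ℕ} (hn : 0 < n)
    (e : n * (n + 1) = D * s * s) (hs : s ∣ 210 ^ N) : n ∈ stL := by
  simp only [stOK, Bool.and_eq_true, decide_eq_true_eq, beq_iff_eq, List.all_eq_true,
    List.mem_range, Bool.or_eq_true, bne_iff_ne, List.any_eq_true, List.contains_iff_mem] at h
  obtain ⟨⟨⟨⟨⟨a1, ha⟩, hy⟩, h1⟩, h2⟩, h3⟩ := h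
  have e1 : (2 * n + 1) * (2 * n + 1) = D * (2 * s) * (2 * s) + 1 := by nlinarith
  obtain ⟨W, hW⟩ := pell_dvd a1 ha hy (fun Y h h' => (h1 Y h).resolve_left h') _ _ e1
  obtain ⟨k, k1, k2⟩ := eq_pell a1 (x := 2 * n + 1) (y := W) (by
    change _ - (a * a - 1) * W * W = 1
    rw [e1, hW, ha, Nat.add_sub_cancel, show D * (y * W) * (y * W) = D * y * y * W * W by ring]
    simp)
  have key : ∀ k, 0 < k → yn a1 k ∣ 210 ^ (N + 1) → k ≤ 4 := fun k => by
    induction k using Nat.strong_induction_on with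
    | _ k ih =>
      intro k0 hk
      by_contra h4
      obtain ⟨l, hl, j, rfl⟩ := Nat.exists_prime_and_dvd (show k ≠ 1 by omega)
      by_cases h7 : l ≤ 7
      · have j0 : 0 < j := Nat.pos_of_mul_pos_left k0
        have h5 := ((y_dvd_iff a1 _ _).mpr (dvd_mul_left j l)).trans hk
        have h6 := ih j (by nlinarith [hl.two_le]) j0 h5
        have h8 := h3 j (by interval_cases j <;> simp)
        rw [pl_eq a1, not_rough h5] at h8
        have h9 := (h8.resolve_left (by simp)).2 l (by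
          interval_cases l <;> first | decide | exact absurd hl (by decide))
        rw [pl_eq a1, mul_comm j, not_rough hk] at h9
        simp at h9
        omega
      · have h5 := (y_mul_dvd a1 l j).trans hk
        obtain ⟨r, hr, h6⟩ := Nat.exists_prime_and_dvd
          (show yn a1 l ≠ 1 by have := yn_ge_n a1 l; omega)
        have h8 : r ∣ 2 * 3 * 5 * 7 := hr.dvd_of_dvd_pow (h6.trans h5)
        obtain ⟨i, hi, h9⟩ := h2 r (by
          simp only [hr.dvd_mul, Nat.prime_dvd_prime_iff_eq hr, Nat.prime_two, Nat.prime_three,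
            Nat.prime_five, Nat.prime_seven] at h8
          simp; tauto)
        rw [pl_eq a1] at h9
        have := dvd_yn_gcd a1 l i h6 (Nat.dvd_of_mod_eq_zero h9)
        rw [(Nat.coprime_of_lt_prime (by simp at hi; omega) (by simp at hi; omega) hl),
          yn_one] at this
        exact hr.ne_one (Nat.dvd_one.mp this)
  have h5 : yn a1 k ∣ 210 ^ (N + 1) := by
    rw [← k2, pow_succ']
    exact (Dvd.intro_left _ hW.symm).trans (Nat.mul_dvd_mul (by norm_num) hs)
  have k0 : 0 < k := Nat.pos_of_ne_zero (by rintro rfl; simp at k1; omega)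
  have h6 := key k k0 h5
  have h8 := h3 k (by interval_cases k <;> simp)
  rw [pl_eq a1, not_rough h5] at h8
  have h9 := (h8.resolve_left (by simp)).1
  rw [← k1, show (2 * n + 1) / 2 = n by omega] at h9
  exact h9.resolve_left (by omega)

theorem st_all : ([(2, 3, 2), (3, 2, 1), (5, 9, 4), (6, 5, 2), (7, 8, 3), (10, 19, 6), (14, 15, 4),
    (15, 4, 1), (21, 55, 12), (30, 11, 2), (35, 6, 1), (42, 13, 2), (70, 251, 30), (105, 41, 4),
    (210, 29, 2)].all fun t => stOK t.1 t.2.1 t.2.2) = true := by decide +kernel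

/-- Størmer's theorem -/
theorem stormer {n N : ℕ} (hn : 0 < n) (h : n * (n + 1) ∣ 210 ^ N) : n ∈ stL := by
  obtain ⟨D, s, e, hD⟩ := Nat.sq_mul_squarefree (n * (n + 1))
  have h1 : D ∣ 210 := hD.isRadical N 210 ((Dvd.intro_left _ e).trans h)
  have h2 : s ∣ 210 ^ N := (dvd_pow_self s two_ne_zero).trans ((Dvd.intro _ e).trans h)
  have e' : n * (n + 1) = D * s * s := by rw [← e]; ring
  have h3 := List.all_eq_true.mp st_all
  have h4 : D ∈ Nat.divisors 210 := Nat.mem_divisors.mpr ⟨h1, by norm_num⟩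
  have h5 : D ≠ 1 := by
    rintro rfl
    rcases Nat.lt_or_ge n s with h | h <;> nlinarith
  have h6 : ∀ D ∈ Nat.divisors 210, D ≠ 1 → D ∈ List.map Prod.fst
    [(2, 3, 2), (3, 2, 1), (5, 9, 4), (6, 5, 2), (7, 8, 3), (10, 19, 6), (14, 15, 4),
    (15, 4, 1), (21, 55, 12), (30, 11, 2), (35, 6, 1), (42, 13, 2), (70, 251, 30), (105, 41, 4),
    (210, 29, 2)] := by decide +kernel
  obtain ⟨t, ht, rfl⟩ := List.mem_map.mp (h6 D h4 h5)
  exact st_pell (h3 t ht) hn e' h2

end Cfsg.Agent.H16
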