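import Cfsg.Agent.H16.E2a
import Cfsg.Agent.H16.Stormer

/-! The search for the orders. -/

set_option autoImplicit false
set_option linter.unusedSectionVars false

namespace Cfsg.Agent.H16

open Cfsg Subgroup

/-- exponents of `r` in the order of the group and of the centraliser of an involution -/
def prs (r p x y m : ℕ) : List (ℕ × ℕ) :=
  (List.range 40).flatMap fun E => ((List.range (E + 1)).filter fun F =>
    (E == 0 || (r != p && r ^ E ≤ r ^ F * (2 * y))) &&
      Nat.gcd (r ^ E * (m * m)) (r ^ 90) == Nat.gcd (r ^ (2 * F) * (x * y)) (r ^ 90)).map fun F =>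
        (E, F)

/-- an `r`-central element -/
def cen (r E p x y m c : ℕ) : Bool :=
  E == 0 || (List.range (x + 1)).any fun i => (r - 1) * (r * i) ≤ r * x &&
    (c * (r * i)) % (r ^ E * m) == 0 && (1 + ((x : ℤ) - (r * i : ℕ)) ^ 2 +
      ((p - 1) / 2 : ℕ) * ((y : ℤ) - (r * i : ℕ)) ^ 2) * m ≤ (c * (r * i) : ℕ)

/-- the result of the search -/
def finL : List (ℕ × ℕ × ℕ × ℕ × ℕ × ℕ) :=
  [(4, 3, 5, 4, 60, 4), (6, 7, 5, 8, 3360, 32), (8, 9, 7, 8, 504, 8), (9, 8, 5, 8, 360, 8),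
  (15, 16, 7, 16, 1680, 16), (16, 15, 17, 16, 4080, 16), (20, 21, 19, 20, 7980, 20),
  (21, 20, 11, 20, 4620, 20), (21, 20, 11, 20, 9355500, 900), (24, 25, 23, 24, 13800, 24),
  (25, 24, 13, 24, 7800, 24), (27, 28, 13, 28, 9828, 28), (27, 28, 13, 28, 6142500, 700),
  (28, 27, 29, 28, 21924, 28), (35, 36, 17, 36, 21420, 36), (36, 35, 37, 36, 46620, 36),
  (48, 49, 47, 48, 110544, 48), (49, 48, 5, 48, 11760, 48), (49, 48, 5, 48, 952560, 432),
  (63, 64, 31, 64, 124992, 64), (64, 63, 5, 64, 20160, 64), (64, 63, 5, 64, 8890560, 1344),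
  (64, 63, 13, 64, 52416, 64), (64, 63, 13, 64, 32760000, 1600),
  (64, 63, 13, 64, 577886400, 6720), (80, 81, 79, 80, 511920, 80), (81, 80, 41, 80, 265680, 80),
  (224, 225, 223, 224, 11239200, 224), (225, 224, 113, 224, 5695200, 224),
  (2400, 2401, 2399, 2400, 13823997600, 2400), (2401, 2400, 1201, 2400, 6920642400, 2400)]

/-- the last step -/
def fin2 (p x y m N c E3 E5 E7 : ℕ) : Bool :=
  !(N / (2 * p) % p == 1 && N % (x * y) == 0 && cen 3 E3 p x y m c && cen 5 E5 p x y m c &&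
    cen 7 E7 p x y m c) || finL.contains (x, y, p, m, N, c)

/-- the search over the exponents -/
def ex2 (p x y m : ℕ) : Bool :=
  !(m % 4 == 0 && 0 < m && !rough m) || (List.range 40).all fun A =>
    !(Nat.gcd (m * m) (2 ^ 60) == Nat.gcd (2 ^ A * (x * y)) (2 ^ 60)) ||
      (prs 3 p x y m).all fun u => (prs 5 p x y m).all fun v => (prs 7 p x y m).all fun w =>
        fin2 p x y m (2 ^ A * 3 ^ u.1 * 5 ^ v.1 * 7 ^ w.1 * p)
          (2 ^ A * 3 ^ u.2 * 5 ^ v.2 * 7 ^ w.2) u.1 v.1 w.1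

/-- the search over `p` and the value at an involution -/
def sr2 (x y k : ℕ) : Bool :=
  !(1 < x && 1 < y) || (List.range (k + 1)).all fun p =>
    !(5 ≤ p && k % p == 0 && x * y % p != 0 && (List.range p).all fun q => q < 2 || p % q != 0) ||
      (List.range (2 * (k / p) + 1)).all fun j => ex2 p x y (y + j - k / p)

theorem sr2_all : (stL.all fun n => sr2 n (n + 1) (n - 1) && sr2 (n + 1) n (n + 2)) = true := by
  decide +kernel

variable {G : Type*} [Group G] [Finite G] {p x y : ℕ} {δ : ℤ} {b : G → ℤ}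

theorem gcd_eq_of {r K u v o o' : ℕ} (h : u * o = v * o') (ho : o.Coprime r) (ho' : o'.Coprime r) :
    Nat.gcd u (r ^ K) = Nat.gcd v (r ^ K) := by
  rw [← Nat.Coprime.gcd_mul_right_cancel u (ho.pow_right K), h,
    Nat.Coprime.gcd_mul_right_cancel v (ho'.pow_right K)]

theorem E2.prs_cen (H : E2 G p x y δ b) (hp : p.Prime) (hy : y ≤ 4375) {t : G} (ht : orderOf t = 2)
    {m : ℕ} (hm : (y : ℤ) - b t = m) (m0 : 0 < m) (m2 : m < 2 * y) {r E F o o' : ℕ} (hr : r.Prime)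
    (h3 : 3 ≤ r) (hN : Nat.card G = r ^ E * o * p) (hc : cc t = r ^ F * o') (ho : o.Coprime r)
    (ho' : o'.Coprime r) (hF : F ≤ E) : (E, F) ∈ prs r p x y m ∧ cen r E p x y m (cc t) = true := by
  have e := (H.inv t ht).1
  rw [hm, hN, hc] at e
  have e1 : r ^ E * (m * m) * o = r ^ (2 * F) * (x * y) * (o' * o') := by
    refine Nat.eq_of_mul_eq_mul_left hp.pos ?_
    zify
    push_cast at e
    linear_combination e
  have key : E = 0 ∨ (r ≠ p ∧ r ^ E ≤ r ^ F * (2 * y) ∧ cen r E p x y m (cc t) = true) := by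
    rcases E with _ | E
    · exact Or.inl rfl
    have hrp : r ≠ p := by
      rintro rfl
      exact H.sq ⟨r ^ E * o, by rw [hN]; ring⟩
    obtain ⟨g, hg, hg'⟩ := exists_central (G := G) hr (a := E) ⟨o * p, by rw [hN]; ring⟩
    have g1 : g ≠ 1 := by rintro rfl; rw [orderOf_one] at hg; omega
    have g2 : ¬ p ∣ orderOf g := fun h =>
      hrp ((Nat.prime_dvd_prime_iff_eq hp hr).mp (hg ▸ h)).symm
    obtain ⟨⟨i, hi⟩, h2⟩ := H.pr g r hr hrp hg
    have h4 := abs_lt.mp (H.lt g g1 g2)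
    have h5 := H.div t g ht g1 g2
    have h6 := H.col g g2
    have r0 : (0 : ℤ) < r := by exact_mod_cast hr.pos
    obtain ⟨i, rfl⟩ := Int.eq_ofNat_of_zero_le (a := i) (by nlinarith)
    have i0 : 0 < i := Nat.pos_of_ne_zero (by rintro rfl; simp at hi; omega)
    rw [hm, hi] at h5
    have h7 : cc g * m ∣ cc t * (r * i) := by exact_mod_cast h5
    have h8 : r ^ (E + 1) * m ∣ cc t * (r * i) := (Nat.mul_dvd_mul_right hg' m).trans h7
    have h9 : (r - 1) * (r * i) ≤ r * x := by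
      rw [hi] at h2
      zify [hr.one_le]
      exact h2
    refine Or.inr ⟨hrp, ?_, ?_⟩
    · have : r ^ (E + 1) ∣ r ^ F * (r * i) := by
        refine (ho'.symm.pow_left _).dvd_of_dvd_mul_left ?_
        exact ((Dvd.intro _ rfl).trans h8).trans ⟨1, by rw [hc]; ring⟩
      refine (Nat.le_of_dvd (by positivity) this).trans (Nat.mul_le_mul_left _ ?_)
      zify
      omega
    · simp only [cen, Bool.or_eq_true, List.any_eq_true, List.mem_range, Bool.and_eq_true,
        decide_eq_true_eq, beq_iff_eq]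
      refine Or.inr ⟨i, ?_, ⟨h9, Nat.mod_eq_zero_of_dvd h8⟩, ?_⟩
      · have : 2 * (r * i) ≤ r * x := (Nat.mul_le_mul_right _ (by omega)).trans h9
        nlinarith
      · have h10 : (cc g * m : ℤ) ≤ (cc t * (r * i) : ℕ) := by
          exact_mod_cast Nat.le_of_dvd (Nat.mul_pos Nat.card_pos (by positivity)) h7
        rw [show (x : ℤ) - (r * i : ℕ) = b g - δ by push_cast; linarith [H.hy],
          show (y : ℤ) - (r * i : ℕ) = b g by push_cast; linarith]
        exact (mul_le_mul_of_nonneg_right h6 (by positivity)).trans h10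
  refine ⟨?_, key.elim (fun h => by simp [cen, h]) fun h => h.2.2⟩
  simp only [prs, List.mem_flatMap, List.mem_range, List.mem_map, List.mem_filter,
    Bool.and_eq_true, Bool.or_eq_true, beq_iff_eq, bne_iff_ne, decide_eq_true_eq, Prod.mk.injEq]
  refine ⟨E, ?_, F, ⟨by omega, key.imp_right fun h => ⟨h.1, h.2.1⟩,
    gcd_eq_of e1 ho (Nat.Coprime.mul_left ho' ho')⟩, rfl, rfl⟩
  rcases key with h | ⟨-, h, -⟩
  · omega
  have h1 : r ^ F * r ^ F ≤ r ^ E * (m * m) := by
    refine Nat.le_of_dvd (by positivity) ((ho.symm.pow_left (F + F)).dvd_of_dvd_mul_right ?_ |>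
      (pow_add r F F ▸ ·))
    exact ⟨x * y * (o' * o'), by rw [e1]; ring⟩
  have h2 : r ^ F ≤ 2 * y * (m * m) := by
    refine Nat.le_of_mul_le_mul_left (c := r ^ F) ?_ (by positivity)
    exact h1.trans ((Nat.mul_le_mul_right _ h).trans_eq (by ring))
  by_contra h4
  have h5 : 3 ^ 40 ≤ r ^ E :=
    (Nat.pow_le_pow_left h3 _).trans (Nat.pow_le_pow_right hr.pos (by omega))
  have h6 : m * m ≤ 8750 * 8750 := Nat.mul_le_mul (by omega) (by omega)
  have h7 := Nat.mul_le_mul (h2.trans (Nat.mul_le_mul (show 2 * y ≤ 8750 by omega) h6))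
    (show 2 * y ≤ 8750 by omega)
  omega

theorem E2.search (H : E2 G p x y δ b) (hp : p.Prime) (h5 : 5 ≤ p) {A B C D : ℕ} (hA : 0 < A)
    (hN : Nat.card G = 2 ^ A * 3 ^ B * 5 ^ C * 7 ^ D * p) :
    ∃ m c : ℕ, (x, y, p, m, Nat.card G, c) ∈ finL ∧ (∃ t : G, orderOf t = 2) ∧
      ∀ t : G, orderOf t = 2 → y - b t = m ∧ cc t = c := by
  obtain ⟨A, rfl⟩ := Nat.exists_eq_add_one_of_ne_zero hA.ne'
  obtain ⟨t, ht, ht'⟩ := exists_central (G := G) Nat.prime_two (a := A)
    ⟨3 ^ B * 5 ^ C * 7 ^ D * p, by rw [hN]; ring⟩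
  have t1 : t ≠ 1 := by rintro rfl; rw [orderOf_one] at ht; omega
  have t2 : ¬ p ∣ orderOf t := fun h => by rw [ht] at h; have := Nat.le_of_dvd two_pos h; omega
  have h1 := abs_lt.mp (H.lt t t1 t2)
  obtain ⟨m, hm⟩ := Int.eq_ofNat_of_zero_le (a := y - b t) (by omega)
  refine ⟨m, cc t, ?_, ⟨t, ht⟩, fun s hs =>
    ⟨by rw [H.cj s t (H.one s t hs ht), hm], card_cent_conj (H.one s t hs ht)⟩⟩
  have sm : 2 ^ (A + 1) * 3 ^ B * 5 ^ C * 7 ^ D ∣ 210 ^ (A + 1 + B + C + D) := by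
    simp only [pow_add 210]
    refine Nat.mul_dvd_mul (Nat.mul_dvd_mul (Nat.mul_dvd_mul ?_ ?_) ?_) ?_ <;>
      first | exact pow_dvd_pow_of_dvd (by norm_num) _ | skip
    rw [← pow_add]; exact pow_dvd_pow_of_dvd (by norm_num) _
  have d1 : x * y ∣ 2 ^ (A + 1) * 3 ^ B * 5 ^ C * 7 ^ D :=
    Nat.dvd_of_mul_dvd_mul_left hp.pos (by rw [mul_comm p (_ * 7 ^ D), ← hN]; exact H.dvd)
  have d2 : cc t ∣ 2 ^ (A + 1) * 3 ^ B * 5 ^ C * 7 ^ D :=
    ((Nat.Prime.coprime_iff_not_dvd hp).mpr (H.ndvd t t1 t2)).symm.dvd_of_dvd_mul_right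
      (hN ▸ card_subgroup_dvd_card _)
  obtain ⟨_, c7, d3, h7, e7⟩ := (Nat.dvd_mul).mp d2
  obtain ⟨_, c5, d4, h5', rfl⟩ := (Nat.dvd_mul).mp d3
  obtain ⟨c2, c3, h2, h3, rfl⟩ := (Nat.dvd_mul).mp d4
  obtain ⟨A', hA', rfl⟩ := (Nat.dvd_prime_pow Nat.prime_two).mp h2
  obtain ⟨B', hB', rfl⟩ := (Nat.dvd_prime_pow Nat.prime_three).mp h3
  obtain ⟨C', hC', rfl⟩ := (Nat.dvd_prime_pow Nat.prime_five).mp h5'
  obtain ⟨D', hD', rfl⟩ := (Nat.dvd_prime_pow Nat.prime_seven).mp h7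
  have co : ∀ {r s : ℕ} (k : ℕ), r.Coprime s → (r ^ k).Coprime s := fun k h => h.pow_left k
  obtain rfl : A' = A + 1 := by
    refine le_antisymm hA' ((Nat.pow_dvd_pow_iff_le_right one_lt_two).mp ?_)
    change _ ∣ cc t at ht'
    rw [← e7, mul_assoc, mul_assoc] at ht'
    refine Nat.Coprime.dvd_of_dvd_mul_right (Nat.Coprime.symm (Nat.Coprime.pow_right _ ?_)) ht'
    exact (co _ (by norm_num)).mul_left ((co _ (by norm_num)).mul_left (co _ (by norm_num)))
  obtain ⟨e, m4, mk⟩ := H.inv t ht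
  have e1 : m * m * (3 ^ B * 5 ^ C * 7 ^ D) = 2 ^ (A + 1) * (x * y) *
      ((3 ^ B' * 5 ^ C' * 7 ^ D') * (3 ^ B' * 5 ^ C' * 7 ^ D')) := by
    rw [hm, hN, ← e7] at e
    refine Nat.eq_of_mul_eq_mul_left (show 0 < p * 2 ^ (A + 1) by positivity) ?_
    zify
    push_cast at e
    linear_combination e
  have x1 := H.x1
  have y1 := H.y1
  have hk := H.hk
  obtain ⟨k, hk1, hy, hs⟩ : ∃ k : ℕ, (k : ℤ) = x - δ ∧ y ≤ 4375 ∧ sr2 x y k = true := by
    have hs := List.all_eq_true.mp sr2_all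
    have hb : ∀ n ∈ stL, n ≤ 4374 := by decide
    simp only [Bool.and_eq_true] at hs
    have hy := H.hy
    rcases H.hδ with rfl | rfl
    · obtain rfl : y = x + 1 := by omega
      have h := stormer (by omega) (d1.trans sm)
      exact ⟨x - 1, by omega, by have := hb x h; omega, (hs x h).1⟩
    · obtain rfl : x = y + 1 := by omega
      have h := stormer (by omega) (mul_comm (y + 1) y ▸ d1.trans sm)
      exact ⟨y + 2, by omega, by have := hb y h; omega, (hs y h).2⟩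
  have k0 : 0 < k := by rcases H.hδ with rfl | rfl <;> omega
  rw [← hk1] at hk
  obtain ⟨l, rfl⟩ := Int.natCast_dvd_natCast.mp hk
  have hl : |b t| ≤ l := by
    rw [show (y : ℤ) - 2 * δ = p * l by rw [H.hy, ← Nat.cast_mul, hk1]; ring] at mk
    exact le_of_mul_le_mul_left mk (by exact_mod_cast hp.pos)
  have hl' := abs_le.mp hl
  simp only [sr2, Bool.or_eq_true, Bool.not_eq_true', List.all_eq_true, List.mem_range] at hs
  have hs1 := ((hs.resolve_left (by simp [x1, y1])) p (by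
    have := Nat.le_of_dvd k0 (Dvd.intro l rfl); omega)).resolve_left (by
      simp only [Bool.not_eq_false, Bool.and_eq_true, decide_eq_true_eq, beq_iff_eq, bne_iff_ne,
        List.all_eq_true, List.mem_range, Bool.or_eq_true]
      refine ⟨⟨⟨h5, Nat.mul_mod_right _ _⟩, fun h => H.sq (Dvd.dvd.trans ?_ H.dvd)⟩, fun q hq => ?_⟩
      · rw [pow_two]; exact Nat.mul_dvd_mul_left p (Nat.dvd_of_mod_eq_zero h)
      · by_contra h
        push Not at h
        have := (Nat.dvd_prime hp).mp (Nat.dvd_of_mod_eq_zero h.2)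
        omega)
  rw [Nat.mul_div_cancel_left _ hp.pos] at hs1
  have hs2 := hs1 (m + l - y) (by omega)
  rw [show y + (m + l - y) - l = m by omega] at hs2
  have o2 : ∀ B C D : ℕ, (3 ^ B * 5 ^ C * 7 ^ D).Coprime 2 := fun B C D =>
    ((co _ (by norm_num)).mul_left (co _ (by norm_num))).mul_left (co _ (by norm_num))
  have m0 : 0 < m := by omega
  simp only [ex2, Bool.or_eq_true, Bool.not_eq_true', List.all_eq_true, List.mem_range] at hs2
  have hs3 := ((hs2.resolve_left (by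
    simp only [Bool.not_eq_false, Bool.and_eq_true, decide_eq_true_eq, beq_iff_eq,
      Bool.not_eq_true']
    refine ⟨⟨by omega, m0⟩, not_rough (N := (A + 1 + B + C + D) * 3) ?_⟩
    refine ((Dvd.intro _ rfl).trans (Dvd.intro _ e1)).trans ?_
    rw [pow_mul, pow_succ' _ 2, pow_two]
    refine Dvd.dvd.trans ⟨2 ^ (A + 1), ?_⟩
      (Nat.mul_dvd_mul (d1.trans sm) (Nat.mul_dvd_mul (d2.trans sm) (d2.trans sm)))
    rw [← e7]; ring)) (A + 1) (by
      have h8 : 2 ^ (A + 1) ≤ m * m := Nat.le_of_dvd (by positivity)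
        (((o2 B C D).symm.pow_left _).dvd_of_dvd_mul_right (by rw [e1, mul_assoc]; simp))
      have h9 : m * m ≤ 8750 * 8750 := Nat.mul_le_mul (by omega) (by omega)
      by_contra h
      have := Nat.pow_le_pow_right two_pos (not_lt.mp h)
      omega)).resolve_left (by
        simp only [Bool.not_eq_false, beq_iff_eq]
        exact gcd_eq_of e1 (o2 _ _ _) ((o2 _ _ _).mul_left (o2 _ _ _)))
  obtain ⟨a3, b3⟩ := H.prs_cen hp hy ht hm m0 (by omega) Nat.prime_three le_rfl (E := B) (F := B')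
    (o := 2 ^ (A + 1) * 5 ^ C * 7 ^ D) (o' := 2 ^ (A + 1) * 5 ^ C' * 7 ^ D') (by rw [hN]; ring)
    (by rw [← e7]; ring) (((co _ (by norm_num)).mul_left (co _ (by norm_num))).mul_left
      (co _ (by norm_num))) (((co _ (by norm_num)).mul_left (co _ (by norm_num))).mul_left
      (co _ (by norm_num))) hB'
  obtain ⟨a5, b5⟩ := H.prs_cen hp hy ht hm m0 (by omega) Nat.prime_five (by omega) (E := C)
    (F := C') (o := 2 ^ (A + 1) * 3 ^ B * 7 ^ D) (o' := 2 ^ (A + 1) * 3 ^ B' * 7 ^ D')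
    (by rw [hN]; ring) (by rw [← e7]; ring) (((co _ (by norm_num)).mul_left
      (co _ (by norm_num))).mul_left (co _ (by norm_num))) (((co _ (by norm_num)).mul_left
      (co _ (by norm_num))).mul_left (co _ (by norm_num))) hC'
  obtain ⟨a7, b7⟩ := H.prs_cen hp hy ht hm m0 (by omega) Nat.prime_seven (by omega) (E := D)
    (F := D') (o := 2 ^ (A + 1) * 3 ^ B * 5 ^ C) (o' := 2 ^ (A + 1) * 3 ^ B' * 5 ^ C')
    (by rw [hN]; ring) (by rw [← e7]; ring) (((co _ (by norm_num)).mul_left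
      (co _ (by norm_num))).mul_left (co _ (by norm_num))) (((co _ (by norm_num)).mul_left
      (co _ (by norm_num))).mul_left (co _ (by norm_num))) hD'
  have hs4 := hs3 _ a3 _ a5 _ a7
  rw [← hN, e7] at hs4
  simp only [fin2, b3, b5, b7, H.syl, Bool.or_eq_true, List.contains_iff_mem,
    Nat.mod_eq_zero_of_dvd ((Dvd.intro_left _ rfl).trans H.dvd)] at hs4
  exact hs4.resolve_left (by simp)

end Cfsg.Agent.H16
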