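import Cfsg.Agent.H16.E2a
import Cfsg.Agent.S3993
import Cfsg.Agent.S0985
import Cfsg.Prelude.Def_CaseTheorems

/-! Counting lemmas and small Sylow subgroups. -/

set_option autoImplicit false
set_option linter.unusedSectionVars false

namespace Cfsg.Agent.H16

open Cfsg Subgroup

theorem dvd_card_rel {α : Type*} [Finite α] (r : Setoid α) (X : Finset α) {u : ℕ}
    (h : ∀ a ∈ X, ∀ b, r a b → b ∈ X) (hu : ∀ a ∈ X, u ∣ Nat.card {b // r a b}) : u ∣ X.card := by
  classical
  have := Fintype.ofFinite α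
  rw [Finset.card_eq_sum_card_image (Quotient.mk r) X]
  refine Finset.dvd_sum fun c hc => ?_
  obtain ⟨a, ha, rfl⟩ := Finset.mem_image.mp hc
  refine (hu a ha).trans (dvd_of_eq ?_)
  rw [Nat.card_eq_fintype_card, Fintype.card_subtype]
  congr 1
  ext b
  simp only [Finset.mem_filter, Finset.mem_univ, true_and, Quotient.eq]
  exact ⟨fun h' => ⟨h a ha b h', r.symm h'⟩, fun h => r.symm h.2⟩

variable {G : Type*} [Group G] [Finite G]

theorem card_lt_of_lt {H K : Subgroup G} (h : H < K) : Nat.card H < Nat.card K :=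
  lt_of_le_of_ne (card_le_of_le h.le) fun e => h.ne (eq_of_le_of_card_ge h.le e.ge)

theorem dvd_card_conj (X : Finset G) {u : ℕ} (h : ∀ a ∈ X, ∀ b, IsConj a b → b ∈ X)
    (hu : ∀ a ∈ X, u ∣ (centralizer ({a} : Set G)).index) : u ∣ X.card :=
  dvd_card_rel (IsConj.setoid G) X h fun a ha => H36.card_isConj_eq_index a ▸ hu a ha

theorem index_conj {g h : G} (hc : IsConj g h) :
    (centralizer ({g} : Set G)).index = (centralizer ({h} : Set G)).index := by
  rw [← H36.card_isConj_eq_index, ← H36.card_isConj_eq_index]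
  exact Nat.card_congr (Equiv.subtypeEquivRight fun _ => ⟨hc.symm.trans, hc.trans⟩)

/-- the `r`-central elements of order `r` -/
theorem exists_X {r : ℕ} (hr : r.Prime) (h : r ∣ Nat.card G) : ∃ X : Finset G,
    (∀ g, g ∈ X ↔ orderOf g = r ∧ ¬ r ∣ (centralizer ({g} : Set G)).index) ∧ r ∣ X.card + 1 ∧
      ∀ u, (∀ g ∈ X, u ∣ (centralizer ({g} : Set G)).index) → u ∣ X.card := by
  classical
  have := Fintype.ofFinite G
  have := Fact.mk hr
  let P : G → Prop := fun g => r ∣ (centralizer ({g} : Set G)).index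
  let Y : Finset G := Finset.univ.filter fun g => orderOf g = r
  refine ⟨Y.filter fun g => ¬ P g, fun g => by simp [Y, P], ?_, fun u => dvd_card_conj _
    fun a ha b hc => by simpa [Y, P, ← H36.orderOf_eq_of_isConj hc, ← index_conj hc] using ha⟩
  have h1 : r ∣ (Y.filter P).card := dvd_card_conj _ (fun a ha b hc => by
    simpa [Y, P, ← H36.orderOf_eq_of_isConj hc, ← index_conj hc] using ha)
      fun a ha => (Finset.mem_filter.mp ha).2
  have h2 := S3993.result r h
  have h3 : (1 : G) ∉ Y := by simp [Y, hr.ne_one.symm]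
  rw [Nat.card_eq_fintype_card, Fintype.card_subtype, show (Finset.univ.filter fun g : G =>
    g ^ r = 1) = insert 1 Y by
      ext g
      simp only [Y, Finset.mem_filter, Finset.mem_univ, true_and, Finset.mem_insert]
      refine ⟨fun h => or_iff_not_imp_left.mpr (orderOf_eq_prime h), ?_⟩
      rintro (rfl | rfl) <;> simp, Finset.card_insert_of_notMem h3,
    ← Finset.card_filter_add_card_filter_not (s := Y) P, add_assoc] at h2
  exact (Nat.dvd_add_right h1).mp h2

theorem rank_or_comm (h1 : ∀ s t : G, orderOf s = 2 → orderOf t = 2 → IsConj s t)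
    (h : ¬ 32 ∣ Nat.card G) :
    PRankLE 2 2 G ∨ ∃ S : Sylow 2 G, IsMulCommutative (S : Subgroup G) := by
  by_contra hc
  rw [not_or, not_exists] at hc
  obtain ⟨hc, hS⟩ := hc
  simp only [PRankLE, not_forall, not_le] at hc
  obtain ⟨A, hA, h2, h4⟩ := hc
  have pA : IsPGroup 2 A := fun a => ⟨1, Subtype.ext (by simpa using h2 a a.2)⟩
  obtain ⟨S, hAS⟩ := pA.exists_le_sylow
  obtain ⟨i, hi⟩ := IsPGroup.iff_card.mp pA
  obtain ⟨j, hj⟩ := IsPGroup.iff_card.mp S.2
  have ne : A ≠ S := fun e => hS S (e ▸ hA)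
  have j4 : j ≤ 4 := by
    by_contra h'
    exact h ((Nat.pow_dvd_pow 2 (show 5 ≤ j by omega)).trans (hj ▸ card_subgroup_dvd_card _))
  have ij : i < j := by
    have := card_lt_of_lt (lt_of_le_of_ne hAS ne)
    rwa [hi, hj, Nat.pow_lt_pow_iff_right one_lt_two] at this
  rw [hi, Nat.pow_lt_pow_iff_right one_lt_two] at h4
  obtain rfl : i = 3 := by omega
  obtain rfl : j = 4 := by omega
  have hx : A.relIndex S = 2 := by
    have := (A.subgroupOf S).card_mul_index
    rw [Nat.card_congr (subgroupOfEquivOfLe hAS).toEquiv, hi, hj] at this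
    unfold relIndex; omega
  obtain ⟨s, hs, hs'⟩ := SetLike.exists_of_lt (lt_of_le_of_ne hAS ne)
  have mm : ∀ a ∈ (S : Subgroup G), ∀ b ∈ (S : Subgroup G), (a * b ∈ A ↔ (a ∈ A ↔ b ∈ A)) :=
    fun a ha b hb => by
      simpa [mem_subgroupOf] using mul_mem_iff_of_index_two hx (a := ⟨a, ha⟩) (b := ⟨b, hb⟩)
  have cm : ∀ a ∈ A, ∀ b ∈ A, a * b = b * a := fun a ha b hb =>
    congrArg Subtype.val (hA.is_comm.comm ⟨a, ha⟩ ⟨b, hb⟩)
  have sq' : ∀ a ∈ A, a⁻¹ = a := fun a ha => inv_eq_of_mul_eq_one_right (by rw [← sq, h2 a ha])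
  have si : s⁻¹ ∉ A := fun h => hs' (inv_mem_iff.mp h)
  have cj : ∀ a ∈ A, s * a * s⁻¹ ∈ A := fun a ha => by
    rw [mm _ (mul_mem hs (hAS ha)) _ (inv_mem hs), mm _ hs _ (hAS ha)]; tauto
  have dec : ∀ u ∈ (S : Subgroup G), u ∈ A ∨ ∃ a ∈ A, u = a * s := fun u hu =>
    or_iff_not_imp_left.mpr fun h => ⟨u * s⁻¹, by rw [mm _ hu _ (inv_mem hs)]; tauto, by simp⟩
  have ss : s * s ∈ A := by rw [mm _ hs _ hs]
  let φ : A →* A := MonoidHom.mk' (fun a => ⟨a * (s * a * s⁻¹), mul_mem a.2 (cj _ a.2)⟩)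
    fun a b => Subtype.ext (by
      have := cm _ b.2 _ (cj _ a.2)
      change (a * b) * (s * (a * b) * s⁻¹) = a * (s * a * s⁻¹) * (b * (s * b * s⁻¹))
      calc _ = a * (b * (s * a * s⁻¹)) * (s * b * s⁻¹) := by group
        _ = _ := by rw [this]; group)
  have φv : ∀ a : A, (φ a : G) = a * (s * a * s⁻¹) := fun _ => rfl
  have kr : ∀ a : A, a ∈ φ.ker ↔ s * a = a * s := fun a => by
    rw [MonoidHom.mem_ker, Subtype.ext_iff, φv, OneMemClass.coe_one, mul_eq_one_iff_inv_eq,
      sq' _ a.2, eq_mul_inv_iff_mul_eq, eq_comm]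
  have cen : ∀ a ∈ φ.ker, (a : G) ∈ centralizer (S : Set G) := fun a ha u hu => by
    rcases dec u hu with h | ⟨c, hc, rfl⟩
    · exact cm _ h _ a.2
    · rw [mul_assoc, (kr a).mp ha, ← mul_assoc, cm _ hc _ a.2, mul_assoc]
  have rk : φ.range ≤ φ.ker := by
    rintro _ ⟨a, rfl⟩
    have e1 := cm _ ss _ a.2
    have e2 := cm _ a.2 _ (cj _ a.2)
    rw [kr, φv]
    calc s * (a * (s * a * s⁻¹)) = s * a * s⁻¹ * (s * s * a) * s⁻¹ := by group
      _ = s * a * s⁻¹ * a * s := by rw [e1]; group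
      _ = _ := by rw [e2]
  have cr : ∀ u ∈ (S : Subgroup G), ∀ v ∈ (S : Subgroup G),
      ∃ a : A, u * v * u⁻¹ * v⁻¹ = φ a := fun u hu v hv => by
    rcases dec u hu with h | ⟨c, hc, rfl⟩ <;> rcases dec v hv with h' | ⟨d, hd, rfl⟩
    · exact ⟨1, by rw [cm _ h _ h', map_one]; simp⟩
    · refine ⟨⟨u, h⟩, ?_⟩
      calc _ = u * (d * (s * u⁻¹ * s⁻¹)) * d⁻¹ := by group
        _ = _ := by rw [sq' _ h, cm _ hd _ (cj _ h), φv]; group
    · refine ⟨⟨v, h'⟩, ?_⟩
      calc _ = c * (s * v * s⁻¹) * c⁻¹ * v⁻¹ := by group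
        _ = _ := by rw [sq' _ h', cm _ hc _ (cj _ h'), φv, cm _ h' _ (cj _ h')]; group
    · refine ⟨⟨c * d, mul_mem hc hd⟩, ?_⟩
      calc _ = c * (s * (d * c⁻¹) * s⁻¹) * d⁻¹ := by group
        _ = _ := by
          rw [sq' _ hc, sq' _ hd, cm _ hd _ hc, mul_assoc c, ← cm _ hd _ (cj _ (mul_mem hc hd)), φv]
          group
  have c1 := φ.ker.card_mul_index
  rw [index_ker, hi] at c1
  have c2 := card_dvd_of_le rk
  have c3 : φ.range ≠ ⊥ := fun e => hS S ⟨⟨fun u v => Subtype.ext (by
    obtain ⟨a, ha⟩ := cr u u.2 v v.2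
    have : φ a = 1 := mem_bot.mp (e ▸ ⟨a, rfl⟩)
    rw [this, OneMemClass.coe_one, mul_inv_eq_one, mul_inv_eq_iff_eq_mul] at ha
    exact ha)⟩⟩
  have c4 : Nat.card φ.range = 2 := by
    have h5 := Nat.le_of_dvd Nat.card_pos c2
    have h6 := (one_lt_card_iff_ne_bot _).mpr c3
    nlinarith
  obtain ⟨z, hz, z1⟩ := (bot_or_exists_ne_one φ.range).resolve_left c3
  obtain ⟨w, hw, hw'⟩ := SetLike.exists_of_lt (lt_of_le_of_ne rk fun e => by
    rw [← e, c4] at c1; omega)
  have o2 : ∀ a : A, a ≠ 1 → orderOf (a : G) = 2 := fun a h =>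
    orderOf_eq_prime (h2 a a.2) fun e => h (Subtype.ext e)
  obtain ⟨g, hg⟩ := isConj_iff.mp (h1 _ _ (o2 w fun e => hw' (e ▸ one_mem _)) (o2 z z1)).symm
  obtain ⟨n, hn, e⟩ := S.conj_eq_normalizer_conj_of_mem_centralizer z g⁻¹ (cen z (rk hz))
    (by rw [inv_inv, hg]; exact cen w hw)
  obtain ⟨a, rfl⟩ := hz
  have m : ∀ u ∈ (S : Subgroup G), n⁻¹ * u * n ∈ (S : Subgroup G) := fun u hu =>
    (mem_normalizer_iff''.mp hn u).mp hu
  obtain ⟨c, hc⟩ := cr _ (m a (hAS a.2)) _ (m s hs)
  refine hw' ⟨c, Subtype.ext ?_⟩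
  rw [inv_inv, hg, φv] at e
  rw [← hc, e]
  nth_rw 4 [← sq' _ a.2]
  group

theorem comm_or_index {R : Type*} [Group R] [Finite R] {p : ℕ} [hp : Fact p.Prime]
    (h : Nat.card R = p ^ 4) : (∀ a b : R, a * b = b * a) ∨ ∃ g : R, g ∉ center R ∧
      Nat.card (centralizer ({g} : Set R)) = p ^ 3 ∧
        IsMulCommutative (centralizer ({g} : Set R)) := by
  classical
  have := Fintype.ofFinite R
  refine or_iff_not_imp_left.mpr fun hc => ?_
  have pR := IsPGroup.of_card h
  have le : ∀ g : R, center R ≤ centralizer {g} := fun g => center_le_centralizer _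
  have sub : ∀ (H : Subgroup R), ∃ i ≤ 4, Nat.card H = p ^ i := fun H =>
    (Nat.dvd_prime_pow hp.out).mp (h ▸ card_subgroup_dvd_card H)
  have lt : ∀ {i j : ℕ}, p ^ i < p ^ j → i < j := (Nat.pow_lt_pow_iff_right hp.out.one_lt).mp
  obtain ⟨g, hg, hg'⟩ : ∃ g : R, g ∉ center R ∧ ¬ p ^ 2 ∣ (centralizer ({g} : Set R)).index := by
    by_contra h1
    push Not at h1 hc
    obtain ⟨a, b, hab⟩ := hc
    have hb : b ∉ center R := fun h => hab (mem_center_iff.mp h a)
    have h2 := dvd_card_conj (Finset.univ.filter (· ∉ center R)) (u := p ^ 2) (fun a ha b hc => by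
      obtain ⟨c, rfl⟩ := isConj_iff.mp hc
      simpa [Normal.mem_comm_iff inferInstance (a := c * a)] using ha)
      fun a ha => h1 a (Finset.mem_filter.mp ha).2
    have h3 := Finset.card_filter_add_card_filter_not (s := Finset.univ) (· ∈ center R)
    rw [Finset.card_univ, ← Fintype.card_subtype, ← Nat.card_eq_fintype_card,
      ← Nat.card_eq_fintype_card, h] at h3
    have h4 := (Nat.dvd_add_left h2).mp (by rw [h3]; exact pow_dvd_pow p (by norm_num))
    obtain ⟨i, -, hi⟩ := sub (center R)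
    obtain ⟨j, -, hj⟩ := sub (centralizer {b})
    have h5 := card_lt_of_lt (lt_of_le_of_ne (le b) fun e =>
      hb (e ▸ mem_centralizer_singleton_iff.mpr rfl))
    change _ ∣ Nat.card (center R) at h4
    rw [hi] at h4 h5
    rw [hj] at h5
    have h6 := Nat.mul_dvd_mul (dvd_refl (Nat.card (centralizer ({b} : Set R)))) (h1 b hb)
    rw [card_mul_index, hj, h, ← pow_add, Nat.pow_dvd_pow_iff_le_right hp.out.one_lt] at h6
    rw [Nat.pow_dvd_pow_iff_le_right hp.out.one_lt] at h4
    have := lt h5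
    omega
  obtain ⟨j, j4, hj⟩ := sub (centralizer {g})
  have h1 := card_mul_index (centralizer ({g} : Set R))
  obtain rfl : j = 3 := by
    have : j ≠ 4 := by
      rintro rfl
      have := (eq_top_of_card_eq _ (hj.trans h.symm)).ge
      exact hg (mem_center_iff.mpr fun a => mem_centralizer_singleton_iff.mp (this (mem_top a)))
    by_contra h3
    rw [hj, h, show 4 = j + (4 - j) by omega, pow_add] at h1
    exact hg' (Nat.eq_of_mul_eq_mul_left (by have := hp.out.pos; positivity) h1 ▸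
      pow_dvd_pow p (by omega))
  refine ⟨g, hg, hj, ?_⟩
  have nt : Nontrivial R := Finite.one_lt_card_iff_nontrivial.mp
    (h ▸ Nat.one_lt_pow (by norm_num) hp.out.one_lt)
  obtain ⟨i, -, hi⟩ := sub (center R)
  have i0 : 0 < i := lt (hi ▸ Finite.one_lt_card_iff_nontrivial.mpr pR.center_nontrivial)
  obtain ⟨k, k3, hk⟩ := (Nat.dvd_prime_pow hp.out).mp
    (hj ▸ card_subgroup_dvd_card (center (centralizer ({g} : Set R))))
  have h2 := card_lt_of_lt (H := (center R).subgroupOf (centralizer {g}))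
    (K := center (centralizer ({g} : Set R))) (lt_of_le_of_ne (fun a ha => mem_center_iff.mpr
      fun b => Subtype.ext (mem_center_iff.mp ha b)) fun e => hg (by
        have : (⟨g, mem_centralizer_singleton_iff.mpr rfl⟩ : centralizer ({g} : Set R)) ∈
          center _ := mem_center_iff.mpr fun b => Subtype.ext (mem_centralizer_singleton_iff.mp b.2)
        rwa [← e] at this))
  rw [Nat.card_congr (subgroupOfEquivOfLe (le g)).toEquiv, hi, hk] at h2
  have h3 := lt h2
  have h4 := card_mul_index (center (centralizer ({g} : Set R)))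
  rw [hk, hj, show 3 = k + (3 - k) by omega, pow_add] at h4
  have : IsCyclic (centralizer ({g} : Set R) ⧸ center _) := isCyclic_of_card_dvd_prime (p := p) (by
    change (center _).index ∣ p
    rw [Nat.eq_of_mul_eq_mul_left (by have := hp.out.pos; positivity) h4]
    exact (pow_dvd_pow p (by omega)).trans (pow_one p).dvd)
  exact (QuotientGroup.mk' (center (centralizer ({g} : Set R)))
    ).isMulCommutative_of_isCyclic_of_ker_le_center (QuotientGroup.ker_mk' _).le

theorem rank_2401 [IsSimpleGroup G] (hN : Nat.card G = 6920642400)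
    (hC : ∀ (g : G) (k : ℕ), g ≠ 1 → g ^ 7 ^ k = 1 → cc g = 7 ^ 4) : PRankLE 2 2 G := by
  classical
  have := Fintype.ofFinite G
  have := Fact.mk Nat.prime_seven
  have cR : ∀ R : Sylow 7 G, Nat.card R = 7 ^ 4 := fun R => by
    rw [R.card_eq_multiplicity, hN, show 6920642400 = 7 ^ 4 * 2882400 by norm_num,
      Nat.factorization_mul (by norm_num) (by norm_num), Nat.prime_seven.factorization_pow]
    simp [Nat.factorization_eq_zero_of_not_dvd]
  have hR : ∀ (R : Sylow 7 G), ∀ g ∈ (R : Subgroup G), g ≠ 1 → cc g = 7 ^ 4 := fun R g hg h =>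
    hC g 4 h (by rw [← cR R]; exact congrArg Subtype.val (pow_card_eq_one' (x := (⟨g, hg⟩ : R))))
  have ab : ∀ (R : Sylow 7 G), ∀ a ∈ (R : Subgroup G), ∀ b ∈ (R : Subgroup G), a * b = b * a :=
    fun R => by
      rcases comm_or_index (cR R) with h | ⟨g, hg, h1, h2⟩
      · exact fun a ha b hb => congrArg Subtype.val (h ⟨a, ha⟩ ⟨b, hb⟩)
      exfalso
      let D := (centralizer ({g} : Set R)).map (R : Subgroup G).subtype
      have cD : Nat.card D = 7 ^ 3 := (card_map_of_injective (subtype_injective _)).trans h1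
      have DR : D ≤ R := map_subtype_le _
      have nm : ∀ H : Subgroup G, D ≤ H → Nat.card H = 7 ^ 4 → H ≤ normalizer (D : Set G) :=
        fun H h h' => by
          have h3 := (D.subgroupOf H).card_mul_index
          rw [Nat.card_congr (subgroupOfEquivOfLe h).toEquiv, cD, h'] at h3
          exact (normal_subgroupOf_iff_le_normalizer h).mp (normal_of_index_eq_minFac_card (by
            rw [h', Nat.Prime.pow_minFac Nat.prime_seven (by norm_num)]; omega))
      have dc : ∀ d ∈ D, D ≤ centralizer {d} := by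
        rintro _ ⟨d, hd, rfl⟩ _ ⟨e, he, rfl⟩
        exact mem_centralizer_singleton_iff.mpr
          (congrArg (fun a : centralizer ({g} : Set R) => ((a : R) : G)) (h2.is_comm.comm ⟨e, he⟩ ⟨d, hd⟩))
      set K := normalizer (D : Set G)
      obtain ⟨w, hw⟩ := card_dvd_of_le (nm _ DR (cR R))
      rw [cR R] at hw
      have ck : ∀ k : K, (k : G) ∈ D → k ≠ 1 → Nat.card (centralizer ({k} : Set K)) = 7 ^ 4 :=
        fun k hk k1 => by
          have h3 := hR R k (DR hk) fun e => k1 (Subtype.ext e)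
          rw [← h3, cc, ← Nat.card_congr (subgroupOfEquivOfLe (nm _ (dc k hk) h3)).toEquiv]
          congr 2
          ext a
          simp [mem_subgroupOf, mem_centralizer_singleton_iff, Subtype.ext_iff]
      have h3 := dvd_card_conj (Finset.univ.filter fun k : K => (k : G) ∈ D ∧ k ≠ 1) (u := w)
        (fun a ha b hc => by
          obtain ⟨c, rfl⟩ := isConj_iff.mp hc
          simp only [Finset.mem_filter, Finset.mem_univ, true_and] at ha ⊢
          exact ⟨(mem_normalizer_iff.mp c.2 a).mp ha.1, by simpa using ha.2⟩) fun a ha => by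
          have h4 := card_mul_index (centralizer ({a} : Set K))
          simp only [Finset.mem_filter, Finset.mem_univ, true_and] at ha
          rw [ck a ha.1 ha.2, hw] at h4
          exact (Nat.eq_of_mul_eq_mul_left (by norm_num) h4).symm.dvd
      rw [show (Finset.univ.filter fun k : K => (k : G) ∈ D ∧ k ≠ 1) =
        (Finset.univ.filter (· ∈ D.subgroupOf K)).erase 1 by ext; simp [mem_subgroupOf, and_comm],
        Finset.card_erase_of_mem (by simp), ← Fintype.card_subtype, ← Nat.card_eq_fintype_card,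
        Nat.card_congr (subgroupOfEquivOfLe le_normalizer).toEquiv, cD] at h3
      have h4 : w ∣ 2882400 := Nat.dvd_of_mul_dvd_mul_left (show 0 < 7 ^ 4 by norm_num)
        (by rw [← hw]; exact (card_subgroup_dvd_card K).trans (by rw [hN]; norm_num))
      have h5 := Nat.le_of_dvd (by norm_num) (Nat.dvd_gcd h3 h4)
      have gD : (g : G) ∈ D := ⟨g, mem_centralizer_singleton_iff.mpr rfl, rfl⟩
      have g1 : (g : G) ≠ 1 := fun e => hg (by rw [show g = 1 from Subtype.ext e]; exact one_mem _)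
      have h6 := hR R g g.2 g1
      let T := R.subtype (nm _ DR (cR R))
      have cT : Nat.card T = 7 ^ 4 :=
        (Nat.card_congr (subgroupOfEquivOfLe (nm _ DR (cR R))).toEquiv).trans (cR R)
      have h7 := T.card_dvd_index
      have h8 := (T : Subgroup K).card_mul_index
      rw [cT, hw] at h8
      rw [Nat.eq_of_mul_eq_mul_left (by norm_num) h8] at h7
      have h9 : Nat.card (Sylow 7 K) % 7 = 1 := card_sylow_modEq_one 7 K
      have w0 : 0 < w := Nat.pos_of_mul_pos_left (hw ▸ Nat.card_pos)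
      have := Nat.le_of_dvd w0 h7
      have : Subsingleton (Sylow 7 K) := Finite.card_le_one_iff_subsingleton.mp (by
        norm_num at h5; omega)
      obtain ⟨T', hT'⟩ := ((IsPGroup.of_card h6).comap_subtype (K := K)).exists_le_sylow
      rw [Subsingleton.elim T' T] at hT'
      have h10 : centralizer {(g : G)} ≤ R := fun a ha =>
        hT' (show (⟨a, nm _ (dc g gD) h6 ha⟩ : K) ∈ _ from ha)
      have h11 := eq_of_le_of_card_ge h10 (by rw [cR R]; exact h6.ge)
      exact hg (mem_center_iff.mpr fun a => Subtype.ext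
        (mem_centralizer_singleton_iff.mp (h11.ge a.2)))
  have ce : ∀ (R : Sylow 7 G), ∀ g ∈ (R : Subgroup G), g ≠ 1 → (R : Subgroup G) = centralizer {g} :=
    fun R g hg h => eq_of_le_of_card_ge (fun a ha => mem_centralizer_singleton_iff.mpr
      (ab R a ha g hg)) (by rw [cR R]; exact (hR R g hg h).le)
  have n1 : Nat.card (Sylow 7 G) ≡ 1 [MOD 7 ^ 4] := by
    by_contra h
    obtain ⟨P, R, hne, hi⟩ := S0985.result 7 4 h
    have h1 := ((R : Subgroup G).subgroupOf P).card_mul_index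
    obtain ⟨g, hg, g1⟩ := (bot_or_exists_ne_one ((R : Subgroup G).subgroupOf P)).resolve_left
      fun e => by rw [e, index_bot, cR P] at hi; norm_num at hi
    have g1' : (g : G) ≠ 1 := fun e => g1 (Subtype.ext e)
    exact hne (Sylow.ext ((ce P g g.2 g1').trans (ce R g hg g1').symm))
  obtain ⟨R⟩ : Nonempty (Sylow 7 G) := inferInstance
  have n2 := R.card_dvd_index
  have n3 := (R : Subgroup G).card_mul_index
  have n4 := H36.card_sylow_ne_one R (by rw [cR R]; norm_num) (by rw [cR R, hN]; norm_num)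
  rw [cR R, hN] at n3
  rw [show (R : Subgroup G).index = 2882400 by omega] at n2
  have n5 : ¬ 4 ∣ Nat.card (Sylow 7 G) := by
    have h : ∀ j < 1201, 2882400 % (2401 * j + 1) = 0 → j = 0 ∨ j = 1 := by decide +kernel
    have := Nat.le_of_dvd (by norm_num) n2
    have e : Nat.card (Sylow 7 G) = 2401 * (Nat.card (Sylow 7 G) / 2401) + 1 := by
      unfold Nat.ModEq at n1; omega
    have := h _ (by omega) (e ▸ Nat.mod_eq_zero_of_dvd n2)
    omega
  intro A hA h2
  by_contra h4
  have pA : IsPGroup 2 A := fun a => ⟨1, Subtype.ext (by simpa using h2 a a.2)⟩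
  obtain ⟨P, hP⟩ : ∃ P : Sylow 7 G, ¬ 4 ∣ (MulAction.stabilizer A P).index := by
    by_contra h
    push Not at h
    have := Fintype.ofFinite (Sylow 7 G)
    refine n5 (Nat.card_eq_fintype_card (α := Sylow 7 G) ▸ dvd_card_rel (MulAction.orbitRel A _)
      Finset.univ (by simp) fun P _ => ?_)
    convert h P
    rw [MulAction.index_stabilizer, ← Nat.card_coe_set_eq]
    exact Nat.card_congr (Equiv.subtypeEquivRight fun Q => MulAction.mem_orbit_symm)
  obtain ⟨i, hi⟩ := pA.index (MulAction.stabilizer A P)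
  have h5 := (MulAction.stabilizer A P).card_mul_index
  have h6 : 2 < Nat.card (MulAction.stabilizer A P) := by
    have : i < 2 := by
      by_contra h; exact hP (hi ▸ pow_dvd_pow 2 (not_lt.mp h))
    rw [hi] at h5
    interval_cases i <;> omega
  obtain ⟨r, hr, r1⟩ := (bot_or_exists_ne_one (P : Subgroup G)).resolve_left fun e => by
    have := cR P; rw [e, card_bot] at this; norm_num at this
  have no2 : ∀ v ∈ (P : Subgroup G), v ^ 2 = 1 → v = 1 := fun v hv h => orderOf_eq_one_iff.mp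
    (Nat.eq_one_of_dvd_coprimes (by norm_num : Nat.Coprime 2 (7 ^ 4)) (orderOf_dvd_of_pow_eq_one h)
      (cR P ▸ orderOf_dvd_natCard _ hv))
  have iv : ∀ u : MulAction.stabilizer A P, u ≠ 1 → ∀ r ∈ (P : Subgroup G),
      ((u : A) : G) * r * ((u : A) : G)⁻¹ = r⁻¹ := fun u hu r hr => by
    have u2 : ((u : A) : G) * (u : A) = 1 := by rw [← sq, h2 _ (u : A).2]
    have m := (mem_normalizer_iff.mp (Sylow.smul_eq_iff_mem_normalizer.mp u.2) r).mp hr
    by_contra h
    refine hu (Subtype.ext (Subtype.ext (no2 _ ?_ (h2 _ (u : A).2))))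
    rw [ce P _ (mul_mem hr m) fun e => h (eq_inv_of_mul_eq_one_right e),
      mem_centralizer_singleton_iff]
    nth_rw 2 [ab P _ hr _ m]
    rw [inv_eq_of_mul_eq_one_right u2]
    simp only [mul_assoc]
  obtain ⟨u, v, u1, v1, uv⟩ : ∃ u v : MulAction.stabilizer A P, u ≠ 1 ∧ v ≠ 1 ∧ u * v ≠ 1 := by
    have := Fintype.ofFinite (MulAction.stabilizer A P)
    rw [Nat.card_eq_fintype_card, ← Finset.card_univ] at h6
    obtain ⟨u, -, hu⟩ := Finset.exists_mem_ne (s := Finset.univ) (by omega)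
      (1 : MulAction.stabilizer A P)
    obtain ⟨v, -, hv⟩ := Finset.exists_mem_notMem_of_card_lt_card
      (Finset.card_le_two (a := 1) (b := u⁻¹) |>.trans_lt h6)
    simp only [Finset.mem_insert, Finset.mem_singleton, not_or] at hv
    exact ⟨u, v, hu, hv.1, fun e => hv.2 (eq_inv_of_mul_eq_one_right e)⟩
  have e := iv _ uv r hr
  rw [coe_mul, coe_mul, show ∀ a b : G, a * b * r * (a * b)⁻¹ = a * (b * r * b⁻¹) * a⁻¹ by
    intros; group, iv v v1 r hr, iv u u1 _ (inv_mem hr), inv_inv] at e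
  exact r1 (no2 r hr (by rw [sq]; exact mul_eq_one_iff_eq_inv.mpr e))

end Cfsg.Agent.H16
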