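import Cfsg.Agent.H16.Sect

/-! Local lemmas, subset sums and extended norm bounds. -/

set_option autoImplicit false
set_option linter.unusedSectionVars false

namespace Cfsg.Agent.H16

open Cfsg Subgroup H35 H14
open scoped ComplexConjugate

variable {G : Type*} [Group G] [Finite G] {p : ℕ} [hp : Fact p.Prime]

theorem dvd_V_symm {q : ℕ} [Fact q.Prime] (S : Setup G p) (T : Setup G q) (hpq : p ≠ q)
    (h : q ∣ Nat.card S.V) : p ∣ Nat.card T.V := by
  obtain ⟨w, hw⟩ := exists_conj_V T (t := S.x) (by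
    rw [S.hx]; exact fun h => hpq ((Nat.prime_dvd_prime_iff_eq Fact.out hp.out).mp h).symm)
    (S.card_centralizer ▸ h.mul_left p)
  exact (S.hx.symm.trans (H36.orderOf_eq_of_isConj hw).symm) ▸ orderOf_V_dvd T w

/-- fixed points of a `q`-subgroup of `K` on `V` -/
theorem exists_fixV (S : Setup G p) {q a r : ℕ} (hq : q.Prime) (hr : r.Prime)
    (ha : q ^ a ∣ Nat.card S.V * S.V.index)
    (h : ∀ t, t ∣ Nat.card S.V → Nat.card S.V % q = t % q → r ∣ t) : ∃ w : S.V,
      orderOf ((w : S.K) : G) = r ∧ q ^ a ∣ Nat.card (centralizer ({(w : S.K)} : Set S.K)) := by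
  have : Fact q.Prime := ⟨hq⟩
  obtain ⟨T, hT⟩ := Sylow.exists_subgroup_card_pow_prime q (S.V.card_mul_index ▸ ha)
  let _ : MulDistribMulAction T S.V :=
    MulDistribMulAction.compHom _ ((MulAut.conjNormal (H := S.V)).comp T.subtype)
  obtain ⟨w, hw, ho⟩ := H36.exists_orderOf_eq_of_dvd (FixedPoints.subgroup T S.V) hr
    (h _ (card_subgroup_dvd_card _) ((IsPGroup.of_card hT).card_modEq_card_fixedPoints S.V))
  refine ⟨w, by rw [orderOf_coe, orderOf_coe, ho], hT ▸ card_dvd_of_le fun u hu => ?_⟩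
  have := congrArg Subtype.val (hw ⟨u, hu⟩)
  exact mem_centralizer_singleton_iff.mpr (mul_inv_eq_iff_eq_mul.mp this)

theorem index_cent_le (S : Setup G p) {w u : S.V} (hw : w ≠ 1) (hu : u ≠ 1)
    (h : orderOf ((u : S.K) : G) ≠ orderOf ((w : S.K) : G)) :
    (centralizer ({(w : S.K)} : Set S.K)).index + 2 ≤ Nat.card S.V := by
  classical
  have := Fintype.ofFinite S.V
  rw [← H36.card_isConj_eq_index, ← Finset.card_pair hu, Nat.card_eq_fintype_card (α := S.V),
    ← Finset.card_compl_add_card {u, 1}, Nat.add_le_add_iff_right, ← Fintype.card_coe,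
    ← Nat.card_eq_fintype_card]
  refine Nat.card_le_card_of_injective
    (fun k : {k : S.K // IsConj (w : S.K) k} => ⟨⟨k.1, by
      obtain ⟨c, hc⟩ := isConj_iff.mp k.2
      exact hc ▸ (inferInstance : S.V.Normal).conj_mem _ w.2 c⟩, ?_⟩)
    fun a b h => Subtype.ext (congrArg (fun x => (x.1 : S.K)) h)
  have h1 := H36.orderOf_eq_of_isConj k.2
  simp only [Finset.mem_compl, Finset.mem_insert, Finset.mem_singleton, not_or, Subtype.ext_iff]
  refine ⟨fun e => h ?_, fun e => hw ?_⟩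
  · rw [← e, orderOf_coe, h1, orderOf_coe (w : S.K)]
  · rw [show k.1 = 1 from Subtype.ext e, orderOf_one, eq_comm, orderOf_eq_one_iff] at h1
    exact Subtype.ext h1

theorem card_centK_dvd (S : Setup G p) (w : S.V) :
    Nat.card (centralizer ({(w : S.K)} : Set S.K)) ∣
      Nat.card (centralizer ({((w : S.K) : G)} : Set G)) := by
  obtain ⟨m, -, h⟩ := cent_V S w
  exact h ▸ (dvd_mul_left _ p).mul_left m

/-- possible orders of the centraliser of an element of `V` -/
noncomputable def centOK3 (p v e c r : ℕ) : Bool :=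
  anyL (List.range v) fun i => decide (v * e % i = 0 ∧ v * e / i % r = 0 ∧
    c % (p * (v * e / i)) = 0 ∧ c / (p * (v * e / i)) % p = 1)

theorem centOK3_of (S : Setup G p) {w : S.V} (ht : ((w : S.K) : G) ≠ 1) {r : ℕ}
    (hr : r ∣ Nat.card (centralizer ({(w : S.K)} : Set S.K))) :
    centOK3 p (Nat.card S.V) S.V.index (Nat.card (centralizer ({((w : S.K) : G)} : Set G))) r =
      true := by
  obtain ⟨m, hm, h1⟩ := cent_V S w
  have h2 := index_cent_lt S (w := w) fun e => ht (by simp [e])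
  have h3 := card_mul_index (centralizer ({(w : S.K)} : Set S.K))
  have h4 : 0 < (centralizer ({(w : S.K)} : Set S.K)).index :=
    Nat.pos_of_ne_zero index_ne_zero_of_finite
  have h5 : 0 < p * Nat.card (centralizer ({(w : S.K)} : Set S.K)) :=
    Nat.mul_pos hp.out.pos Nat.card_pos
  refine anyL_iff.mpr ⟨_, List.mem_range.mpr h2, decide_eq_true ?_⟩
  rw [S.V.card_mul_index, ← h3, Nat.mul_div_cancel _ h4, h1, Nat.mul_div_cancel _ h5]
  exact ⟨Nat.mul_mod_left _ _, Nat.mod_eq_zero_of_dvd hr, Nat.mul_mod_left _ _, hm⟩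

/-- bit mask of the residues of the sums of sublists -/
noncomputable def msk (m : ℕ) (l : List ℤ) : ℕ :=
  List.rec 1 (fun a _ ih => force ih fun B => force (Nat.shiftLeft B (a % m).toNat) fun C =>
    Nat.lor B (Nat.lor (Nat.mod C (Nat.pow 2 m)) (Nat.shiftRight C m))) l

/-- some sublist has sum congruent to `t` -/
noncomputable def subOK (m : ℕ) (l : List ℤ) (t : ℤ) : Bool := (msk m l).testBit (t % m).toNat

theorem msk_spec {m : ℕ} (hm : 0 < m) (l : List ℤ) :
    ∀ s : Multiset ℤ, s ≤ l → subOK m l s.sum = true := by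
  induction l with
  | nil =>
    intro s hs
    obtain rfl : s = 0 := by simpa using hs
    simp [subOK, msk]
  | cons a l ih =>
    intro s hs
    have e : msk m (a :: l) = msk m l ||| ((msk m l <<< (a % m).toNat) % 2 ^ m |||
        (msk m l <<< (a % m).toNat) >>> m) := by
      simp only [msk, force_eq]; rfl
    rw [subOK, e, Nat.testBit_or, Nat.testBit_or, Nat.testBit_mod_two_pow, Nat.testBit_shiftRight,
      Nat.testBit_shiftLeft, Nat.testBit_shiftLeft]
    by_cases ha : a ∈ s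
    · obtain ⟨s, rfl⟩ := Multiset.exists_cons_of_mem ha
      have h := ih s ((Multiset.cons_le_cons_iff a).mp hs)
      have h0 : (m : ℤ) ≠ 0 := by omega
      have h1 := Int.emod_nonneg a h0
      have h2 := Int.emod_nonneg s.sum h0
      have h3 := Int.emod_lt_of_pos a (b := m) (by omega)
      have h4 := Int.emod_lt_of_pos s.sum (b := m) (by omega)
      rw [subOK] at h
      rw [Multiset.sum_cons, Int.add_emod]
      generalize a % m = x at *
      generalize s.sum % m = y at *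
      by_cases h5 : x + y < m
      · rw [Int.emod_eq_of_lt (by omega) h5, show (x + y).toNat - x.toNat = y.toNat by omega, h,
          decide_eq_true (by omega : (x + y).toNat < m),
          decide_eq_true (by omega : (x + y).toNat ≥ x.toNat)]
        simp
      · rw [← Int.sub_emod_right, Int.emod_eq_of_lt (by omega) (by omega),
          show m + (x + y - m).toNat - x.toNat = y.toNat by omega, h,
          decide_eq_true (by omega : m + (x + y - m).toNat ≥ x.toNat)]
        simp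
    · have := ih s ((Multiset.le_cons_of_notMem ha).mp hs)
      rw [subOK] at this
      simp [this]

theorem subOK_of {ι α : Type*} {T : Multiset ι} {κ : ι → α} {l : List α} (h : T.map κ = l)
    (f : α → ℤ) {g : ι → ℤ} (hg : ∀ i ∈ T, g i = 0 ∨ g i = f (κ i)) {m : ℕ} (hm : 0 < m) {t : ℤ}
    (ht : (m : ℤ) ∣ (T.map g).sum - t) : subOK m (l.map f) t = true := by
  classical
  have h1 := msk_spec hm (l.map f) ((T.filter fun i => g i ≠ 0).map fun i => f (κ i)) (by
    rw [← Multiset.map_coe, ← h, Multiset.map_map]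
    exact Multiset.map_le_map (Multiset.filter_le _ _))
  have h2 : ((T.filter fun i => g i ≠ 0).map fun i => f (κ i)).sum = (T.map g).sum := by
    conv_rhs => rw [← Multiset.filter_add_not (fun i => g i ≠ 0) T, Multiset.map_add,
      Multiset.sum_add, Multiset.sum_eq_zero (s := (T.filter fun i => ¬ g i ≠ 0).map g)
        (by simp +contextual)]
    rw [add_zero]
    exact congrArg _ (Multiset.map_congr rfl fun i hi =>
      ((hg i (Multiset.mem_of_mem_filter hi)).resolve_left (Multiset.mem_filter.mp hi).2).symm)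
  rwa [subOK, h2, Int.emod_eq_emod_iff_emod_sub_eq_zero.mpr (Int.emod_eq_zero_of_dvd ht)] at h1

/-- the primes modulo which the central character must be principal -/
noncomputable def nfm (p e : ℕ) (qs : List (ℕ × ℕ)) (l : List ℕ) (d : ℕ) : ℕ :=
  List.rec 1 (fun y _ ih => Bool.rec (Nat.lcm y.1 ih) ih
    (subOK (y.1 ^ y.2) ((l.erase d).map fun x => sgn p e x * x) (-(sgn p e d * d)))) qs

theorem div_gcd_dvd {x i : ℕ} (hx : 0 < x) {y : ℤ} (h : (x : ℤ) ∣ i * y) :
    ((x / Nat.gcd x i : ℕ) : ℤ) ∣ y := by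
  have hg : 0 < Nat.gcd x i := Nat.gcd_pos_of_pos_left _ hx
  have k7 : x ∣ i * y.natAbs := by simpa [Int.natAbs_mul] using Int.natAbs_dvd_natAbs.mpr h
  refine Int.natCast_dvd.mpr ((Nat.coprime_div_gcd_div_gcd hg).dvd_of_dvd_mul_left ?_)
  refine Nat.dvd_of_mul_dvd_mul_left hg ?_
  rwa [Nat.mul_div_cancel' (Nat.gcd_dvd_left _ _), ← mul_assoc,
    Nat.mul_div_cancel' (Nat.gcd_dvd_right _ _)]

namespace PB

variable {S : Setup G p} (P : PB S)

theorem degOK_of {χ : IrrCharacter G} (h : χ ∈ P.B.X ∨ χ ∈ P.B.Y) : degOK p S.V.index (dg χ) := by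
  by_cases h1 : χ = triv G
  · rw [h1, dg_triv]
    exact Or.inl (Or.inl (Nat.mod_eq_of_lt hp.out.one_lt))
  · obtain ⟨φ, h2, h3, -⟩ := P.exists_rep h h1
    exact h3 ▸ (P.deg_ok h2).2

theorem mem_Z_of {χ : IrrCharacter G} (h : χ ∈ P.B.X ∨ χ ∈ P.B.Y) (h1 : dg χ ≠ 1)
    (h2 : nexc p (dg χ)) : χ ∈ P.Z := by
  obtain ⟨φ, h3, -, -, h4⟩ := P.exists_rep h fun e => h1 (e ▸ dg_triv)
  exact h4 h2 ▸ h3

theorem nfm_spec {L : List (IrrCharacter G)} (hL : P.Z.val = L) {g : G} {a : IrrCharacter G → ℤ}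
    (ha : ∀ χ ∈ P.Z, (χ : G → ℂ) g = a χ) {χ : IrrCharacter G} (hχ : χ ∈ P.Z) (qs : List (ℕ × ℕ))
    (hqs : ∀ x ∈ qs, x.1.Prime ∧ x.1 ≠ p ∧ Nat.card S.V % x.1 ≠ 0 ∧ Nat.card G % x.1 ^ x.2 = 0) :
    0 < nfm p S.V.index qs (L.map dg) (dg χ) ∧ (nfm p S.V.index qs (L.map dg) (dg χ) : ℤ) ∣
      (centralizer ({g} : Set G)).index - (centralizer ({g} : Set G)).index * a χ / dg χ := by
  classical
  induction qs with
  | nil => exact ⟨one_pos, one_dvd _⟩
  | cons y qs ih =>
    obtain ⟨h1, h2⟩ := ih fun x hx => hqs x (List.mem_cons_of_mem _ hx)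
    obtain ⟨k1, k2, k3, k4⟩ := hqs y List.mem_cons_self
    have e : nfm p S.V.index (y :: qs) (L.map dg) (dg χ) = Bool.rec (Nat.lcm y.1 _) _ _ := rfl
    rw [e]
    cases h : subOK _ _ _
    swap
    · exact ⟨h1, h2⟩
    refine ⟨Nat.lcm_pos k1.pos h1, Int.natCast_dvd.mpr (Nat.lcm_dvd ?_ (Int.natCast_dvd.mp h2))⟩
    by_contra h3
    have h4 := (P.bt_omega k1 k2 (fun h => k3 (Nat.mod_eq_zero_of_dvd h))
      (Nat.dvd_of_mod_eq_zero k4) ha ((centralizer ({g} : Set G)).index * a χ / dg χ)).1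
    rw [if_neg fun h => h3 (Int.natCast_dvd.mp (Int.dvd_of_emod_eq_zero h)), zero_add,
      ← Finset.add_sum_erase _ _ hχ, if_pos (by simp), add_comm, ← sub_neg_eq_add] at h4
    rw [subOK_of (T := (P.Z.erase χ).val) (κ := dg) (by
      rw [Finset.erase_val, Multiset.map_erase_of_mem _ _ hχ, hL]; simp) _
      (fun i _ => ?_) (pow_pos k1.pos _) (Nat.cast_pow (α := ℤ) _ _ ▸ h4)] at h
    · cases h
    · split_ifs <;> simp

theorem norm_le_ext {g : G} (hg : ¬ p ∣ orderOf g) {E : List (IrrCharacter G)} (hE : E.Nodup)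
    (hE' : ∀ χ ∈ E, ¬ degOK p S.V.index (dg χ)) {a : IrrCharacter G → ℤ}
    (ha : ∀ χ, χ ∈ P.Z ∨ χ ∈ E → (χ : G → ℂ) g = a χ) :
    ∑ χ ∈ P.Z, mu p S.V.index (dg χ) * a χ ^ 2 ≤
      Nat.card (centralizer ({g} : Set G)) - 1 - (E.map fun χ => a χ ^ 2).sum := by
  classical
  have hψ : P.ψ ∈ P.Z := P.mem_Z.mpr (Or.inl rfl)
  have h0 : ∀ χ, χ ∈ P.Z ∨ χ ∈ E → ival g χ = a χ := fun χ h => ival_eq (ha χ h)
  have h := col_le g (P.B.X ∪ P.B.Y ∪ E.toFinset) (ival g) fun χ hχ => ival_spec (by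
    simp only [Finset.mem_union, List.mem_toFinset] at hχ
    rcases hχ with hχ | hχ
    · by_cases h1 : χ = triv G
      · exact ⟨1, by simp [h1, triv_apply]⟩
      · obtain ⟨φ, h2, -, h3, -⟩ := P.exists_rep hχ h1
        exact ⟨a φ, h3 g hg ▸ ha φ (Or.inl h2)⟩
    · exact ⟨a χ, ha χ (Or.inr hχ)⟩)
  rw [Finset.sum_union (Finset.disjoint_left.mpr fun χ h1 h2 => hE' χ (List.mem_toFinset.mp h2)
    (P.degOK_of (Finset.mem_union.mp h1))), P.sum_block _ fun χ hχ => by rw [P.ival_Y hg hχ],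
    List.sum_toFinset _ hE, ival_triv, List.map_congr_left fun χ h => by rw [h0 χ (Or.inr h)],
    Finset.sum_congr rfl fun χ h => by rw [h0 χ (Or.inl h)]] at h
  simp only [Int.cast_id] at h
  omega

theorem norm_deg_ext {E : List (IrrCharacter G)} (hE : E.Nodup)
    (hE' : ∀ χ ∈ E, ¬ degOK p S.V.index (dg χ)) :
    ∑ χ ∈ P.Z, mu p S.V.index (dg χ) * (dg χ : ℤ) ^ 2 ≤
      Nat.card G - 1 - (E.map fun χ => (dg χ : ℤ) ^ 2).sum := by
  have := P.norm_le_ext (g := 1) (by simpa using hp.out.ne_one) hE hE' (a := fun χ => dg χ)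
    fun χ _ => by rw [dg_cast]; simp
  rwa [show centralizer ({1} : Set G) = ⊤ by simp, card_top] at this

/-- the subset test for the block relation on a section -/
theorem cross_sub {q : ℕ} [Fact q.Prime] {T : Setup G q} (Q : PB T) (hV : ¬ p ∣ Nat.card T.V)
    (hpq : p ≠ q) {α : Type} {κ : IrrCharacter G → α} {L : List (IrrCharacter G)}
    (hL : P.Z.val = L) (f : α → ℤ) (hf : ∀ χ ∈ P.Z, χ ∈ Q.B.X ∨ χ ∈ Q.B.Y →
      f (κ χ) = sgn p S.V.index (dg χ) * tau q T.V.index (dg χ)) :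
    subOK 512 ((L.map κ).map f) (-(q - 1 : ℕ)) = true := by
  classical
  refine subOK_of (T := P.Z.val) (κ := κ) (by rw [hL]; simp) f (fun χ h => ?_) (by norm_num)
    (sub_eq_zero.mpr (P.cross' Q hV hpq) ▸ dvd_zero _)
  split_ifs with h1
  exacts [Or.inr (hf χ h h1).symm, Or.inl rfl]

end PB

end Cfsg.Agent.H16
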