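import Cfsg.Agent.H16.ColR

/-! Rational characters of a principal block and values at involutions. -/

set_option autoImplicit false
set_option linter.unusedSectionVars false

namespace Cfsg.Agent.H16

open Cfsg Subgroup H35 H14
open scoped ComplexConjugate

variable {G : Type*} [Group G] [Finite G] {p : ℕ} [hp : Fact p.Prime]

theorem index_eq_div {n : ℕ} (hn : Nat.card G = n) (g : G) :
    n / Nat.card (centralizer ({g} : Set G)) = (centralizer ({g} : Set G)).index := by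
  rw [← hn, ← card_mul_index (centralizer ({g} : Set G)), Nat.mul_div_cancel_left _ Nat.card_pos]

theorem not_dvd_orderOf_V (S : Setup G p) (w : S.V) : ¬ p ∣ orderOf ((w : S.K) : G) :=
  S.not_dvd_orderOf _

/-- lower bound for the degrees occurring once -/
def ratB (p v : ℕ) (rs l : List ℕ) : Prop :=
  ∀ r ∈ rs, v % r = 0 → ∀ d ∈ l, l.count d ≤ 1 → (r - 1) * p ≤ d

instance (p v : ℕ) (rs l : List ℕ) : Decidable (ratB p v rs l) :=
  inferInstanceAs (Decidable (∀ r ∈ rs, _))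

/-- some value is possible -/
noncomputable def valOK (n c m d : ℕ) : Bool :=
  anyL (List.range (2 * d / m + 1)) fun k =>
    decide (k ≠ 0 ∧ (n / c : ℕ) * ((d : ℤ) - m * k) % d = 0 ∧ ((d : ℤ) - m * k) ^ 2 ≤ c)

theorem valOK_of [IsSimpleGroup G] (hG : commutator G = ⊤) {n : ℕ} (hn : Nat.card G = n)
    {χ : IrrCharacter G} (h : χ ≠ triv G) {g : G} (hg : g ≠ 1) {a : ℤ} (ha : (χ : G → ℂ) g = a)
    {m : ℕ} (hm : 0 < m) (hm' : (m : ℤ) ∣ dg χ - a) :
    valOK n (Nat.card (centralizer ({g} : Set G))) m (dg χ) = true := by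
  have h1 := abs_lt.mp (abs_lt_of_simple hG h hg ha)
  obtain ⟨k, hk⟩ := hm'
  obtain ⟨k, rfl⟩ := Int.eq_ofNat_of_zero_le (a := k)
    (nonneg_of_mul_nonneg_right (a := (m : ℤ)) (by omega) (by exact_mod_cast hm))
  have h2 := col_le g {χ} (fun _ => a) (by simpa using ha)
  rw [Finset.sum_singleton] at h2
  refine anyL_iff.mpr ⟨k, List.mem_range.mpr (Nat.lt_succ_of_le ((Nat.le_div_iff_mul_le hm).mpr
    (by zify; nlinarith))), decide_eq_true ⟨?_, ?_⟩⟩
  · rintro rfl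
    omega
  · rw [index_eq_div hn, show (dg χ : ℤ) - m * k = a by omega]
    exact ⟨Int.emod_eq_zero_of_dvd (dg_dvd_index_mul χ ha), h2⟩

/-- evaluate a function at some arguments before passing it on -/
noncomputable def memo (f : ℕ → ℕ → List ℕ) (ks : List (ℕ × ℕ)) :
    ((ℕ → ℕ → List ℕ) → Bool) → Bool :=
  List.rec (motive := fun _ => ((ℕ → ℕ → List ℕ) → Bool) → Bool) (fun k => k f)
    (fun a _ ih k => forceL (f a.1 a.2) fun L => ih fun g => k fun x y =>
      Bool.rec (g x y) L (Nat.beq x a.1 && Nat.beq y a.2)) ks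

theorem memo_eq (f : ℕ → ℕ → List ℕ) (ks : List (ℕ × ℕ)) (k : (ℕ → ℕ → List ℕ) → Bool) :
    memo f ks k = k f := by
  induction ks generalizing k with
  | nil => rfl
  | cons a ks ih =>
    change forceL (f a.1 a.2) (fun L => memo f ks fun g => k fun x y =>
      Bool.rec (g x y) L (Nat.beq x a.1 && Nat.beq y a.2)) = _
    rw [forceL_eq, ih]
    congr 1
    funext x y
    cases h : Nat.beq x a.1 && Nat.beq y a.2
    · rfl
    · rw [Bool.and_eq_true, beq_iff, beq_iff] at h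
      rw [h.1, h.2]

/-- the list of divisors -/
def dvs : List (ℕ × ℕ) → List ℕ
  | [] => [1]
  | x :: ps => (List.range (x.2 + 1)).flatMap fun i => (dvs ps).map (x.1 ^ i * ·)

theorem mem_dvs : ∀ ps : List (ℕ × ℕ), (∀ x ∈ ps, x.1.Prime) →
    ∀ d, d ∣ (ps.map fun x => x.1 ^ x.2).prod → d ∈ dvs ps
  | [], _, d, hd => by simpa [dvs] using hd
  | x :: ps, h, d, hd => by
    rw [List.map_cons, List.prod_cons] at hd
    obtain ⟨a, b, ha, hb, rfl⟩ := (Nat.dvd_mul ..).mp hd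
    obtain ⟨i, hi, rfl⟩ := (Nat.dvd_prime_pow (h x List.mem_cons_self)).mp ha
    exact List.mem_flatMap.mpr ⟨i, List.mem_range.mpr (by omega), List.mem_map_of_mem
      (mem_dvs ps (fun y hy => h y (List.mem_cons_of_mem _ hy)) b hb)⟩

theorem exists_inv2 (S : Setup G p) (hv : Nat.card S.V % 2 = 0) : ∃ w : S.V,
    orderOf ((w : S.K) : G) = 2 ∧ Nat.gcd 1024 (Nat.card S.V * S.V.index) ∣
      Nat.card (centralizer ({(w : S.K)} : Set S.K)) := by
  obtain ⟨a, -, ha⟩ := (Nat.dvd_prime_pow Nat.prime_two (m := 10)).mp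
    (Nat.gcd_dvd_left 1024 (Nat.card S.V * S.V.index))
  rw [ha]
  exact exists_fixV S Nat.prime_two Nat.prime_two (ha ▸ Nat.gcd_dvd_right _ _)
    fun t _ h => by omega

namespace PB

variable {S : Setup G p} (P : PB S)

theorem le_of_count [IsSimpleGroup G] (hG : commutator G = ⊤) {L : List (IrrCharacter G)}
    (hL : P.Z.val = L) {χ : IrrCharacter G} (hχ : χ ∈ P.Z) (h : (L.map dg).count (dg χ) ≤ 1)
    {r : ℕ} (hr : r.Prime) (hv : r ∣ Nat.card S.V) : (r - 1) * p ≤ dg χ := by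
  obtain ⟨w, hw⟩ := exists_V S hr hv
  have h0 := not_dvd_orderOf_V S w
  obtain ⟨a, ha⟩ := P.int_of_count hL hχ h h0
  have h1 := Int.dvd_of_emod_eq_zero (P.cong_conj_V (P.mem_XY hχ) (IsConj.refl _) ha)
  have h2 := int_cong_dg χ hr ⟨1, by rw [hw, pow_one]⟩ ha
  have h3 := (abs_lt.mp (abs_lt_of_simple hG (P.ne_triv hχ)
    (fun e => hr.ne_one (by rw [← hw, e, orderOf_one])) ha)).2
  obtain ⟨-, m, -, -, h4⟩ := trv_spec ((w : S.K) : G) χ
  rw [trv_rat (hw ▸ hr) ha, hw] at h4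
  rw [hw] at h0
  have h5 := Int.le_of_dvd (by omega) (dvd_sub_comm.mp (IsCoprime.mul_dvd
    (Nat.isCoprime_iff_coprime.mpr ((Nat.Prime.coprime_iff_not_dvd hp.out).mpr h0)) h1 h2))
  have h6 := hr.pos
  obtain ⟨r, rfl⟩ : ∃ s, r = s + 1 := ⟨r - 1, by omega⟩
  simp only [Nat.add_sub_cancel] at h4 ⊢
  zify at h4 h5 ⊢
  nlinarith [mul_le_mul_of_nonneg_left h5 (Int.natCast_nonneg r), Int.natCast_nonneg m,
    Int.natCast_nonneg r]

theorem ratB_of [IsSimpleGroup G] (hG : commutator G = ⊤) {L : List (IrrCharacter G)}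
    (hL : P.Z.val = L) {rs : List ℕ} (hr : ∀ r ∈ rs, r.Prime) :
    ratB p (Nat.card S.V) rs (L.map dg) := fun r h hv d hd hc => by
  obtain ⟨χ, hχ, rfl⟩ := List.mem_map.mp hd
  exact P.le_of_count hG hL ((mem_list hL).mpr hχ) hc (hr r h) (Nat.dvd_of_mod_eq_zero hv)

/-- the degrees in the block -/
theorem deg_spec [IsSimpleGroup G] (hG : commutator G = ⊤) {n : ℕ} (hn : Nat.card G = n)
    {χ : IrrCharacter G} (h : χ ∈ P.B.X ∨ χ ∈ P.B.Y) (h1 : χ ≠ triv G) :
    n / (p * Nat.card S.V) % dg χ = 0 ∧ degOK p S.V.index (dg χ) ∧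
      (Nat.card S.V = 1 ∨ 2 * p < dg χ) := by
  obtain ⟨φ, h2, h3, -⟩ := P.exists_rep h h1
  rw [← hn, ← card_cent_mul S.x, S.card_centralizer,
    Nat.mul_div_cancel_left _ (Nat.mul_pos hp.out.pos Nat.card_pos)]
  exact ⟨Nat.mod_eq_zero_of_dvd (h3 ▸ (P.deg_ok h2).1), P.degOK_of h,
    (em _).imp_right fun hV => big_of_V hG P.B hV h h1⟩

theorem norm_inv (hG : commutator G = ⊤) {t : G} (ht : orderOf t = 2) :
    ∑ χ ∈ P.Z, mu p S.V.index (dg χ) * ival t χ ^ 2 ≤
      Nat.card (centralizer ({t} : Set G)) - 1 :=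
  P.norm_le (fun h => P.p2 ((Nat.prime_dvd_prime_iff_eq hp.out Nat.prime_two).mp (ht ▸ h)))
    fun χ _ => (ival_inv hG (by rw [← sq, ← ht, pow_orderOf_eq_one]) χ).1

end PB

end Cfsg.Agent.H16
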