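import Cfsg.Agent.H87.CycS
import Cfsg.Agent.H16.Gen4

/-! Blocks of defect one for the prime three. -/

set_option autoImplicit false
set_option linter.unusedSectionVars false

namespace Cfsg.Agent.H16

open Cfsg Subgroup H35 H14
open scoped ComplexConjugate

variable {G : Type*} [Group G] [Finite G] {M : Ideal AlgInt}

/-- a block with three members -/
structure Tri (M : Ideal AlgInt) (a b c : IrrCharacter G) : Prop where
  ab : a ≠ b
  ac : a ≠ c
  bc : b ≠ c
  mem : ∀ χ ∈ [a, b, c], ∀ ψ : IrrCharacter G, SameBlock M (χ : G → ℂ) ψ ↔ ψ ∈ [a, b, c]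
  nine : ∀ χ ∈ [a, b, c], dg χ % 9 = 0 ∧ dg χ % 27 ≠ 0

/-- the nilpotent case -/
def RelE (a b c : IrrCharacter G) : Prop :=
  (∀ g, ¬ 3 ∣ orderOf g → (a : G → ℂ) g = (b : G → ℂ) g ∧ (a : G → ℂ) g = (c : G → ℂ) g) ∧
    ∀ g, 3 ∣ orderOf g → (a : G → ℂ) g + (b : G → ℂ) g + (c : G → ℂ) g = 0

/-- the case of inertial index two -/
def RelT (a b c : IrrCharacter G) : Prop :=
  (∀ g, ¬ 3 ∣ orderOf g → (c : G → ℂ) g = (a : G → ℂ) g + (b : G → ℂ) g) ∧
    ∀ g, 3 ∣ orderOf g → (a : G → ℂ) g = (b : G → ℂ) g ∧ (c : G → ℂ) g = -(a : G → ℂ) g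

theorem fac_two {d : ℕ} (h : 0 < d) : d.factorization 3 = 2 ↔ d % 9 = 0 ∧ d % 27 ≠ 0 := by
  have h1 := Nat.prime_three.pow_dvd_iff_le_factorization (k := 2) h.ne'
  have h2 := Nat.prime_three.pow_dvd_iff_le_factorization (k := 3) h.ne'
  omega

theorem exists_tri (hM : IsPModular 3 M) (hn : Nat.card G % 27 = 0) (hn' : Nat.card G % 81 ≠ 0)
    {χ : IrrCharacter G} (h9 : dg χ % 9 = 0) (h27 : dg χ % 27 ≠ 0) :
    ∃ a b c, Tri M a b c ∧ χ ∈ [a, b, c] ∧ (RelE a b c ∨ RelT a b c) := by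
  classical
  have := hM.2.1
  have : Fact (Nat.Prime 3) := ⟨Nat.prime_three⟩
  have := Fintype.ofFinite G
  have hG : (Nat.card G).factorization 3 = 3 := by
    have h1 := Nat.prime_three.pow_dvd_iff_le_factorization (k := 3) (Nat.card_pos (α := G)).ne'
    have h2 := Nat.prime_three.pow_dvd_iff_le_factorization (k := 4) (Nat.card_pos (α := G)).ne'
    omega
  have hB := H32.isPBlock_blockOf (M := M) χ
  have hχ := H32.mem_blockOf_self (M := M) χ
  have h1 : blockDefect 3 (blockOf M (χ : G → ℂ)) = 1 := by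
    have h2 := H34.factorization_degree_add_defect (p := 3) hχ
    have h3 := (fac_two (dg_pos χ)).mpr ⟨h9, h27⟩
    have h4 := H86.height_add_two_le hM hB hχ
    rw [dg] at h3
    omega
  obtain ⟨D, hD⟩ := H32.exists_isDefectGroup 3 hB
  have h2 := H32.card_defectGroup hM hB hD
  rw [h1, pow_one] at h2
  have := isCyclic_of_prime_card h2
  have hP : D ≠ ⊥ := fun h => by simp [h] at h2
  obtain ⟨e, he⟩ := H86.exists_ctx hM hB hD
  obtain ⟨δ, ε, ζ, X, s, hs⟩ := H87.exists_std_of_cyclic he hP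
  have tri : ∀ a b c, a ≠ b → a ≠ c → b ≠ c → (∀ ψ, ψ ∈ X ∨ ψ ∈ H86.fs (H87.exc ζ) ↔
      ψ ∈ [a, b, c]) → Tri M a b c ∧ χ ∈ [a, b, c] := fun a b c k1 k2 k3 k4 => by
    have k5 : ∀ ψ, ψ ∈ blockOf M (χ : G → ℂ) ↔ ψ ∈ [a, b, c] := fun ψ => by
      rw [← k4, hs.mem_iff, H86.mem_fs]; rfl
    refine ⟨⟨k1, k2, k3, fun φ hφ ψ => ?_, fun φ hφ => (fac_two (dg_pos φ)).mp ?_⟩,
      (k5 χ).mp hχ⟩
    · rw [← k5, H32.blockOf_eq_of_sameBlock ((k5 φ).mpr hφ)]; rfl
    · have k6 := H34.factorization_degree_add_defect (p := 3) ((k5 φ).mpr hφ)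
      rw [hs.height_eq_zero hP ((k5 φ).mpr hφ)] at k6
      rw [dg]
      omega
  have reg : ∀ ψ ∈ H86.fs (H87.exc ζ), ∀ g, ¬ 3 ∣ orderOf g →
      ∑ χ ∈ X, (s χ : ℂ) * (χ : G → ℂ) g = ε * (ψ : G → ℂ) g := fun ψ hψ => by
    obtain ⟨l, hl, rfl⟩ := H86.mem_fs.mp hψ
    exact hs.reg l hl
  have sing : ∀ φ ∈ X, ∀ g, 3 ∣ orderOf g →
      s φ * (φ : G → ℂ) g + ε * ∑ ψ ∈ H86.fs (H87.exc ζ), (ψ : G → ℂ) g = 0 := fun φ hφ g hg => by
    simpa [H87.prj] using hs.prj_eq_zero hφ hg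
  have dis : ∀ ψ ∈ H86.fs (H87.exc ζ), ψ ∉ X := fun ψ hψ => hs.notMem_X (H86.mem_fs.mp hψ)
  have h3 := hs.card_exc
  rw [h2, ← hs.card, ← H86.card_fs] at h3
  have h0 : ¬ 3 ∣ orderOf (1 : G) := by simp
  have sX := hs.signX
  have sε := hs.sign
  generalize H86.fs (H87.exc ζ) = Y at *
  have h4 : Y.card = 2 ∧ X.card = 1 ∨ Y.card = 1 ∧ X.card = 2 := by
    have := Nat.le_of_dvd two_pos (Dvd.intro _ (show Y.card * X.card = 2 by omega))
    generalize Y.card = y at *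
    interval_cases y <;> omega
  rcases h4 with ⟨h4, h5⟩ | ⟨h4, h5⟩
  · obtain ⟨b, c, hbc, rfl⟩ := Finset.card_eq_two.mp h4
    obtain ⟨a, rfl⟩ := Finset.card_eq_one.mp h5
    simp only [Finset.mem_insert, Finset.mem_singleton, forall_eq_or_imp, forall_eq,
      Finset.sum_singleton, Finset.sum_pair hbc] at *
    obtain ⟨k1, k2⟩ := tri a b c (Ne.symm dis.1) (Ne.symm dis.2) hbc (by simp)
    have k3 : s a = ε := by
      have k4 := reg.1 1 h0
      rw [dg_cast, dg_cast] at k4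
      have k5 : s a * dg a = ε * dg b := by exact_mod_cast k4
      have := dg_pos a
      have := dg_pos b
      rcases sX with h | h <;> rcases sε with h' | h' <;> rw [h, h'] at k5 ⊢ <;> omega
    have k4 : (ε : ℂ) ≠ 0 := by rcases sε with h | h <;> simp [h]
    rw [k3] at reg sing
    exact ⟨a, b, c, k1, k2, Or.inl ⟨fun g hg => ⟨mul_left_cancel₀ k4 (reg.1 g hg),
      mul_left_cancel₀ k4 (reg.2 g hg)⟩, fun g hg => mul_left_cancel₀ k4 (by
        linear_combination sing g hg)⟩⟩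
  · obtain ⟨a, b, hab, rfl⟩ := Finset.card_eq_two.mp h5
    obtain ⟨c, rfl⟩ := Finset.card_eq_one.mp h4
    simp only [Finset.mem_insert, Finset.mem_singleton, forall_eq_or_imp, forall_eq,
      Finset.sum_singleton, Finset.sum_pair hab, not_or] at *
    have k4 := reg 1 h0
    rw [dg_cast, dg_cast, dg_cast] at k4
    have k5 : s a * dg a + s b * dg b = ε * dg c := by exact_mod_cast k4
    have := dg_pos a
    have := dg_pos b
    have := dg_pos c
    have k6 : (s a = ε ∧ s b = ε) ∨ (s a = ε ∧ s b = -ε) ∨ (s a = -ε ∧ s b = ε) := by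
      rcases sX with ⟨h | h, h' | h'⟩ <;> rcases sε with h'' | h'' <;>
        rw [h, h', h''] at k5 ⊢ <;> omega
    have k4 : (ε : ℂ) ≠ 0 := by rcases sε with h | h <;> simp [h]
    rcases k6 with ⟨h, h'⟩ | ⟨h, h'⟩ | ⟨h, h'⟩ <;> rw [h, h'] at reg sing <;>
      try simp only [Int.cast_neg] at reg sing
    · obtain ⟨k1, k2⟩ := tri a b c hab (Ne.symm dis.1) (Ne.symm dis.2) (by simp [or_assoc])
      exact ⟨a, b, c, k1, k2, Or.inr ⟨fun g hg => mul_left_cancel₀ k4 (by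
        linear_combination -reg g hg), fun g hg => ⟨mul_left_cancel₀ k4 (by
          linear_combination sing.1 g hg - sing.2 g hg), mul_left_cancel₀ k4 (by
          linear_combination sing.1 g hg)⟩⟩⟩
    · obtain ⟨k1, k2⟩ := tri b c a (Ne.symm dis.2) hab.symm dis.1
        (by simp [or_assoc, or_comm, or_left_comm])
      exact ⟨b, c, a, k1, k2, Or.inr ⟨fun g hg => mul_left_cancel₀ k4 (by
        linear_combination reg g hg), fun g hg => ⟨mul_left_cancel₀ k4 (by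
          linear_combination -sing.2 g hg), mul_left_cancel₀ k4 (by
          linear_combination sing.1 g hg - sing.2 g hg)⟩⟩⟩
    · obtain ⟨k1, k2⟩ := tri a c b (Ne.symm dis.1) hab dis.2
        (by simp [or_assoc, or_comm, or_left_comm])
      exact ⟨a, c, b, k1, k2, Or.inr ⟨fun g hg => mul_left_cancel₀ k4 (by
        linear_combination reg g hg), fun g hg => ⟨mul_left_cancel₀ k4 (by
          linear_combination -sing.1 g hg), mul_left_cancel₀ k4 (by
          linear_combination sing.2 g hg - sing.1 g hg)⟩⟩⟩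

/-- congruence of central characters in a block -/
theorem om_cong {q : ℕ} (hM : IsPModular q M) {χ ψ : IrrCharacter G}
    (h : SameBlock M (χ : G → ℂ) ψ) {g : G} {x y : ℤ} (hx : (χ : G → ℂ) g = x)
    (hy : (ψ : G → ℂ) g = y) : ((centralizer ({g} : Set G)).index * x / dg χ -
      (centralizer ({g} : Set G)).index * y / dg ψ) % q = 0 := by
  have := hM.2.1
  have h1 : ∀ (χ : IrrCharacter G) (a : ℤ), (χ : G → ℂ) g = a → centralChar (χ : G → ℂ) g =
      (((centralizer ({g} : Set G)).index * a / dg χ : ℤ) : ℂ) := fun χ a ha => by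
    have h0 : ((dg χ : ℤ) : ℂ) ≠ 0 := by exact_mod_cast (dg_pos χ).ne'
    rw [Int.cast_div (dg_dvd_index_mul χ ha) h0, centralChar, ha, dg_cast]
    simp
  rw [← Int.dvd_iff_emod_eq_zero, ← H32.intCast_mem_locMax_iff hM, Int.cast_sub, ← h1 χ x hx,
    ← h1 ψ y hy]
  exact h g

end Cfsg.Agent.H16
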