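import Cfsg.Agent.H16.Gen6
import Cfsg.Agent.H16.Tri3
import Cfsg.Agent.H31.Bilin

/-! Degree congruences, counting constraints and lists of values. -/

set_option autoImplicit false
set_option linter.unusedSectionVars false

namespace Cfsg.Agent.H16

open Cfsg Subgroup H35 H14
open scoped ComplexConjugate

variable {G : Type*} [Group G] [Finite G] {p : ℕ} [hp : Fact p.Prime]

theorem deg_cong (S : Setup G p) {χ : IrrCharacter G} (h : ¬ p ∣ dg χ) : ∃ (k t : ℕ) (s : ℤ),
    (s = 1 ∨ s = -1) ∧ 0 < k ∧ 0 < t ∧ (k * t ^ 2 < Nat.card S.V ∨ k = 1 ∧ t = 1) ∧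
      ((dg χ : ZMod p) = k * t * s ∨ (dg χ : ZMod p) = S.V.index * t * s) := by
  classical
  have h0 : (χ : G → ℂ) S.x ≠ 0 := fun e => h (by
    simpa [Int.natCast_dvd_natCast] using int_cong_dg χ hp.out ⟨1, by rw [S.hx, pow_one]⟩ (a := 0)
      (by simpa using e))
  have h1 := S.apply_eq_sum_psi (H5.isClassFunction_of_isIrr χ.2) 1 1
  rw [S.xp_one, OneMemClass.coe_one, OneMemClass.coe_one, mul_one] at h1
  obtain ⟨θ, -, hθ⟩ := Finset.exists_ne_zero_of_sum_ne_zero (h1 ▸ h0)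
  have h2 := left_ne_zero_of_mul hθ
  have h3 := S.card_filter_psi one_ne_zero h2
  set O := Finset.univ.filter fun θ' : IrrCharacter S.V => ∃ j, j ≠ 0 ∧ S.psi θ' χ j ≠ 0
  have h4 : ∀ θ' ∈ O, dg θ' = dg θ := fun θ' h => by
    obtain ⟨j, hj, h4⟩ := (Finset.mem_filter.mp h).2
    exact (orbit_eq S one_ne_zero hj h2 h4).1
  obtain ⟨B, -⟩ := S.exists_blk θ.2 χ
  have h5 : (S.inertia θ).index * dg θ ^ 2 < Nat.card S.V ∨
      (S.inertia θ).index = 1 ∧ dg θ = 1 := by
    by_cases ht : triv S.V ∈ O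
    · obtain ⟨j, hj, h5⟩ := (Finset.mem_filter.mp ht).2
      have h6 := S.card_filter_psi hj h5
      rw [show S.inertia (triv S.V : S.V → ℂ) = ⊤ from S.inertia_one, index_top] at h6
      exact Or.inr ⟨h3.symm.trans h6, (h4 _ ht).symm.trans dg_triv⟩
    · have := sum_dg_sq_le (insert (triv S.V) O)
      rw [Finset.sum_insert ht, dg_triv, Finset.sum_congr rfl fun θ' h => by rw [h4 θ' h],
        Finset.sum_const, smul_eq_mul, h3] at this
      exact Or.inl (by omega)
  have h6 : 0 < (S.inertia θ).index := Nat.pos_of_ne_zero index_ne_zero_of_finite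
  rcases B.mem_of_psi_ne_zero one_ne_zero h2 with h | h
  · exact ⟨_, _, _, B.δ_sign χ h, h6, dg_pos θ, h5,
      Or.inl (B.degX χ h _ _ (dg_cast χ) (dg_cast θ))⟩
  · refine ⟨_, _, _, B.ε_sign, h6, dg_pos θ, h5, Or.inr ?_⟩
    rw [B.degY χ h _ _ (dg_cast χ) (dg_cast θ), S.index_V_eq (H5.isClassFunction_of_isIrr θ.2)]
    push_cast
    ring

/-- at least `k` of the `N` members have degree `d` -/
def atl (N d k : ℕ) : Cst ℕ := Cst.le (fun x => if x = d then 0 else 1) (N - k)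

theorem holds_atl {ι : Type*} {T : Finset ι} {f : ι → ℕ} {N d k : ℕ} (hT : T.card = N)
    {L : List ι} (hL : L.Nodup) (hk : L.length = k) (h : ∀ i ∈ L, i ∈ T ∧ f i = d) :
    (atl N d k).Holds T.val f := by
  classical
  refine holds_le ?_
  have h1 := Finset.card_le_card (s := L.toFinset) (t := T.filter fun i => f i = d) fun i hi =>
    Finset.mem_filter.mpr (h i (List.mem_toFinset.mp hi))
  have h2 := Finset.card_filter_add_card_filter_not (s := T) fun i => f i = d
  rw [List.toFinset_card_of_nodup hL] at h1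
  change ∑ i ∈ T, _ ≤ _
  simp only [Finset.sum_ite, Finset.sum_const_zero, Finset.sum_const, nsmul_eq_mul]
  omega

theorem le_count {ι : Type*} {L L' : List ι} {f : ι → ℕ} {d : ℕ} (hL : L'.Nodup)
    (h : ∀ i ∈ L', i ∈ L ∧ f i = d) : L'.length ≤ (L.map f).count d := by
  rw [List.count_eq_countP, List.countP_map, List.countP_eq_length_filter]
  exact (List.subperm_of_subset hL fun i hi => by simpa using h i hi).length_le

/-- look up a value -/
def lk (l : List (ℕ × ℤ)) (d : ℕ) : ℤ := (l.lookup d).getD 0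

theorem lk_eq {ι : Type*} {L : List ι} {f : ι → ℕ} {a : ι → ℤ} {i : ι} (hi : i ∈ L) {d : ℕ}
    (hd : f i = d) (h : ∀ j ∈ L, f j = d → a j = a i) : lk (L.map fun j => (f j, a j)) d = a i := by
  induction L with
  | nil => simp at hi
  | cons j L ih =>
    by_cases e : f j = d
    · simp [lk, List.lookup, e, h j List.mem_cons_self e]
    · have := ih ((List.mem_cons.mp hi).resolve_left fun e' => e (e' ▸ hd))
        fun k hk => h k (List.mem_cons_of_mem _ hk)
      rwa [lk, List.map_cons, List.lookup, beq_false_of_ne (Ne.symm e)]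

/-- possible values -/
def vok (n c d : ℕ) (a : ℤ) : Prop := a.natAbs < d ∧ (n / c : ℕ) * a % d = 0 ∧ a ^ 2 ≤ c

instance (n c d : ℕ) (a : ℤ) : Decidable (vok n c d a) := inferInstanceAs (Decidable (_ ∧ _))

theorem vok_of [IsSimpleGroup G] (hG : commutator G = ⊤) {n : ℕ} (hn : Nat.card G = n)
    {χ : IrrCharacter G} (h : dg χ ≠ 1) {g : G} (hg : g ≠ 1) {a : ℤ} (ha : (χ : G → ℂ) g = a) :
    vok n (Nat.card (centralizer ({g} : Set G))) (dg χ) a := by
  have h1 := abs_lt.mp (abs_lt_of_simple hG (fun e => h (by rw [e, dg_triv])) hg ha)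
  have h2 := col_le g {χ} (fun _ => a) (by simpa using ha)
  rw [Finset.sum_singleton] at h2
  exact ⟨by omega, index_eq_div hn g ▸ Int.emod_eq_zero_of_dvd (dg_dvd_index_mul χ ha), h2⟩

/-- the list of possible values -/
def vals (n c m d : ℕ) : List ℤ :=
  ((List.range (2 * d / m + 1)).map fun k : ℕ => (d : ℤ) - m * k).filter fun a =>
    decide (vok n c d a)

theorem mem_vals {n c m d : ℕ} {a : ℤ} (h : vok n c d a) (hm : 0 < m) (hm' : (m : ℤ) ∣ d - a) :
    a ∈ vals n c m d := by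
  have h1 := h.1
  obtain ⟨k, hk⟩ := hm'
  obtain ⟨k, rfl⟩ := Int.eq_ofNat_of_zero_le (a := k)
    (nonneg_of_mul_nonneg_right (a := (m : ℤ)) (by omega) (by exact_mod_cast hm))
  exact List.mem_filter.mpr ⟨List.mem_map.mpr ⟨k, List.mem_range.mpr (Nat.lt_succ_of_le
    ((Nat.le_div_iff_mul_le hm).mpr (by zify; rw [mul_comm]; omega))), by omega⟩, decide_eq_true h⟩

theorem inner_alt_triv [Fintype G] {χ : IrrCharacter G}
    (hr : ∀ g, conj ((χ : G → ℂ) g) = (χ : G → ℂ) g) (h : Odd (dg χ)) :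
    classInner (fun g => ((χ : G → ℂ) g ^ 2 + (χ : G → ℂ) (g * g)) / 2) (triv G : G → ℂ) ≠ 0 ∧
    classInner (fun g => ((χ : G → ℂ) g ^ 2 - (χ : G → ℂ) (g * g)) / 2) (triv G : G → ℂ) = 0 := by
  obtain ⟨a, b, h1, h2, h3, h4⟩ := H6.exists_nat_fsIndicator (irr_char χ)
  rw [show (fun g => conj ((χ : G → ℂ) g)) = χ from funext hr, H5.classInner_irr_self χ.2] at h4
  obtain ⟨n, ρ, hρ, e⟩ := χ.2
  have h5 : dg χ = n := by
    apply Nat.cast_injective (R := ℂ)
    rw [← dg_cast, ← e]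
    simp [Representation.character]
  have h6 := H31.fsIndicator_eq_one_of_odd ρ (fun g => by
    rw [e]; exact Complex.conj_eq_iff_im.mp (hr g)) (h5 ▸ h)
  rw [e, ← H6.fsIndicator_def, h3] at h6
  have h7 : a + b = 1 := by exact_mod_cast h4.symm
  have h8 : (a : ℤ) - b = 1 := by exact_mod_cast h6
  obtain ⟨rfl, rfl⟩ : a = 1 ∧ b = 0 := by omega
  exact ⟨fun e => by simpa using h1.symm.trans e, h2.trans Nat.cast_zero⟩

namespace PB

variable {S : Setup G p} (P : PB S)

theorem dg_mem' {L : List (IrrCharacter G)} (hL : P.Z.val = L) {χ : IrrCharacter G}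
    (h : χ ∈ P.B.X ∨ χ ∈ P.B.Y) : dg χ = 1 ∨ dg χ ∈ L.map dg := by
  by_cases h1 : χ = triv G
  · exact Or.inl (h1 ▸ dg_triv)
  · obtain ⟨φ, h2, h3, -⟩ := P.exists_rep h h1
    exact Or.inr (h3 ▸ List.mem_map_of_mem ((mem_list hL).mp h2))

theorem norm_ext (hG : commutator G = ⊤) {t : G} (ht : orderOf t = 2)
    {E : List (IrrCharacter G)} (hE : E.Nodup) (hE' : ∀ χ ∈ E, ¬ (χ ∈ P.B.X ∨ χ ∈ P.B.Y)) :
    ∑ χ ∈ P.Z, mu p S.V.index (dg χ) * ival t χ ^ 2 ≤
      Nat.card (centralizer ({t} : Set G)) - 1 - (E.map fun χ => ival t χ ^ 2).sum := by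
  classical
  have hg : ¬ p ∣ orderOf t := fun h => P.p2
    ((Nat.prime_dvd_prime_iff_eq hp.out Nat.prime_two).mp (ht ▸ h))
  have h := col_le t (P.B.X ∪ P.B.Y ∪ E.toFinset) (ival t) fun χ _ =>
    (ival_inv hG (by rw [← sq, ← ht, pow_orderOf_eq_one]) χ).1
  rw [Finset.sum_union (Finset.disjoint_left.mpr fun χ h1 h2 => hE' χ (List.mem_toFinset.mp h2)
    (Finset.mem_union.mp h1)), P.sum_block _ fun χ hχ => by rw [P.ival_Y hg hχ],
    List.sum_toFinset _ hE, ival_triv] at h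
  simp only [Int.cast_id] at h
  omega

end PB

end Cfsg.Agent.H16
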