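import Cfsg.Agent.H16.M12c
import Cfsg.Agent.H16.NormForm

/-! Simple groups of order 95040 are isomorphic. -/

set_option autoImplicit false
set_option linter.unusedSectionVars false

namespace Cfsg.Agent.H16

open Cfsg Subgroup H35 H14

namespace M12

def s12L0 : Lev := ⟨nat_lit 0, nat_lit 0xfff, (.node (nat_lit 6) (.node (nat_lit 3) (.node (nat_lit 1) (.leaf (nat_lit 0xba9876543210)) (.node (nat_lit 2) (.leaf (nat_lit 0x1a987654320b)) (.leaf (nat_lit 0x1a587642903b)))) (.node (nat_lit 4) (.leaf (nat_lit 0x1a987654023b)) (.node (nat_lit 5) (.leaf (nat_lit 0x1a587640923b)) (.leaf (nat_lit 0x1a587604923b))))) (.node (nat_lit 9) (.node (nat_lit 7) (.leaf (nat_lit 0x1a587042963b)) (.node (nat_lit 8) (.leaf (nat_lit 0x1a580742963b)) (.leaf (nat_lit 0x1850a742963b)))) (.node (nat_lit 10) (.leaf (nat_lit 0x1a087654923b)) (.node (nat_lit 11) (.leaf (nat_lit 0x1058a742963b)) (.leaf (nat_lit 0xa987654321b))))))⟩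
def s12C0 : LevCert := ⟨s12L0,
    [(nat_lit 11, nat_lit 0), (nat_lit 1, nat_lit 1), (nat_lit 3, nat_lit 2), (nat_lit 9, nat_lit 3), (nat_lit 5, nat_lit 4), (nat_lit 4, nat_lit 5), (nat_lit 2, nat_lit 6), (nat_lit 6, nat_lit 7), (nat_lit 7, nat_lit 8), (nat_lit 10, nat_lit 9), (nat_lit 8, nat_lit 10)],
    [],
    [nat_lit 0x1a98765432b0, nat_lit 0xba9876541230, nat_lit 0xba3876549210, nat_lit 0xba5876943210, nat_lit 0xba9876453210, nat_lit 0xba9876523410, nat_lit 0xba9872543610, nat_lit 0xba9867543210, nat_lit 0xb798a6543210, nat_lit 0xb89a76543210]⟩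
def s12L1 : Lev := ⟨nat_lit 11, nat_lit 0xffe, (.node (nat_lit 6) (.node (nat_lit 3) (.node (nat_lit 2) (.leaf (nat_lit 0x1a98765432b0)) (.leaf (nat_lit 0x1a5876429b30))) (.node (nat_lit 4) (.leaf (nat_lit 0x1a987654b230)) (.node (nat_lit 5) (.leaf (nat_lit 0x1a58764b9230)) (.leaf (nat_lit 0x1a5876b49230))))) (.node (nat_lit 9) (.node (nat_lit 7) (.leaf (nat_lit 0x1a587b429630)) (.node (nat_lit 8) (.leaf (nat_lit 0x1a58b7429630)) (.leaf (nat_lit 0x185ba7429630)))) (.node (nat_lit 10) (.leaf (nat_lit 0x1ab876549230)) (.node (nat_lit 11) (.leaf (nat_lit 0x1b58a7429630)) (.leaf (nat_lit 0xba9876543210))))))⟩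
def s12C1 : LevCert := ⟨s12L1,
    [(nat_lit 1, nat_lit 0), (nat_lit 3, nat_lit 1), (nat_lit 9, nat_lit 2), (nat_lit 5, nat_lit 3), (nat_lit 4, nat_lit 4), (nat_lit 2, nat_lit 5), (nat_lit 6, nat_lit 6), (nat_lit 7, nat_lit 7), (nat_lit 10, nat_lit 8), (nat_lit 8, nat_lit 9)],
    [],
    [nat_lit 0xba9876541230, nat_lit 0xba3876549210, nat_lit 0xba5876943210, nat_lit 0xba9876453210, nat_lit 0xba9876523410, nat_lit 0xba9872543610, nat_lit 0xba9867543210, nat_lit 0xb798a6543210, nat_lit 0xb89a76543210]⟩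
def s12L2 : Lev := ⟨nat_lit 1, nat_lit 0x7fe, (.node (nat_lit 6) (.node (nat_lit 3) (.node (nat_lit 2) (.leaf (nat_lit 0xba9876543210)) (.leaf (nat_lit 0xba5876429130))) (.node (nat_lit 4) (.leaf (nat_lit 0xba9876541230)) (.node (nat_lit 5) (.leaf (nat_lit 0xba5876419230)) (.leaf (nat_lit 0xba5876149230))))) (.node (nat_lit 8) (.node (nat_lit 7) (.leaf (nat_lit 0xba5871429630)) (.leaf (nat_lit 0xba5817429630))) (.node (nat_lit 9) (.leaf (nat_lit 0xb851a7429630)) (.node (nat_lit 10) (.leaf (nat_lit 0xba1876549230)) (.leaf (nat_lit 0xb158a7429630))))))⟩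
def s12C2 : LevCert := ⟨s12L2,
    [(nat_lit 3, nat_lit 0), (nat_lit 9, nat_lit 1), (nat_lit 5, nat_lit 2), (nat_lit 4, nat_lit 3), (nat_lit 2, nat_lit 4), (nat_lit 6, nat_lit 5), (nat_lit 7, nat_lit 6), (nat_lit 10, nat_lit 7), (nat_lit 8, nat_lit 8)],
    [],
    [nat_lit 0xba3876549210, nat_lit 0xba5876943210, nat_lit 0xba9876453210, nat_lit 0xba9876523410, nat_lit 0xba9872543610, nat_lit 0xba9867543210, nat_lit 0xb798a6543210, nat_lit 0xb89a76543210]⟩
def s12L3 : Lev := ⟨nat_lit 3, nat_lit 0x7fc, (.node (nat_lit 6) (.node (nat_lit 4) (.node (nat_lit 3) (.leaf (nat_lit 0xba5876429310)) (.leaf (nat_lit 0xba9876543210))) (.node (nat_lit 5) (.leaf (nat_lit 0xba5876439210)) (.leaf (nat_lit 0xba5876349210)))) (.node (nat_lit 8) (.node (nat_lit 7) (.leaf (nat_lit 0xba5873429610)) (.leaf (nat_lit 0xba5837429610))) (.node (nat_lit 9) (.leaf (nat_lit 0xb853a7429610)) (.node (nat_lit 10) (.leaf (nat_lit 0xba3876549210))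 (.leaf (nat_lit 0xb358a7429610))))))⟩
def s12C3 : LevCert := ⟨s12L3,
    [(nat_lit 9, nat_lit 0), (nat_lit 5, nat_lit 1), (nat_lit 4, nat_lit 2), (nat_lit 2, nat_lit 3), (nat_lit 6, nat_lit 4), (nat_lit 7, nat_lit 5), (nat_lit 10, nat_lit 6), (nat_lit 8, nat_lit 7)],
    [],
    [nat_lit 0xba5876943210, nat_lit 0xba9876453210, nat_lit 0xba9876523410, nat_lit 0xba9872543610, nat_lit 0xba9867543210, nat_lit 0xb798a6543210, nat_lit 0xb89a76543210]⟩
def s12L4 : Lev := ⟨nat_lit 9, nat_lit 0x7f4, (.node (nat_lit 7) (.node (nat_lit 5) (.node (nat_lit 4) (.leaf (nat_lit 0xba5876423910)) (.leaf (nat_lit 0xba5876493210))) (.node (nat_lit 6) (.leaf (nat_lit 0xba5876943210)) (.leaf (nat_lit 0xba5879423610)))) (.node (nat_lit 9) (.node (nat_lit 8) (.leaf (nat_lit 0xba5897423610)) (.leaf (nat_lit 0xb859a7423610))) (.node (nat_lit 10) (.leaf (nat_lit 0xba9876543210)) (.leaf (nat_lit 0xb958a7423610)))))⟩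
def s12C4 : LevCert := ⟨s12L4,
    [(nat_lit 5, nat_lit 0), (nat_lit 4, nat_lit 1), (nat_lit 2, nat_lit 2), (nat_lit 6, nat_lit 3), (nat_lit 7, nat_lit 4), (nat_lit 10, nat_lit 5), (nat_lit 8, nat_lit 6)],
    [],
    [nat_lit 0xba9876453210, nat_lit 0xba9876523410, nat_lit 0xba9872543610, nat_lit 0xba9867543210, nat_lit 0xb798a6543210, nat_lit 0xb89a76543210]⟩
def s12L5 : Lev := ⟨nat_lit 5, nat_lit 0x5f4, (.node (nat_lit 6) (.node (nat_lit 4) (.leaf (nat_lit 0xba9876423510)) (.node (nat_lit 5) (.leaf (nat_lit 0xba9876453210)) (.leaf (nat_lit 0xba9876543210)))) (.node (nat_lit 8) (.node (nat_lit 7) (.leaf (nat_lit 0xba9875423610)) (.leaf (nat_lit 0xba9857423610))) (.node (nat_lit 10) (.leaf (nat_lit 0xb895a7423610)) (.leaf (nat_lit 0xb598a7423610)))))⟩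
def s12C5 : LevCert := ⟨s12L5,
    [(nat_lit 4, nat_lit 0), (nat_lit 2, nat_lit 1), (nat_lit 6, nat_lit 2), (nat_lit 7, nat_lit 3), (nat_lit 10, nat_lit 4), (nat_lit 8, nat_lit 5)],
    [],
    [nat_lit 0xba9876523410, nat_lit 0xba9872543610, nat_lit 0xba9867543210, nat_lit 0xb798a6543210, nat_lit 0xb89a76543210]⟩
def s12L6 : Lev := ⟨nat_lit 4, nat_lit 0x5d4, (.node (nat_lit 7) (.node (nat_lit 4) (.leaf (nat_lit 0xba9876523410)) (.node (nat_lit 6) (.leaf (nat_lit 0xba9876543210)) (.leaf (nat_lit 0xba9874523610)))) (.node (nat_lit 8) (.leaf (nat_lit 0xba9847523610)) (.node (nat_lit 10) (.leaf (nat_lit 0xb894a7523610)) (.leaf (nat_lit 0xb498a7523610)))))⟩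
def s12C6 : LevCert := ⟨s12L6,
    [(nat_lit 2, nat_lit 0), (nat_lit 6, nat_lit 1), (nat_lit 7, nat_lit 2), (nat_lit 10, nat_lit 3), (nat_lit 8, nat_lit 4)],
    [],
    [nat_lit 0xba9872543610, nat_lit 0xba9867543210, nat_lit 0xb798a6543210, nat_lit 0xb89a76543210]⟩
def s12L7 : Lev := ⟨nat_lit 2, nat_lit 0x5c4, (.node (nat_lit 7) (.node (nat_lit 6) (.leaf (nat_lit 0xba9876543210)) (.leaf (nat_lit 0xba9872543610))) (.node (nat_lit 8) (.leaf (nat_lit 0xba9827543610)) (.node (nat_lit 10) (.leaf (nat_lit 0xb892a7543610)) (.leaf (nat_lit 0xb298a7543610)))))⟩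
def s12C7 : LevCert := ⟨s12L7,
    [(nat_lit 6, nat_lit 0), (nat_lit 7, nat_lit 1), (nat_lit 10, nat_lit 2), (nat_lit 8, nat_lit 3)],
    [],
    [nat_lit 0xba9867543210, nat_lit 0xb798a6543210, nat_lit 0xb89a76543210]⟩
def s12L8 : Lev := ⟨nat_lit 6, nat_lit 0x5c0, (.node (nat_lit 8) (.node (nat_lit 7) (.leaf (nat_lit 0xba9876543210)) (.leaf (nat_lit 0xba9867543210))) (.node (nat_lit 10) (.leaf (nat_lit 0xb896a7543210)) (.leaf (nat_lit 0xb698a7543210))))⟩
def s12C8 : LevCert := ⟨s12L8,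
    [(nat_lit 7, nat_lit 0), (nat_lit 10, nat_lit 1), (nat_lit 8, nat_lit 2)],
    [],
    [nat_lit 0xb798a6543210, nat_lit 0xb89a76543210]⟩
def s12L9 : Lev := ⟨nat_lit 7, nat_lit 0x580, (.node (nat_lit 8) (.leaf (nat_lit 0xba9876543210)) (.node (nat_lit 10) (.leaf (nat_lit 0xb897a6543210)) (.leaf (nat_lit 0xb798a6543210))))⟩
def s12C9 : LevCert := ⟨s12L9,
    [(nat_lit 10, nat_lit 0), (nat_lit 8, nat_lit 1)],
    [],
    [nat_lit 0xb89a76543210]⟩
def s12L10 : Lev := ⟨nat_lit 10, nat_lit 0x500, (.node (nat_lit 10) (.leaf (nat_lit 0xb89a76543210)) (.leaf (nat_lit 0xba9876543210)))⟩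
def s12C10 : LevCert := ⟨s12L10,
    [(nat_lit 8, nat_lit 0)],
    [],
    []⟩
def s12 : List LevCert := [s12C0, s12C1, s12C2, s12C3, s12C4, s12C5, s12C6, s12C7, s12C8, s12C9, s12C10]
def s12G : List ℕ := [nat_lit 0xa987654321b, nat_lit 0x1a98765432b0, nat_lit 0xba9876541230, nat_lit 0xba3876549210, nat_lit 0xba5876943210, nat_lit 0xba9876453210, nat_lit 0xba9876523410, nat_lit 0xba9872543610, nat_lit 0xba9867543210, nat_lit 0xb798a6543210, nat_lit 0xb89a76543210]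
def g12L0 : Lev := ⟨nat_lit 0, nat_lit 0xfff, (.node (nat_lit 6) (.node (nat_lit 3) (.node (nat_lit 1) (.leaf (nat_lit 0xba9876543210)) (.node (nat_lit 2) (.leaf (nat_lit 0x1a364278950b)) (.leaf (nat_lit 0x1b49a2537068)))) (.node (nat_lit 4) (.leaf (nat_lit 0x149a2537068b)) (.node (nat_lit 5) (.leaf (nat_lit 0x426975a0183b)) (.leaf (nat_lit 0xb419630852a7))))) (.node (nat_lit 9) (.node (nat_lit 7) (.leaf (nat_lit 0xb19630852a74)) (.node (nat_lit 8) (.leaf (nat_lit 0xb9630852a741)) (.leaf (nat_lit 0xb210a9876543)))) (.node (nat_lit 10) (.leaf (nat_lit 0xb10a98765432)) (.node (nat_lit 11) (.leaf (nat_lit 0xb0a987654321)) (.leaf (nat_lit 0x3891426a57b))))))⟩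
def g12C0 : LevCert := ⟨g12L0,
    [(nat_lit 10, nat_lit 0), (nat_lit 11, nat_lit 2), (nat_lit 9, nat_lit 0), (nat_lit 7, nat_lit 1), (nat_lit 3, nat_lit 2), (nat_lit 8, nat_lit 0), (nat_lit 6, nat_lit 0), (nat_lit 1, nat_lit 2), (nat_lit 2, nat_lit 0), (nat_lit 5, nat_lit 0), (nat_lit 4, nat_lit 2)],
    [[nat_lit 4, nat_lit 2, nat_lit 4, nat_lit 4, nat_lit 4, nat_lit 4, nat_lit 4, nat_lit 2, nat_lit 2], [nat_lit 2, nat_lit 4, nat_lit 2, nat_lit 2, nat_lit 2, nat_lit 6, nat_lit 4, nat_lit 2, nat_lit 2]],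
    [nat_lit 0xb61728394a50, nat_lit 0xa7b453826910]⟩
def g12L1 : Lev := ⟨nat_lit 1, nat_lit 0xffe, (.node (nat_lit 6) (.node (nat_lit 3) (.node (nat_lit 2) (.leaf (nat_lit 0xba9876543210)) (.leaf (nat_lit 0x62b9347a8150))) (.node (nat_lit 4) (.leaf (nat_lit 0xb73a62951840)) (.node (nat_lit 5) (.leaf (nat_lit 0xb852a7419630)) (.leaf (nat_lit 0xb2468a135790))))) (.node (nat_lit 9) (.node (nat_lit 7) (.leaf (nat_lit 0x76b591a82340)) (.node (nat_lit 8) (.leaf (nat_lit 0x6453198ba270)) (.leaf (nat_lit 0x8ab149267530)))) (.node (nat_lit 10) (.leaf (nat_lit 0xb61728394a50)) (.node (nat_lit 11) (.leaf (nat_lit 0x416b8a329570)) (.leaf (nat_lit 0x184239b5a670))))))⟩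
def g12C1 : LevCert := ⟨g12L1,
    [(nat_lit 9, nat_lit 0), (nat_lit 4, nat_lit 0), (nat_lit 2, nat_lit 1), (nat_lit 3, nat_lit 0), (nat_lit 8, nat_lit 1), (nat_lit 7, nat_lit 0), (nat_lit 5, nat_lit 0), (nat_lit 6, nat_lit 1), (nat_lit 10, nat_lit 1), (nat_lit 11, nat_lit 1)],
    [[nat_lit 2], [nat_lit 2, nat_lit 2, nat_lit 2, nat_lit 4, nat_lit 4, nat_lit 2, nat_lit 2]],
    [nat_lit 0xa7b453826910, nat_lit 0x685b9a347210]⟩
def g12L2 : Lev := ⟨nat_lit 2, nat_lit 0xffc, (.node (nat_lit 7) (.node (nat_lit 4) (.node (nat_lit 3) (.leaf (nat_lit 0xba9876543210)) (.leaf (nat_lit 0x6b98543a2710))) (.node (nat_lit 5) (.leaf (nat_lit 0xa7b453826910)) (.node (nat_lit 6) (.leaf (nat_lit 0x5879432b6a10)) (.leaf (nat_lit 0x57364289ab10))))) (.node (nat_lit 9) (.node (nat_lit 8) (.leaf (nat_lit 0x845b269a3710)) (.leaf (nat_lit 0x75a286493b10))) (.node (nat_lit 10) (.leaf (nat_lit 0x3925786b4a10)) (.node (nat_lit 11) (.leaf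 (nat_lit 0x6247a5398b10)) (.leaf (nat_lit 0x2a69387b5410))))))⟩
def g12C2 : LevCert := ⟨g12L2,
    [(nat_lit 4, nat_lit 0), (nat_lit 8, nat_lit 0), (nat_lit 5, nat_lit 0), (nat_lit 10, nat_lit 1), (nat_lit 7, nat_lit 0), (nat_lit 9, nat_lit 1), (nat_lit 11, nat_lit 0), (nat_lit 6, nat_lit 1), (nat_lit 3, nat_lit 1)],
    [[nat_lit 0, nat_lit 0, nat_lit 2, nat_lit 0, nat_lit 2, nat_lit 0, nat_lit 2, nat_lit 0], [nat_lit 2, nat_lit 2, nat_lit 2, nat_lit 4, nat_lit 2, nat_lit 4, nat_lit 4]],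
    [nat_lit 0xb834a5976210, nat_lit 0x79845b6a3210]⟩
def g12L3 : Lev := ⟨nat_lit 3, nat_lit 0xff8, (.node (nat_lit 7) (.node (nat_lit 5) (.node (nat_lit 4) (.leaf (nat_lit 0xba9876543210)) (.leaf (nat_lit 0x94785ab36210))) (.node (nat_lit 6) (.leaf (nat_lit 0xb467893a5210)) (.leaf (nat_lit 0xb75a43689210)))) (.node (nat_lit 9) (.node (nat_lit 8) (.leaf (nat_lit 0x867a3b945210)) (.leaf (nat_lit 0x98634b75a210))) (.node (nat_lit 10) (.leaf (nat_lit 0xb834a5976210)) (.node (nat_lit 11) (.leaf (nat_lit 0xa3479b586210)) (.leaf (nat_lit 0x37a498b65210))))))⟩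
def g12C3 : LevCert := ⟨g12L3,
    [(nat_lit 9, nat_lit 0), (nat_lit 5, nat_lit 0), (nat_lit 10, nat_lit 1), (nat_lit 6, nat_lit 0), (nat_lit 7, nat_lit 1), (nat_lit 4, nat_lit 1), (nat_lit 11, nat_lit 1), (nat_lit 8, nat_lit 0)],
    [[nat_lit 0, nat_lit 2, nat_lit 2, nat_lit 0, nat_lit 0, nat_lit 0, nat_lit 2, nat_lit 2, nat_lit 0], [nat_lit 2, nat_lit 2, nat_lit 4, nat_lit 4, nat_lit 4, nat_lit 4, nat_lit 2, nat_lit 2, nat_lit 4]],
    [nat_lit 0xa57b49863210, nat_lit 0x79845b6a3210]⟩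
def g12L4 : Lev := ⟨nat_lit 4, nat_lit 0xff0, (.node (nat_lit 8) (.node (nat_lit 6) (.node (nat_lit 5) (.leaf (nat_lit 0xba9876543210)) (.leaf (nat_lit 0x9657a84b3210))) (.node (nat_lit 7) (.leaf (nat_lit 0x8b6594a73210)) (.leaf (nat_lit 0xa57b49863210)))) (.node (nat_lit 10) (.node (nat_lit 9) (.leaf (nat_lit 0x79845b6a3210)) (.leaf (nat_lit 0x584a67b93210))) (.node (nat_lit 11) (.leaf (nat_lit 0x64a9b5783210)) (.leaf (nat_lit 0x47b68a953210)))))⟩
def g12C4 : LevCert := ⟨g12L4,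
    [(nat_lit 7, nat_lit 0), (nat_lit 8, nat_lit 1), (nat_lit 9, nat_lit 0), (nat_lit 11, nat_lit 1), (nat_lit 5, nat_lit 0), (nat_lit 6, nat_lit 0), (nat_lit 10, nat_lit 1)],
    [],
    []⟩
def g12 : List LevCert := [g12C0, g12C1, g12C2, g12C3, g12C4]
def g12L : List Lev := [g12L0, g12L1, g12L2, g12L3, g12L4]
def g12G : List ℕ := [nat_lit 0xb0a987654321, nat_lit 0xb852a7419630, nat_lit 0x3891426a57b]
def g12X : ℕ := nat_lit 0xb0a987654321
def g12Y : ℕ := nat_lit 0xb852a7419630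
def g12Cs : List ℕ := [nat_lit 0xba9876543210, nat_lit 0xb123456789a0]
def g12Ws : List (List ℕ) := [[nat_lit 0, nat_lit 3, nat_lit 0, nat_lit 2, nat_lit 1, nat_lit 2], [nat_lit 0, nat_lit 3, nat_lit 0, nat_lit 2, nat_lit 2, nat_lit 2, nat_lit 1, nat_lit 2], [nat_lit 0, nat_lit 3, nat_lit 3, nat_lit 3, nat_lit 0, nat_lit 2, nat_lit 1, nat_lit 2], [nat_lit 3, nat_lit 2, nat_lit 2, nat_lit 0, nat_lit 5, nat_lit 3, nat_lit 1], [nat_lit 2, nat_lit 5, nat_lit 0, nat_lit 2, nat_lit 1, nat_lit 2, nat_lit 2, nat_lit 0]]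
def g12Ws' : List (List ℕ) := [[nat_lit 3]]
def g12Bad : ℕ := nat_lit 128

/-- the numbering of twelve points -/
abbrev E12 : Enc (Fin 12) 12 4 16 := finEnc 12 4 16 rfl (by decide)

theorem s12_chain : E12.IsChain (s12.map LevCert.L) ⊤ :=
  isChain_top (gens := s12G) (by decide +kernel) (by decide +kernel) (by decide +kernel)

/-- the candidates: involutions not inverting `x` -/
noncomputable def g12Pre (T : ℕ) : Bool :=
  !Nat.beq T (idP 4 12) && Nat.beq (comp 4 16 12 T T) (idP 4 12) &&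
    !Nat.beq (comp 4 16 12 (comp 4 16 12 T g12X) (comp 4 16 12 T g12X)) (idP 4 12)

theorem g12_search : allI 4 16 12 (s12.map LevCert.L) 0 [(g12Y, g12Y)] []
    (candOK 4 16 12 g12Bad g12Pre g12Ws g12Ws' g12Cs g12G [g12X, g12Y]) = true := by
  decide +kernel

variable {G : Type*} [Group G] [Finite G] [IsSimpleGroup G] (hc : Nat.card G = 95040)
include hc

theorem iso_grp : Nonempty (G ≃* E12.grp g12G) := by
  obtain ⟨H, hH⟩ := exists_index_twelve hc
  have := H36.faithful_quotient_of_simple (H36.ne_top_of_index (H := H) (by omega))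
  obtain ⟨S⟩ := setup11 hc
  obtain ⟨P⟩ := nonempty_PB (perfect hc) S
  obtain ⟨hV, hi, -⟩ := block11 hc P
  obtain ⟨y, hy⟩ := exists_conj_pow S (j := 3) (by rw [hi]; norm_num)
  have h1 : Nat.card S.K = 5 := by rw [← S.V.card_mul_index, hV, hi]
  have hy5 : orderOf (y : G) = 5 := by
    have h2 : y ^ 5 = 1 := by rw [← h1]; exact pow_card_eq_one'
    refine orderOf_eq_prime (congrArg Subtype.val h2) fun h => ?_
    rw [h, one_mul, inv_one, mul_one] at hy
    have := pow_inj_mod.1 ((pow_one S.x).trans hy)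
    rw [S.hx] at this
    omega
  obtain ⟨T, hT⟩ := exists_setup (p := 5) hy5 (by rw [hc]; norm_num)
  obtain ⟨w, D⟩ := exists_dat hc T
  rw [hT] at D
  generalize ((w : T.K) : G) = w at D
  have ww : w * w = 1 := by rw [← sq, ← D.ow, pow_orderOf_eq_one]
  obtain ⟨φ, hφ, h1', h2⟩ := exists_hom_nf_one (X := G ⧸ H) S.hx hy (by norm_num) hH (by norm_num)
    le_rfl (by norm_num) (k := 4) (M := 16) rfl (by decide)
  have hX : E12.pk (φ S.x) = g12X := h1'.trans (by decide +kernel)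
  refine iso_of_hom φ hφ hX (h2.trans (by decide +kernel)) (t := w) (j := 1)
    (by rw [← D.cm.eq, mul_inv_cancel_right, pow_one]) (by decide +kernel) s12_chain g12_search
    (bad_of_list [7] (by decide +kernel) (by decide +kernel) ?_) ?_ (by decide +kernel)
    (cs := g12) (by decide +kernel) (hc.trans_le (by decide +kernel))
  · simp only [List.forall_mem_cons, List.not_mem_nil, IsEmpty.forall_iff, implies_true, and_true]
    refine ⟨by norm_num, fun g h => ?_⟩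
    have := h.trans (orderOf_dvd_natCard g)
    rw [hc] at this
    norm_num at this
  · simp only [g12Pre, ← hX, ← E12.pk_mul, ← E12.pk_one, Bool.and_eq_true, Bool.not_eq_true',
      ← Bool.not_eq_true, beq_iff, E12.pk_inj, ← map_mul, map_eq_one_iff φ hφ]
    refine ⟨⟨fun e => by simpa [e] using D.ow, ww⟩, fun e => ?_⟩
    have h3 : w ∈ normalizer ((zpowers S.x : Subgroup G) : Set G) :=
      mem_normalizer_zpowers_iff.mpr (by
        rw [inv_eq_of_mul_eq_one_right ww, eq_inv_of_mul_eq_one_left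
          (show w * S.x * w * S.x = 1 by rwa [← mul_assoc] at e)]
        exact inv_mem (mem_zpowers _))
    have := Subgroup.orderOf_dvd_natCard _ h3
    rw [S.card_normalizer, h1, D.ow] at this
    norm_num at this

/-- Two simple groups of order 95040 are isomorphic. -/
theorem unique {G' : Type*} [Group G'] [Finite G'] [IsSimpleGroup G'] (hc' : Nat.card G' = 95040) :
    Nonempty (G ≃* G') :=
  let ⟨e⟩ := iso_grp hc; let ⟨e'⟩ := iso_grp hc'; ⟨e.trans e'.symm⟩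

end M12

end Cfsg.Agent.H16
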