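import Cfsg.Agent.H16.NormForm2

/-! Certificates for the simple group of order 443520. -/

set_option autoImplicit false

namespace Cfsg.Agent.H16

open Cfsg Subgroup H14

namespace M22

def s22L0 : Lev := ⟨nat_lit 0, nat_lit 0x3fffff, (.node (nat_lit 11) (.node (nat_lit 5) (.node (nat_lit 2) (.node (nat_lit 1) (.leaf (nat_lit 0x2b49ca307b9ac5a928398a418820)) (.leaf (nat_lit 0x2b49ca307b9ac0a928398a41880b))) (.node (nat_lit 3) (.leaf (nat_lit 0x2b49ca307b9ac0a8a8398824806b)) (.node (nat_lit 4) (.leaf (nat_lit 0x2b49ca307b9ac0a928398a40086b)) (.leaf (nat_lit 0x2b49ca307b9ac0a8a8398804886b))))) (.node (nat_lit 8) (.node (nat_lit 6) (.leaf (nat_lit 0x2b49ca307b9ac0a8a8398044886b)) (.node (nat_lit 7) (.leaf (nat_lit 0x2b49ca307b9ac0a8a8380824986b)) (.leaf (nat_lit 0x2b49ca307b9ac0a8a801c824986b)))) (.node (nat_lit 9) (.leaf (nat_lit 0x2b49ca307b9ac0a0a051c824986b)) (.node (nat_lit 10) (.leaf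 (nat_lit 0x2b49ca307b9ac0a808398a44886b)) (.leaf (nat_lit 0x2b49ca307b9ac080a851c824986b)))))) (.node (nat_lit 16) (.node (nat_lit 13) (.node (nat_lit 12) (.leaf (nat_lit 0x2b49ca307b9ac02928398a41882b)) (.leaf (nat_lit 0x2b49ca307b9a00a0ac51c824986b))) (.node (nat_lit 14) (.leaf (nat_lit 0x2b09ca2f6d00e0a0ac51c824986b)) (.node (nat_lit 15) (.leaf (nat_lit 0x2b49ca30781ae0a0ac51c824986b)) (.leaf (nat_lit 0x2b09ca2f051ae0a0ac51c824986b))))) (.node (nat_lit 19) (.node (nat_lit 17) (.leaf (nat_lit 0x2b09ca207d1ae0a0ac51c824986b)) (.node (nat_lit 18) (.leaf (nat_lit 0x2b09c80f6d22e0a0ac51c824986b)) (.leaf (nat_lit 0x2b09824f6d22e0a0ac51c824986b)))) (.node (nat_lit 20) (.leaf (nat_lit 0x2700564f6d22e0a0ac51c824986b)) (.node (nat_lit 21) (.leaf (nat_lit 0x2a09ca307d1ae0a0ac51c824986b)) (.leaf (nat_lit 0x109d64f6d22e0a0ac51c824986b)))))))⟩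
def s22C0 : LevCert := ⟨s22L0,
    [(nat_lit 11, nat_lit 0), (nat_lit 1, nat_lit 1), (nat_lit 3, nat_lit 2), (nat_lit 9, nat_lit 3), (nat_lit 5, nat_lit 4), (nat_lit 4, nat_lit 5), (nat_lit 2, nat_lit 6), (nat_lit 6, nat_lit 7), (nat_lit 7, nat_lit 8), (nat_lit 10, nat_lit 9), (nat_lit 8, nat_lit 10), (nat_lit 12, nat_lit 11), (nat_lit 14, nat_lit 12), (nat_lit 20, nat_lit 13), (nat_lit 16, nat_lit 14), (nat_lit 15, nat_lit 15), (nat_lit 13, nat_lit 16), (nat_lit 17, nat_lit 17), (nat_lit 18, nat_lit 18), (nat_lit 21, nat_lit 19), (nat_lit 19, nat_lit 20)],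
    [],
    [nat_lit 0x2b49ca307b9ac0a928398a418960, nat_lit 0x2b49ca307b9ac5a928398a408860, nat_lit 0x2b49ca307b9ac5a868398a448820, nat_lit 0x2b49ca307b9ac5a8a83992418820, nat_lit 0x2b49ca307b9ac5a9283988518820, nat_lit 0x2b49ca307b9ac5a928398a219020, nat_lit 0x2b49ca307b9ac5a928388a419820, nat_lit 0x2b49ca307b9ac5a92831ca418820, nat_lit 0x2b49ca307b9ac59d28518a418820, nat_lit 0x2b49ca307b9ac5a12a398a418820, nat_lit 0x2b49ca307b9a85a92c398a418820, nat_lit 0x2b49ca307b1ae5a928398a418820, nat_lit 0x2ae9ca307d1ac5a928398a418820, nat_lit 0x2b09ca347b9ac5a928398a418820, nat_lit 0x2b49ca2f839ac5a928398a418820, nat_lit 0x2b49ca306b9ec5a928398a418820, nat_lit 0x2b49c9b07ba2c5a928398a418820, nat_lit 0x2b49c6507b9ac5a928398a418820, nat_lit 0x2549d6307b9ac5a928398a418820, nat_lit 0x274aca307b9ac5a928398a418820]⟩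
def s22L1 : Lev := ⟨nat_lit 11, nat_lit 0x3ffffe, (.node (nat_lit 11) (.node (nat_lit 6) (.node (nat_lit 3) (.node (nat_lit 2) (.leaf (nat_lit 0x2b49ca307b9ac0a928398a418960)) (.leaf (nat_lit 0x2b49ca307b9ac0a8a8398824ac60))) (.node (nat_lit 4) (.leaf (nat_lit 0x2b49ca307b9ac0a928398a458860)) (.node (nat_lit 5) (.leaf (nat_lit 0x2b49ca307b9ac0a8a83988b48860)) (.leaf (nat_lit 0x2b49ca307b9ac0a8a83996448860))))) (.node (nat_lit 8) (.node (nat_lit 7) (.leaf (nat_lit 0x2b49ca307b9ac0a8a83ac8249860)) (.leaf (nat_lit 0x2b49ca307b9ac0a8a859c8249860))) (.node (nat_lit 9) (.leaf (nat_lit 0x2b49ca307b9ac0a0ab51c8249860)) (.node (nat_lit 10) (.leaf (nat_lit 0x2b49ca307b9ac0a968398a448860)) (.leaf (nat_lit 0x2b49ca307b9ac0aca851c8249860)))))) (.node (nat_lit 16) (.node (nat_lit 13) (.node (nat_lit 12) (.leaf (nat_lit 0x2b49ca307b9ac5a928398a418820)) (.leaf (nat_lit 0x2b49ca307b9ab0a0ac51c8249860))) (.node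 (nat_lit 14) (.leaf (nat_lit 0x2b09ca2f6d16e0a0ac51c8249860)) (.node (nat_lit 15) (.leaf (nat_lit 0x2b49ca307adae0a0ac51c8249860)) (.leaf (nat_lit 0x2b09ca2f5d1ae0a0ac51c8249860))))) (.node (nat_lit 19) (.node (nat_lit 17) (.leaf (nat_lit 0x2b09ca2b7d1ae0a0ac51c8249860)) (.node (nat_lit 18) (.leaf (nat_lit 0x2b09c96f6d22e0a0ac51c8249860)) (.leaf (nat_lit 0x2b09ae4f6d22e0a0ac51c8249860)))) (.node (nat_lit 20) (.leaf (nat_lit 0x2705d64f6d22e0a0ac51c8249860)) (.node (nat_lit 21) (.leaf (nat_lit 0x2ab9ca307d1ae0a0ac51c8249860)) (.leaf (nat_lit 0x1709d64f6d22e0a0ac51c8249860)))))))⟩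
def s22C1 : LevCert := ⟨s22L1,
    [(nat_lit 1, nat_lit 0), (nat_lit 3, nat_lit 1), (nat_lit 9, nat_lit 2), (nat_lit 5, nat_lit 3), (nat_lit 4, nat_lit 4), (nat_lit 2, nat_lit 5), (nat_lit 6, nat_lit 6), (nat_lit 7, nat_lit 7), (nat_lit 10, nat_lit 8), (nat_lit 8, nat_lit 9), (nat_lit 12, nat_lit 10), (nat_lit 14, nat_lit 11), (nat_lit 20, nat_lit 12), (nat_lit 16, nat_lit 13), (nat_lit 15, nat_lit 14), (nat_lit 13, nat_lit 15), (nat_lit 17, nat_lit 16), (nat_lit 18, nat_lit 17), (nat_lit 21, nat_lit 18), (nat_lit 19, nat_lit 19)],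
    [],
    [nat_lit 0x2b49ca307b9ac5a928398a408860, nat_lit 0x2b49ca307b9ac5a868398a448820, nat_lit 0x2b49ca307b9ac5a8a83992418820, nat_lit 0x2b49ca307b9ac5a9283988518820, nat_lit 0x2b49ca307b9ac5a928398a219020, nat_lit 0x2b49ca307b9ac5a928388a419820, nat_lit 0x2b49ca307b9ac5a92831ca418820, nat_lit 0x2b49ca307b9ac59d28518a418820, nat_lit 0x2b49ca307b9ac5a12a398a418820, nat_lit 0x2b49ca307b9a85a92c398a418820, nat_lit 0x2b49ca307b1ae5a928398a418820, nat_lit 0x2ae9ca307d1ac5a928398a418820, nat_lit 0x2b09ca347b9ac5a928398a418820, nat_lit 0x2b49ca2f839ac5a928398a418820, nat_lit 0x2b49ca306b9ec5a928398a418820, nat_lit 0x2b49c9b07ba2c5a928398a418820, nat_lit 0x2b49c6507b9ac5a928398a418820, nat_lit 0x2549d6307b9ac5a928398a418820, nat_lit 0x274aca307b9ac5a928398a418820]⟩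
def s22L2 : Lev := ⟨nat_lit 1, nat_lit 0x3ff7fe, (.node (nat_lit 12) (.node (nat_lit 6) (.node (nat_lit 3) (.node (nat_lit 2) (.leaf (nat_lit 0x2b49ca307b9ac5a928398a418820)) (.leaf (nat_lit 0x2b49ca307b9ac5a8a83988248460))) (.node (nat_lit 4) (.leaf (nat_lit 0x2b49ca307b9ac5a928398a408860)) (.node (nat_lit 5) (.leaf (nat_lit 0x2b49ca307b9ac5a8a83988148860)) (.leaf (nat_lit 0x2b49ca307b9ac5a8a83982448860))))) (.node (nat_lit 8) (.node (nat_lit 7) (.leaf (nat_lit 0x2b49ca307b9ac5a8a83848249860)) (.leaf (nat_lit 0x2b49ca307b9ac5a8a809c8249860))) (.node (nat_lit 9) (.leaf (nat_lit 0x2b49ca307b9ac5a0a151c8249860)) (.node (nat_lit 10) (.leaf (nat_lit 0x2b49ca307b9ac5a828398a448860)) (.leaf (nat_lit 0x2b49ca307b9ac584a851c8249860)))))) (.node (nat_lit 17) (.node (nat_lit 14) (.node (nat_lit 13) (.leaf (nat_lit 0x2b49ca307b9a15a0ac51c8249860)) (.leaf (nat_lit 0x2b09ca2f6d02e5a0ac51c8249860))) (.node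 (nat_lit 15) (.leaf (nat_lit 0x2b49ca30785ae5a0ac51c8249860)) (.node (nat_lit 16) (.leaf (nat_lit 0x2b09ca2f0d1ae5a0ac51c8249860)) (.leaf (nat_lit 0x2b09ca217d1ae5a0ac51c8249860))))) (.node (nat_lit 19) (.node (nat_lit 18) (.leaf (nat_lit 0x2b09c82f6d22e5a0ac51c8249860)) (.leaf (nat_lit 0x2b09864f6d22e5a0ac51c8249860))) (.node (nat_lit 20) (.leaf (nat_lit 0x2700d64f6d22e5a0ac51c8249860)) (.node (nat_lit 21) (.leaf (nat_lit 0x2a19ca307d1ae5a0ac51c8249860)) (.leaf (nat_lit 0x309d64f6d22e5a0ac51c8249860)))))))⟩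
def s22C2 : LevCert := ⟨s22L2,
    [(nat_lit 3, nat_lit 0), (nat_lit 9, nat_lit 1), (nat_lit 5, nat_lit 2), (nat_lit 4, nat_lit 3), (nat_lit 2, nat_lit 4), (nat_lit 6, nat_lit 5), (nat_lit 7, nat_lit 6), (nat_lit 10, nat_lit 7), (nat_lit 8, nat_lit 8), (nat_lit 12, nat_lit 9), (nat_lit 14, nat_lit 10), (nat_lit 20, nat_lit 11), (nat_lit 16, nat_lit 12), (nat_lit 15, nat_lit 13), (nat_lit 13, nat_lit 14), (nat_lit 17, nat_lit 15), (nat_lit 18, nat_lit 16), (nat_lit 21, nat_lit 17), (nat_lit 19, nat_lit 18)],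
    [],
    [nat_lit 0x2b49ca307b9ac5a868398a448820, nat_lit 0x2b49ca307b9ac5a8a83992418820, nat_lit 0x2b49ca307b9ac5a9283988518820, nat_lit 0x2b49ca307b9ac5a928398a219020, nat_lit 0x2b49ca307b9ac5a928388a419820, nat_lit 0x2b49ca307b9ac5a92831ca418820, nat_lit 0x2b49ca307b9ac59d28518a418820, nat_lit 0x2b49ca307b9ac5a12a398a418820, nat_lit 0x2b49ca307b9a85a92c398a418820, nat_lit 0x2b49ca307b1ae5a928398a418820, nat_lit 0x2ae9ca307d1ac5a928398a418820, nat_lit 0x2b09ca347b9ac5a928398a418820, nat_lit 0x2b49ca2f839ac5a928398a418820, nat_lit 0x2b49ca306b9ec5a928398a418820, nat_lit 0x2b49c9b07ba2c5a928398a418820, nat_lit 0x2b49c6507b9ac5a928398a418820, nat_lit 0x2549d6307b9ac5a928398a418820, nat_lit 0x274aca307b9ac5a928398a418820]⟩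
def s22L3 : Lev := ⟨nat_lit 3, nat_lit 0x3ff7fc, (.node (nat_lit 12) (.node (nat_lit 6) (.node (nat_lit 4) (.node (nat_lit 3) (.leaf (nat_lit 0x2b49ca307b9ac5a8a83988248c20)) (.leaf (nat_lit 0x2b49ca307b9ac5a928398a418820))) (.node (nat_lit 5) (.leaf (nat_lit 0x2b49ca307b9ac5a8a83988348820)) (.leaf (nat_lit 0x2b49ca307b9ac5a8a83986448820)))) (.node (nat_lit 8) (.node (nat_lit 7) (.leaf (nat_lit 0x2b49ca307b9ac5a8a838c8249820)) (.leaf (nat_lit 0x2b49ca307b9ac5a8a819c8249820))) (.node (nat_lit 9) (.leaf (nat_lit 0x2b49ca307b9ac5a0a351c8249820)) (.node (nat_lit 10) (.leaf (nat_lit 0x2b49ca307b9ac5a868398a448820)) (.leaf (nat_lit 0x2b49ca307b9ac58ca851c8249820)))))) (.node (nat_lit 17) (.node (nat_lit 14) (.node (nat_lit 13) (.leaf (nat_lit 0x2b49ca307b9a35a0ac51c8249820)) (.leaf (nat_lit 0x2b09ca2f6d06e5a0ac51c8249820))) (.node (nat_lit 15) (.leaf (nat_lit 0x2b49ca3078dae5a0ac51c8249820)) (.node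 (nat_lit 16) (.leaf (nat_lit 0x2b09ca2f1d1ae5a0ac51c8249820)) (.leaf (nat_lit 0x2b09ca237d1ae5a0ac51c8249820))))) (.node (nat_lit 19) (.node (nat_lit 18) (.leaf (nat_lit 0x2b09c86f6d22e5a0ac51c8249820)) (.leaf (nat_lit 0x2b098e4f6d22e5a0ac51c8249820))) (.node (nat_lit 20) (.leaf (nat_lit 0x2701d64f6d22e5a0ac51c8249820)) (.node (nat_lit 21) (.leaf (nat_lit 0x2a39ca307d1ae5a0ac51c8249820)) (.leaf (nat_lit 0x709d64f6d22e5a0ac51c8249820)))))))⟩
def s22C3 : LevCert := ⟨s22L3,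
    [(nat_lit 9, nat_lit 0), (nat_lit 5, nat_lit 1), (nat_lit 4, nat_lit 2), (nat_lit 2, nat_lit 3), (nat_lit 6, nat_lit 4), (nat_lit 7, nat_lit 5), (nat_lit 10, nat_lit 6), (nat_lit 8, nat_lit 7), (nat_lit 12, nat_lit 8), (nat_lit 14, nat_lit 9), (nat_lit 20, nat_lit 10), (nat_lit 16, nat_lit 11), (nat_lit 15, nat_lit 12), (nat_lit 13, nat_lit 13), (nat_lit 17, nat_lit 14), (nat_lit 18, nat_lit 15), (nat_lit 21, nat_lit 16), (nat_lit 19, nat_lit 17)],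
    [],
    [nat_lit 0x2b49ca307b9ac5a8a83992418820, nat_lit 0x2b49ca307b9ac5a9283988518820, nat_lit 0x2b49ca307b9ac5a928398a219020, nat_lit 0x2b49ca307b9ac5a928388a419820, nat_lit 0x2b49ca307b9ac5a92831ca418820, nat_lit 0x2b49ca307b9ac59d28518a418820, nat_lit 0x2b49ca307b9ac5a12a398a418820, nat_lit 0x2b49ca307b9a85a92c398a418820, nat_lit 0x2b49ca307b1ae5a928398a418820, nat_lit 0x2ae9ca307d1ac5a928398a418820, nat_lit 0x2b09ca347b9ac5a928398a418820, nat_lit 0x2b49ca2f839ac5a928398a418820, nat_lit 0x2b49ca306b9ec5a928398a418820, nat_lit 0x2b49c9b07ba2c5a928398a418820, nat_lit 0x2b49c6507b9ac5a928398a418820, nat_lit 0x2549d6307b9ac5a928398a418820, nat_lit 0x274aca307b9ac5a928398a418820]⟩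
def s22L4 : Lev := ⟨nat_lit 9, nat_lit 0x3ff7f4, (.node (nat_lit 13) (.node (nat_lit 7) (.node (nat_lit 5) (.node (nat_lit 4) (.leaf (nat_lit 0x2b49ca307b9ac5a8a8398821a420)) (.leaf (nat_lit 0x2b49ca307b9ac5a8a83988918820))) (.node (nat_lit 6) (.leaf (nat_lit 0x2b49ca307b9ac5a8a83992418820)) (.leaf (nat_lit 0x2b49ca307b9ac5a8a83a48219820)))) (.node (nat_lit 9) (.node (nat_lit 8) (.leaf (nat_lit 0x2b49ca307b9ac5a8a849c8219820)) (.leaf (nat_lit 0x2b49ca307b9ac5a0a951c8219820))) (.node (nat_lit 10) (.leaf (nat_lit 0x2b49ca307b9ac5a928398a418820)) (.node (nat_lit 12) (.leaf (nat_lit 0x2b49ca307b9ac5a4a851c8219820)) (.leaf (nat_lit 0x2b49ca307b9a95a0ac51c8219820)))))) (.node (nat_lit 17) (.node (nat_lit 15) (.node (nat_lit 14) (.leaf (nat_lit 0x2b09ca2f6d12e5a0ac51c8219820)) (.leaf (nat_lit 0x2b49ca307a5ae5a0ac51c8219820))) (.node (nat_lit 16) (.leaf (nat_lit 0x2b09ca2f4d1ae5a0ac51c8219820)) (.leaf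 (nat_lit 0x2b09ca297d1ae5a0ac51c8219820)))) (.node (nat_lit 19) (.node (nat_lit 18) (.leaf (nat_lit 0x2b09c92f6d22e5a0ac51c8219820)) (.leaf (nat_lit 0x2b09a64f6d22e5a0ac51c8219820))) (.node (nat_lit 20) (.leaf (nat_lit 0x2704d64f6d22e5a0ac51c8219820)) (.node (nat_lit 21) (.leaf (nat_lit 0x2a99ca307d1ae5a0ac51c8219820)) (.leaf (nat_lit 0x1309d64f6d22e5a0ac51c8219820)))))))⟩
def s22C4 : LevCert := ⟨s22L4,
    [(nat_lit 5, nat_lit 0), (nat_lit 4, nat_lit 1), (nat_lit 2, nat_lit 2), (nat_lit 6, nat_lit 3), (nat_lit 7, nat_lit 4), (nat_lit 10, nat_lit 5), (nat_lit 8, nat_lit 6), (nat_lit 12, nat_lit 7), (nat_lit 14, nat_lit 8), (nat_lit 20, nat_lit 9), (nat_lit 16, nat_lit 10), (nat_lit 15, nat_lit 11), (nat_lit 13, nat_lit 12), (nat_lit 17, nat_lit 13), (nat_lit 18, nat_lit 14), (nat_lit 21, nat_lit 15), (nat_lit 19, nat_lit 16)],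
    [],
    [nat_lit 0x2b49ca307b9ac5a9283988518820, nat_lit 0x2b49ca307b9ac5a928398a219020, nat_lit 0x2b49ca307b9ac5a928388a419820, nat_lit 0x2b49ca307b9ac5a92831ca418820, nat_lit 0x2b49ca307b9ac59d28518a418820, nat_lit 0x2b49ca307b9ac5a12a398a418820, nat_lit 0x2b49ca307b9a85a92c398a418820, nat_lit 0x2b49ca307b1ae5a928398a418820, nat_lit 0x2ae9ca307d1ac5a928398a418820, nat_lit 0x2b09ca347b9ac5a928398a418820, nat_lit 0x2b49ca2f839ac5a928398a418820, nat_lit 0x2b49ca306b9ec5a928398a418820, nat_lit 0x2b49c9b07ba2c5a928398a418820, nat_lit 0x2b49c6507b9ac5a928398a418820, nat_lit 0x2549d6307b9ac5a928398a418820, nat_lit 0x274aca307b9ac5a928398a418820]⟩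
def s22L5 : Lev := ⟨nat_lit 5, nat_lit 0x3ff5f4, (.node (nat_lit 13) (.node (nat_lit 7) (.node (nat_lit 5) (.node (nat_lit 4) (.leaf (nat_lit 0x2b49ca307b9ac5a9283988219420)) (.leaf (nat_lit 0x2b49ca307b9ac5a9283988518820))) (.node (nat_lit 6) (.leaf (nat_lit 0x2b49ca307b9ac5a928398a418820)) (.leaf (nat_lit 0x2b49ca307b9ac5a9283948219820)))) (.node (nat_lit 10) (.node (nat_lit 8) (.leaf (nat_lit 0x2b49ca307b9ac5a92829c8219820)) (.leaf (nat_lit 0x2b49ca307b9ac5a12551c8219820))) (.node (nat_lit 12) (.leaf (nat_lit 0x2b49ca307b9ac5952851c8219820)) (.leaf (nat_lit 0x2b49ca307b9a55a12c51c8219820))))) (.node (nat_lit 17) (.node (nat_lit 15) (.node (nat_lit 14) (.leaf (nat_lit 0x2b09ca2f6d0ae5a12c51c8219820)) (.leaf (nat_lit 0x2b49ca30795ae5a12c51c8219820))) (.node (nat_lit 16) (.leaf (nat_lit 0x2b09ca2f2d1ae5a12c51c8219820)) (.leaf (nat_lit 0x2b09ca257d1ae5a12c51c8219820)))) (.node (nat_lit 19)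 (.node (nat_lit 18) (.leaf (nat_lit 0x2b09c8af6d22e5a12c51c8219820)) (.leaf (nat_lit 0x2b09964f6d22e5a12c51c8219820))) (.node (nat_lit 20) (.leaf (nat_lit 0x2702d64f6d22e5a12c51c8219820)) (.node (nat_lit 21) (.leaf (nat_lit 0x2a59ca307d1ae5a12c51c8219820)) (.leaf (nat_lit 0xb09d64f6d22e5a12c51c8219820)))))))⟩
def s22C5 : LevCert := ⟨s22L5,
    [(nat_lit 4, nat_lit 0), (nat_lit 2, nat_lit 1), (nat_lit 6, nat_lit 2), (nat_lit 7, nat_lit 3), (nat_lit 10, nat_lit 4), (nat_lit 8, nat_lit 5), (nat_lit 12, nat_lit 6), (nat_lit 14, nat_lit 7), (nat_lit 20, nat_lit 8), (nat_lit 16, nat_lit 9), (nat_lit 15, nat_lit 10), (nat_lit 13, nat_lit 11), (nat_lit 17, nat_lit 12), (nat_lit 18, nat_lit 13), (nat_lit 21, nat_lit 14), (nat_lit 19, nat_lit 15)],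
    [],
    [nat_lit 0x2b49ca307b9ac5a928398a219020, nat_lit 0x2b49ca307b9ac5a928388a419820, nat_lit 0x2b49ca307b9ac5a92831ca418820, nat_lit 0x2b49ca307b9ac59d28518a418820, nat_lit 0x2b49ca307b9ac5a12a398a418820, nat_lit 0x2b49ca307b9a85a92c398a418820, nat_lit 0x2b49ca307b1ae5a928398a418820, nat_lit 0x2ae9ca307d1ac5a928398a418820, nat_lit 0x2b09ca347b9ac5a928398a418820, nat_lit 0x2b49ca2f839ac5a928398a418820, nat_lit 0x2b49ca306b9ec5a928398a418820, nat_lit 0x2b49c9b07ba2c5a928398a418820, nat_lit 0x2b49c6507b9ac5a928398a418820, nat_lit 0x2549d6307b9ac5a928398a418820, nat_lit 0x274aca307b9ac5a928398a418820]⟩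
def s22L6 : Lev := ⟨nat_lit 4, nat_lit 0x3ff5d4, (.node (nat_lit 14) (.node (nat_lit 8) (.node (nat_lit 6) (.node (nat_lit 4) (.leaf (nat_lit 0x2b49ca307b9ac5a928398a219020)) (.leaf (nat_lit 0x2b49ca307b9ac5a928398a418820))) (.node (nat_lit 7) (.leaf (nat_lit 0x2b49ca307b9ac5a928390a219820)) (.leaf (nat_lit 0x2b49ca307b9ac5a92821ca219820)))) (.node (nat_lit 12) (.node (nat_lit 10) (.leaf (nat_lit 0x2b49ca307b9ac5a12451ca219820)) (.leaf (nat_lit 0x2b49ca307b9ac5912851ca219820))) (.node (nat_lit 13) (.leaf (nat_lit 0x2b49ca307b9a45a12c51ca219820)) (.leaf (nat_lit 0x2b09ca2f6d08e5a12c51ca219820))))) (.node (nat_lit 18) (.node (nat_lit 16) (.node (nat_lit 15) (.leaf (nat_lit 0x2b49ca30791ae5a12c51ca219820)) (.leaf (nat_lit 0x2b09ca2f251ae5a12c51ca219820))) (.node (nat_lit 17) (.leaf (nat_lit 0x2b09ca247d1ae5a12c51ca219820)) (.leaf (nat_lit 0x2b09c88f6d22e5a12c51ca219820)))) (.node (nat_lit 20)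 (.node (nat_lit 19) (.leaf (nat_lit 0x2b09924f6d22e5a12c51ca219820)) (.leaf (nat_lit 0x2702564f6d22e5a12c51ca219820))) (.node (nat_lit 21) (.leaf (nat_lit 0x2a49ca307d1ae5a12c51ca219820)) (.leaf (nat_lit 0x909d64f6d22e5a12c51ca219820))))))⟩
def s22C6 : LevCert := ⟨s22L6,
    [(nat_lit 2, nat_lit 0), (nat_lit 6, nat_lit 1), (nat_lit 7, nat_lit 2), (nat_lit 10, nat_lit 3), (nat_lit 8, nat_lit 4), (nat_lit 12, nat_lit 5), (nat_lit 14, nat_lit 6), (nat_lit 20, nat_lit 7), (nat_lit 16, nat_lit 8), (nat_lit 15, nat_lit 9), (nat_lit 13, nat_lit 10), (nat_lit 17, nat_lit 11), (nat_lit 18, nat_lit 12), (nat_lit 21, nat_lit 13), (nat_lit 19, nat_lit 14)],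
    [],
    [nat_lit 0x2b49ca307b9ac5a928388a419820, nat_lit 0x2b49ca307b9ac5a92831ca418820, nat_lit 0x2b49ca307b9ac59d28518a418820, nat_lit 0x2b49ca307b9ac5a12a398a418820, nat_lit 0x2b49ca307b9a85a92c398a418820, nat_lit 0x2b49ca307b1ae5a928398a418820, nat_lit 0x2ae9ca307d1ac5a928398a418820, nat_lit 0x2b09ca347b9ac5a928398a418820, nat_lit 0x2b49ca2f839ac5a928398a418820, nat_lit 0x2b49ca306b9ec5a928398a418820, nat_lit 0x2b49c9b07ba2c5a928398a418820, nat_lit 0x2b49c6507b9ac5a928398a418820, nat_lit 0x2549d6307b9ac5a928398a418820, nat_lit 0x274aca307b9ac5a928398a418820]⟩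
def s22L7 : Lev := ⟨nat_lit 2, nat_lit 0x3ff5c4, (.node (nat_lit 14) (.node (nat_lit 8) (.node (nat_lit 6) (.leaf (nat_lit 0x2b49ca307b9ac5a928398a418820)) (.node (nat_lit 7) (.leaf (nat_lit 0x2b49ca307b9ac5a928388a419820)) (.leaf (nat_lit 0x2b49ca307b9ac5a92811ca419820)))) (.node (nat_lit 12) (.node (nat_lit 10) (.leaf (nat_lit 0x2b49ca307b9ac5a12251ca419820)) (.leaf (nat_lit 0x2b49ca307b9ac5892851ca419820))) (.node (nat_lit 13) (.leaf (nat_lit 0x2b49ca307b9a25a12c51ca419820)) (.leaf (nat_lit 0x2b09ca2f6d04e5a12c51ca419820))))) (.node (nat_lit 18) (.node (nat_lit 16) (.node (nat_lit 15) (.leaf (nat_lit 0x2b49ca30789ae5a12c51ca419820)) (.leaf (nat_lit 0x2b09ca2f151ae5a12c51ca419820))) (.node (nat_lit 17) (.leaf (nat_lit 0x2b09ca227d1ae5a12c51ca419820)) (.leaf (nat_lit 0x2b09c84f6d22e5a12c51ca419820)))) (.node (nat_lit 20) (.node (nat_lit 19) (.leaf (nat_lit 0x2b098a4f6d22e5a12c51ca419820))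 (.leaf (nat_lit 0x2701564f6d22e5a12c51ca419820))) (.node (nat_lit 21) (.leaf (nat_lit 0x2a29ca307d1ae5a12c51ca419820)) (.leaf (nat_lit 0x509d64f6d22e5a12c51ca419820))))))⟩
def s22C7 : LevCert := ⟨s22L7,
    [(nat_lit 6, nat_lit 0), (nat_lit 7, nat_lit 1), (nat_lit 10, nat_lit 2), (nat_lit 8, nat_lit 3), (nat_lit 12, nat_lit 4), (nat_lit 14, nat_lit 5), (nat_lit 20, nat_lit 6), (nat_lit 16, nat_lit 7), (nat_lit 15, nat_lit 8), (nat_lit 13, nat_lit 9), (nat_lit 17, nat_lit 10), (nat_lit 18, nat_lit 11), (nat_lit 21, nat_lit 12), (nat_lit 19, nat_lit 13)],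
    [],
    [nat_lit 0x2b49ca307b9ac5a92831ca418820, nat_lit 0x2b49ca307b9ac59d28518a418820, nat_lit 0x2b49ca307b9ac5a12a398a418820, nat_lit 0x2b49ca307b9a85a92c398a418820, nat_lit 0x2b49ca307b1ae5a928398a418820, nat_lit 0x2ae9ca307d1ac5a928398a418820, nat_lit 0x2b09ca347b9ac5a928398a418820, nat_lit 0x2b49ca2f839ac5a928398a418820, nat_lit 0x2b49ca306b9ec5a928398a418820, nat_lit 0x2b49c9b07ba2c5a928398a418820, nat_lit 0x2b49c6507b9ac5a928398a418820, nat_lit 0x2549d6307b9ac5a928398a418820, nat_lit 0x274aca307b9ac5a928398a418820]⟩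
def s22L8 : Lev := ⟨nat_lit 6, nat_lit 0x3ff5c0, (.node (nat_lit 15) (.node (nat_lit 10) (.node (nat_lit 7) (.leaf (nat_lit 0x2b49ca307b9ac5a928398a418820)) (.node (nat_lit 8) (.leaf (nat_lit 0x2b49ca307b9ac5a92831ca418820)) (.leaf (nat_lit 0x2b49ca307b9ac5a12651ca418820)))) (.node (nat_lit 13) (.node (nat_lit 12) (.leaf (nat_lit 0x2b49ca307b9ac5992851ca418820)) (.leaf (nat_lit 0x2b49ca307b9a65a12c51ca418820))) (.node (nat_lit 14) (.leaf (nat_lit 0x2b09ca2f6d0ce5a12c51ca418820)) (.leaf (nat_lit 0x2b49ca30799ae5a12c51ca418820))))) (.node (nat_lit 18) (.node (nat_lit 16) (.leaf (nat_lit 0x2b09ca2f351ae5a12c51ca418820)) (.node (nat_lit 17) (.leaf (nat_lit 0x2b09ca267d1ae5a12c51ca418820)) (.leaf (nat_lit 0x2b09c8cf6d22e5a12c51ca418820)))) (.node (nat_lit 20) (.node (nat_lit 19) (.leaf (nat_lit 0x2b099a4f6d22e5a12c51ca418820)) (.leaf (nat_lit 0x2703564f6d22e5a12c51ca418820))) (.node (nat_lit 21)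 (.leaf (nat_lit 0x2a69ca307d1ae5a12c51ca418820)) (.leaf (nat_lit 0xd09d64f6d22e5a12c51ca418820))))))⟩
def s22C8 : LevCert := ⟨s22L8,
    [(nat_lit 7, nat_lit 0), (nat_lit 10, nat_lit 1), (nat_lit 8, nat_lit 2), (nat_lit 12, nat_lit 3), (nat_lit 14, nat_lit 4), (nat_lit 20, nat_lit 5), (nat_lit 16, nat_lit 6), (nat_lit 15, nat_lit 7), (nat_lit 13, nat_lit 8), (nat_lit 17, nat_lit 9), (nat_lit 18, nat_lit 10), (nat_lit 21, nat_lit 11), (nat_lit 19, nat_lit 12)],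
    [],
    [nat_lit 0x2b49ca307b9ac59d28518a418820, nat_lit 0x2b49ca307b9ac5a12a398a418820, nat_lit 0x2b49ca307b9a85a92c398a418820, nat_lit 0x2b49ca307b1ae5a928398a418820, nat_lit 0x2ae9ca307d1ac5a928398a418820, nat_lit 0x2b09ca347b9ac5a928398a418820, nat_lit 0x2b49ca2f839ac5a928398a418820, nat_lit 0x2b49ca306b9ec5a928398a418820, nat_lit 0x2b49c9b07ba2c5a928398a418820, nat_lit 0x2b49c6507b9ac5a928398a418820, nat_lit 0x2549d6307b9ac5a928398a418820, nat_lit 0x274aca307b9ac5a928398a418820]⟩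
def s22L9 : Lev := ⟨nat_lit 7, nat_lit 0x3ff580, (.node (nat_lit 15) (.node (nat_lit 12) (.node (nat_lit 8) (.leaf (nat_lit 0x2b49ca307b9ac5a928398a418820)) (.node (nat_lit 10) (.leaf (nat_lit 0x2b49ca307b9ac5a127518a418820)) (.leaf (nat_lit 0x2b49ca307b9ac59d28518a418820)))) (.node (nat_lit 13) (.leaf (nat_lit 0x2b49ca307b9a75a12c518a418820)) (.node (nat_lit 14) (.leaf (nat_lit 0x2b09ca2f6d0ee5a12c518a418820)) (.leaf (nat_lit 0x2b49ca3079dae5a12c518a418820))))) (.node (nat_lit 18) (.node (nat_lit 16) (.leaf (nat_lit 0x2b09ca2f3d1ae5a12c518a418820)) (.node (nat_lit 17) (.leaf (nat_lit 0x2b09ca277d1ae5a12c518a418820)) (.leaf (nat_lit 0x2b09c8ef6d22e5a12c518a418820)))) (.node (nat_lit 20) (.node (nat_lit 19) (.leaf (nat_lit 0x2b099e4f6d22e5a12c518a418820)) (.leaf (nat_lit 0x2703d64f6d22e5a12c518a418820))) (.node (nat_lit 21) (.leaf (nat_lit 0x2a79ca307d1ae5a12c518a418820)) (.leaf (nat_lit 0xf09d64f6d22e5a12c518a418820))))))⟩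
def s22C9 : LevCert := ⟨s22L9,
    [(nat_lit 10, nat_lit 0), (nat_lit 8, nat_lit 1), (nat_lit 12, nat_lit 2), (nat_lit 14, nat_lit 3), (nat_lit 20, nat_lit 4), (nat_lit 16, nat_lit 5), (nat_lit 15, nat_lit 6), (nat_lit 13, nat_lit 7), (nat_lit 17, nat_lit 8), (nat_lit 18, nat_lit 9), (nat_lit 21, nat_lit 10), (nat_lit 19, nat_lit 11)],
    [],
    [nat_lit 0x2b49ca307b9ac5a12a398a418820, nat_lit 0x2b49ca307b9a85a92c398a418820, nat_lit 0x2b49ca307b1ae5a928398a418820, nat_lit 0x2ae9ca307d1ac5a928398a418820, nat_lit 0x2b09ca347b9ac5a928398a418820, nat_lit 0x2b49ca2f839ac5a928398a418820, nat_lit 0x2b49ca306b9ec5a928398a418820, nat_lit 0x2b49c9b07ba2c5a928398a418820, nat_lit 0x2b49c6507b9ac5a928398a418820, nat_lit 0x2549d6307b9ac5a928398a418820, nat_lit 0x274aca307b9ac5a928398a418820]⟩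
def s22L10 : Lev := ⟨nat_lit 10, nat_lit 0x3ff500, (.node (nat_lit 16) (.node (nat_lit 13) (.node (nat_lit 10) (.leaf (nat_lit 0x2b49ca307b9ac5a12a398a418820)) (.node (nat_lit 12) (.leaf (nat_lit 0x2b49ca307b9ac5a928398a418820)) (.leaf (nat_lit 0x2b49ca307b9aa5a12c398a418820)))) (.node (nat_lit 14) (.leaf (nat_lit 0x2b09ca2f6d14e5a12c398a418820)) (.node (nat_lit 15) (.leaf (nat_lit 0x2b49ca307a9ae5a12c398a418820)) (.leaf (nat_lit 0x2b09ca2f551ae5a12c398a418820))))) (.node (nat_lit 19) (.node (nat_lit 17) (.leaf (nat_lit 0x2b09ca2a7d1ae5a12c398a418820)) (.node (nat_lit 18) (.leaf (nat_lit 0x2b09c94f6d22e5a12c398a418820)) (.leaf (nat_lit 0x2b09aa4f6d22e5a12c398a418820)))) (.node (nat_lit 20) (.leaf (nat_lit 0x2705564f6d22e5a12c398a418820)) (.node (nat_lit 21) (.leaf (nat_lit 0x2aa9ca307d1ae5a12c398a418820)) (.leaf (nat_lit 0x1509d64f6d22e5a12c398a418820))))))⟩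
def s22C10 : LevCert := ⟨s22L10,
    [(nat_lit 8, nat_lit 0), (nat_lit 12, nat_lit 1), (nat_lit 14, nat_lit 2), (nat_lit 20, nat_lit 3), (nat_lit 16, nat_lit 4), (nat_lit 15, nat_lit 5), (nat_lit 13, nat_lit 6), (nat_lit 17, nat_lit 7), (nat_lit 18, nat_lit 8), (nat_lit 21, nat_lit 9), (nat_lit 19, nat_lit 10)],
    [],
    [nat_lit 0x2b49ca307b9a85a92c398a418820, nat_lit 0x2b49ca307b1ae5a928398a418820, nat_lit 0x2ae9ca307d1ac5a928398a418820, nat_lit 0x2b09ca347b9ac5a928398a418820, nat_lit 0x2b49ca2f839ac5a928398a418820, nat_lit 0x2b49ca306b9ec5a928398a418820, nat_lit 0x2b49c9b07ba2c5a928398a418820, nat_lit 0x2b49c6507b9ac5a928398a418820, nat_lit 0x2549d6307b9ac5a928398a418820, nat_lit 0x274aca307b9ac5a928398a418820]⟩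
def s22L11 : Lev := ⟨nat_lit 8, nat_lit 0x3ff100, (.node (nat_lit 16) (.node (nat_lit 13) (.node (nat_lit 12) (.leaf (nat_lit 0x2b49ca307b9ac5a928398a418820)) (.leaf (nat_lit 0x2b49ca307b9a85a92c398a418820))) (.node (nat_lit 14) (.leaf (nat_lit 0x2b09ca2f6d10e5a92c398a418820)) (.node (nat_lit 15) (.leaf (nat_lit 0x2b49ca307a1ae5a92c398a418820)) (.leaf (nat_lit 0x2b09ca2f451ae5a92c398a418820))))) (.node (nat_lit 19) (.node (nat_lit 17) (.leaf (nat_lit 0x2b09ca287d1ae5a92c398a418820)) (.node (nat_lit 18) (.leaf (nat_lit 0x2b09c90f6d22e5a92c398a418820)) (.leaf (nat_lit 0x2b09a24f6d22e5a92c398a418820)))) (.node (nat_lit 20) (.leaf (nat_lit 0x2704564f6d22e5a92c398a418820)) (.node (nat_lit 21) (.leaf (nat_lit 0x2a89ca307d1ae5a92c398a418820)) (.leaf (nat_lit 0x1109d64f6d22e5a92c398a418820))))))⟩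
def s22C11 : LevCert := ⟨s22L11,
    [(nat_lit 12, nat_lit 0), (nat_lit 14, nat_lit 1), (nat_lit 20, nat_lit 2), (nat_lit 16, nat_lit 3), (nat_lit 15, nat_lit 4), (nat_lit 13, nat_lit 5), (nat_lit 17, nat_lit 6), (nat_lit 18, nat_lit 7), (nat_lit 21, nat_lit 8), (nat_lit 19, nat_lit 9)],
    [],
    [nat_lit 0x2b49ca307b1ae5a928398a418820, nat_lit 0x2ae9ca307d1ac5a928398a418820, nat_lit 0x2b09ca347b9ac5a928398a418820, nat_lit 0x2b49ca2f839ac5a928398a418820, nat_lit 0x2b49ca306b9ec5a928398a418820, nat_lit 0x2b49c9b07ba2c5a928398a418820, nat_lit 0x2b49c6507b9ac5a928398a418820, nat_lit 0x2549d6307b9ac5a928398a418820, nat_lit 0x274aca307b9ac5a928398a418820]⟩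
def s22L12 : Lev := ⟨nat_lit 12, nat_lit 0x3ff000, (.node (nat_lit 17) (.node (nat_lit 14) (.node (nat_lit 13) (.leaf (nat_lit 0x2b49ca307b9ac5a928398a418820)) (.leaf (nat_lit 0x2b09ca2f6d18e5a928398a418820))) (.node (nat_lit 15) (.leaf (nat_lit 0x2b49ca307b1ae5a928398a418820)) (.node (nat_lit 16) (.leaf (nat_lit 0x2b09ca2f651ae5a928398a418820)) (.leaf (nat_lit 0x2b09ca2c7d1ae5a928398a418820))))) (.node (nat_lit 19) (.node (nat_lit 18) (.leaf (nat_lit 0x2b09c98f6d22e5a928398a418820)) (.leaf (nat_lit 0x2b09b24f6d22e5a928398a418820))) (.node (nat_lit 20) (.leaf (nat_lit 0x2706564f6d22e5a928398a418820)) (.node (nat_lit 21) (.leaf (nat_lit 0x2ac9ca307d1ae5a928398a418820)) (.leaf (nat_lit 0x1909d64f6d22e5a928398a418820))))))⟩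
def s22C12 : LevCert := ⟨s22L12,
    [(nat_lit 14, nat_lit 0), (nat_lit 20, nat_lit 1), (nat_lit 16, nat_lit 2), (nat_lit 15, nat_lit 3), (nat_lit 13, nat_lit 4), (nat_lit 17, nat_lit 5), (nat_lit 18, nat_lit 6), (nat_lit 21, nat_lit 7), (nat_lit 19, nat_lit 8)],
    [],
    [nat_lit 0x2ae9ca307d1ac5a928398a418820, nat_lit 0x2b09ca347b9ac5a928398a418820, nat_lit 0x2b49ca2f839ac5a928398a418820, nat_lit 0x2b49ca306b9ec5a928398a418820, nat_lit 0x2b49c9b07ba2c5a928398a418820, nat_lit 0x2b49c6507b9ac5a928398a418820, nat_lit 0x2549d6307b9ac5a928398a418820, nat_lit 0x274aca307b9ac5a928398a418820]⟩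
def s22L13 : Lev := ⟨nat_lit 14, nat_lit 0x3fe000, (.node (nat_lit 17) (.node (nat_lit 15) (.node (nat_lit 14) (.leaf (nat_lit 0x2b09ca2f6d1cc5a928398a418820)) (.leaf (nat_lit 0x2b49ca307b9ac5a928398a418820))) (.node (nat_lit 16) (.leaf (nat_lit 0x2b09ca2f751ac5a928398a418820)) (.leaf (nat_lit 0x2b09ca2e7d1ac5a928398a418820)))) (.node (nat_lit 19) (.node (nat_lit 18) (.leaf (nat_lit 0x2b09c9cf6d22c5a928398a418820)) (.leaf (nat_lit 0x2b09ba4f6d22c5a928398a418820))) (.node (nat_lit 20) (.leaf (nat_lit 0x2707564f6d22c5a928398a418820)) (.node (nat_lit 21) (.leaf (nat_lit 0x2ae9ca307d1ac5a928398a418820)) (.leaf (nat_lit 0x1d09d64f6d22c5a928398a418820))))))⟩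
def s22C13 : LevCert := ⟨s22L13,
    [(nat_lit 20, nat_lit 0), (nat_lit 16, nat_lit 1), (nat_lit 15, nat_lit 2), (nat_lit 13, nat_lit 3), (nat_lit 17, nat_lit 4), (nat_lit 18, nat_lit 5), (nat_lit 21, nat_lit 6), (nat_lit 19, nat_lit 7)],
    [],
    [nat_lit 0x2b09ca347b9ac5a928398a418820, nat_lit 0x2b49ca2f839ac5a928398a418820, nat_lit 0x2b49ca306b9ec5a928398a418820, nat_lit 0x2b49c9b07ba2c5a928398a418820, nat_lit 0x2b49c6507b9ac5a928398a418820, nat_lit 0x2549d6307b9ac5a928398a418820, nat_lit 0x274aca307b9ac5a928398a418820]⟩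
def s22L14 : Lev := ⟨nat_lit 20, nat_lit 0x3fa000, (.node (nat_lit 18) (.node (nat_lit 16) (.node (nat_lit 15) (.leaf (nat_lit 0x2b09ca2f6ba8c5a928398a418820)) (.leaf (nat_lit 0x2b09ca2fa39ac5a928398a418820))) (.node (nat_lit 17) (.leaf (nat_lit 0x2b09ca347b9ac5a928398a418820)) (.leaf (nat_lit 0x2b09ca8f6ba2c5a928398a418820)))) (.node (nat_lit 20) (.node (nat_lit 19) (.leaf (nat_lit 0x2b09d24f6ba2c5a928398a418820)) (.leaf (nat_lit 0x270a564f6ba2c5a928398a418820))) (.node (nat_lit 21) (.leaf (nat_lit 0x2b49ca307b9ac5a928398a418820)) (.leaf (nat_lit 0x2909d64f6ba2c5a928398a418820)))))⟩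
def s22C14 : LevCert := ⟨s22L14,
    [(nat_lit 16, nat_lit 0), (nat_lit 15, nat_lit 1), (nat_lit 13, nat_lit 2), (nat_lit 17, nat_lit 3), (nat_lit 18, nat_lit 4), (nat_lit 21, nat_lit 5), (nat_lit 19, nat_lit 6)],
    [],
    [nat_lit 0x2b49ca2f839ac5a928398a418820, nat_lit 0x2b49ca306b9ec5a928398a418820, nat_lit 0x2b49c9b07ba2c5a928398a418820, nat_lit 0x2b49c6507b9ac5a928398a418820, nat_lit 0x2549d6307b9ac5a928398a418820, nat_lit 0x274aca307b9ac5a928398a418820]⟩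
def s22L15 : Lev := ⟨nat_lit 16, nat_lit 0x2fa000, (.node (nat_lit 17) (.node (nat_lit 15) (.leaf (nat_lit 0x2b49ca2f6ba0c5a928398a418820)) (.node (nat_lit 16) (.leaf (nat_lit 0x2b49ca2f839ac5a928398a418820)) (.leaf (nat_lit 0x2b49ca307b9ac5a928398a418820)))) (.node (nat_lit 19) (.node (nat_lit 18) (.leaf (nat_lit 0x2b49ca0f6ba2c5a928398a418820)) (.leaf (nat_lit 0x2b49c24f6ba2c5a928398a418820))) (.node (nat_lit 21) (.leaf (nat_lit 0x2748564f6ba2c5a928398a418820)) (.leaf (nat_lit 0x2149d64f6ba2c5a928398a418820)))))⟩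
def s22C15 : LevCert := ⟨s22L15,
    [(nat_lit 15, nat_lit 0), (nat_lit 13, nat_lit 1), (nat_lit 17, nat_lit 2), (nat_lit 18, nat_lit 3), (nat_lit 21, nat_lit 4), (nat_lit 19, nat_lit 5)],
    [],
    [nat_lit 0x2b49ca306b9ec5a928398a418820, nat_lit 0x2b49c9b07ba2c5a928398a418820, nat_lit 0x2b49c6507b9ac5a928398a418820, nat_lit 0x2549d6307b9ac5a928398a418820, nat_lit 0x274aca307b9ac5a928398a418820]⟩
def s22L16 : Lev := ⟨nat_lit 15, nat_lit 0x2ea000, (.node (nat_lit 18) (.node (nat_lit 15) (.leaf (nat_lit 0x2b49ca306b9ec5a928398a418820)) (.node (nat_lit 17) (.leaf (nat_lit 0x2b49ca307b9ac5a928398a418820)) (.leaf (nat_lit 0x2b49c9f06ba2c5a928398a418820)))) (.node (nat_lit 19) (.leaf (nat_lit 0x2b49be506ba2c5a928398a418820)) (.node (nat_lit 21) (.leaf (nat_lit 0x2747d6506ba2c5a928398a418820)) (.leaf (nat_lit 0x1f49d6506ba2c5a928398a418820)))))⟩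
def s22C16 : LevCert := ⟨s22L16,
    [(nat_lit 13, nat_lit 0), (nat_lit 17, nat_lit 1), (nat_lit 18, nat_lit 2), (nat_lit 21, nat_lit 3), (nat_lit 19, nat_lit 4)],
    [],
    [nat_lit 0x2b49c9b07ba2c5a928398a418820, nat_lit 0x2b49c6507b9ac5a928398a418820, nat_lit 0x2549d6307b9ac5a928398a418820, nat_lit 0x274aca307b9ac5a928398a418820]⟩
def s22L17 : Lev := ⟨nat_lit 13, nat_lit 0x2e2000, (.node (nat_lit 18) (.node (nat_lit 17) (.leaf (nat_lit 0x2b49ca307b9ac5a928398a418820)) (.leaf (nat_lit 0x2b49c9b07ba2c5a928398a418820))) (.node (nat_lit 19) (.leaf (nat_lit 0x2b49b6507ba2c5a928398a418820)) (.node (nat_lit 21) (.leaf (nat_lit 0x2746d6507ba2c5a928398a418820)) (.leaf (nat_lit 0x1b49d6507ba2c5a928398a418820)))))⟩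
def s22C17 : LevCert := ⟨s22L17,
    [(nat_lit 17, nat_lit 0), (nat_lit 18, nat_lit 1), (nat_lit 21, nat_lit 2), (nat_lit 19, nat_lit 3)],
    [],
    [nat_lit 0x2b49c6507b9ac5a928398a418820, nat_lit 0x2549d6307b9ac5a928398a418820, nat_lit 0x274aca307b9ac5a928398a418820]⟩
def s22L18 : Lev := ⟨nat_lit 17, nat_lit 0x2e0000, (.node (nat_lit 19) (.node (nat_lit 18) (.leaf (nat_lit 0x2b49ca307b9ac5a928398a418820)) (.leaf (nat_lit 0x2b49c6507b9ac5a928398a418820))) (.node (nat_lit 21) (.leaf (nat_lit 0x2748d6507b9ac5a928398a418820)) (.leaf (nat_lit 0x2349d6507b9ac5a928398a418820))))⟩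
def s22C18 : LevCert := ⟨s22L18,
    [(nat_lit 18, nat_lit 0), (nat_lit 21, nat_lit 1), (nat_lit 19, nat_lit 2)],
    [],
    [nat_lit 0x2549d6307b9ac5a928398a418820, nat_lit 0x274aca307b9ac5a928398a418820]⟩
def s22L19 : Lev := ⟨nat_lit 18, nat_lit 0x2c0000, (.node (nat_lit 19) (.leaf (nat_lit 0x2b49ca307b9ac5a928398a418820)) (.node (nat_lit 21) (.leaf (nat_lit 0x274956307b9ac5a928398a418820)) (.leaf (nat_lit 0x2549d6307b9ac5a928398a418820))))⟩
def s22C19 : LevCert := ⟨s22L19,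
    [(nat_lit 21, nat_lit 0), (nat_lit 19, nat_lit 1)],
    [],
    [nat_lit 0x274aca307b9ac5a928398a418820]⟩
def s22L20 : Lev := ⟨nat_lit 21, nat_lit 0x280000, (.node (nat_lit 21) (.leaf (nat_lit 0x274aca307b9ac5a928398a418820)) (.leaf (nat_lit 0x2b49ca307b9ac5a928398a418820)))⟩
def s22C20 : LevCert := ⟨s22L20,
    [(nat_lit 19, nat_lit 0)],
    [],
    []⟩
def s22 : List LevCert := [s22C0, s22C1, s22C2, s22C3, s22C4, s22C5, s22C6, s22C7, s22C8, s22C9, s22C10, s22C11, s22C12, s22C13, s22C14, s22C15, s22C16, s22C17, s22C18, s22C19, s22C20]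
def s22G : List ℕ := [nat_lit 0x2b49ca307b9ac02928398a41882b, nat_lit 0x2b49ca307b9ac0a928398a418960, nat_lit 0x2b49ca307b9ac5a928398a408860, nat_lit 0x2b49ca307b9ac5a868398a448820, nat_lit 0x2b49ca307b9ac5a8a83992418820, nat_lit 0x2b49ca307b9ac5a9283988518820, nat_lit 0x2b49ca307b9ac5a928398a219020, nat_lit 0x2b49ca307b9ac5a928388a419820, nat_lit 0x2b49ca307b9ac5a92831ca418820, nat_lit 0x2b49ca307b9ac59d28518a418820, nat_lit 0x2b49ca307b9ac5a12a398a418820, nat_lit 0x2b49ca307b9a85a92c398a418820, nat_lit 0x2b49ca307b1ae5a928398a418820, nat_lit 0x2ae9ca307d1ac5a928398a418820, nat_lit 0x2b09ca347b9ac5a928398a418820, nat_lit 0x2b49ca2f839ac5a928398a418820, nat_lit 0x2b49ca306b9ec5a928398a418820, nat_lit 0x2b49c9b07ba2c5a928398a418820, nat_lit 0x2b49c6507b9ac5a928398a418820, nat_lit 0x2549d6307b9ac5a928398a418820, nat_lit 0x274aca307b9ac5a928398a418820]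
def g22L0 : Lev := ⟨nat_lit 0, nat_lit 0x3fffff, (.node (nat_lit 11) (.node (nat_lit 5) (.node (nat_lit 2) (.node (nat_lit 1) (.leaf (nat_lit 0x2b49ca307b9ac5a928398a418820)) (.leaf (nat_lit 0x1f19d58e84a8b690c8504653a402))) (.node (nat_lit 3) (.leaf (nat_lit 0x16d9d1d08be5560cc93a14428041)) (.node (nat_lit 4) (.leaf (nat_lit 0x2b27b29172e706a8e40a4c3020a2)) (.leaf (nat_lit 0x26ea3eb05c5926a069228a0304e2))))) (.node (nat_lit 8) (.node (nat_lit 6) (.leaf (nat_lit 0x2a99d1ea411811386b940063c4ad)) (.node (nat_lit 7) (.leaf (nat_lit 0x1948b973836b27852618105128e4)) (.leaf (nat_lit 0x29172e706d64f624c3020a251c81)))) (.node (nat_lit 9) (.leaf (nat_lit 0x1ac5d6939460f708205250731483)) (.node (nat_lit 10) (.leaf (nat_lit 0x18bad2728c1ee6840a4a0e629062)) (.leaf (nat_lit 0x175a4e5183dcd6014941cc520c41)))))) (.node (nat_lit 16) (.node (nat_lit 13) (.node (nat_lit 12) (.leaf (nat_lit 0x2a66c66a1224703c8ea30654c02b))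 (.leaf (nat_lit 0x28894dc938d600b4558bd453408c))) (.node (nat_lit 14) (.leaf (nat_lit 0xce8b504a240b0ca15989e3628a7)) (.node (nat_lit 15) (.leaf (nat_lit 0x1a985162282aa1c8f163cc80cc8e)) (.leaf (nat_lit 0x2b3ba5400d33432057d5a432a22))))) (.node (nat_lit 19) (.node (nat_lit 17) (.leaf (nat_lit 0x16774a801a6680c0afab4865444c)) (.node (nat_lit 18) (.leaf (nat_lit 0xe69a00d54ab11048c4adc383e85)) (.leaf (nat_lit 0xd3401aa95622391895b8707d0a1)))) (.node (nat_lit 20) (.leaf (nat_lit 0x2e04d721a0f44b1e48c2a6115aa)) (.node (nat_lit 21) (.leaf (nat_lit 0x1c09ae4341e890bc91854c22b54c)) (.leaf (nat_lit 0x1533633509123ade4751832a601)))))))⟩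
def g22C0 : LevCert := ⟨g22L0,
    [(nat_lit 10, nat_lit 0), (nat_lit 11, nat_lit 2), (nat_lit 9, nat_lit 0), (nat_lit 7, nat_lit 1), (nat_lit 16, nat_lit 2), (nat_lit 21, nat_lit 0), (nat_lit 8, nat_lit 0), (nat_lit 3, nat_lit 1), (nat_lit 6, nat_lit 0), (nat_lit 12, nat_lit 2), (nat_lit 15, nat_lit 0), (nat_lit 20, nat_lit 1), (nat_lit 2, nat_lit 2), (nat_lit 18, nat_lit 1), (nat_lit 14, nat_lit 2), (nat_lit 1, nat_lit 1), (nat_lit 5, nat_lit 2), (nat_lit 19, nat_lit 0), (nat_lit 17, nat_lit 0), (nat_lit 13, nat_lit 2), (nat_lit 4, nat_lit 1)],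
    [[nat_lit 0, nat_lit 2, nat_lit 0, nat_lit 2, nat_lit 0, nat_lit 4, nat_lit 0], [nat_lit 6, nat_lit 6]],
    [nat_lit 0x4f0d193225155360594567199c0, nat_lit 0x2ac94daf83a34588a831d2322820]⟩
def g22L1 : Lev := ⟨nat_lit 1, nat_lit 0x3ffffe, (.node (nat_lit 11) (.node (nat_lit 6) (.node (nat_lit 3) (.node (nat_lit 2) (.leaf (nat_lit 0x2b49ca307b9ac5a928398a418820)) (.leaf (nat_lit 0x19448a753aa0d93c64714c888560))) (.node (nat_lit 4) (.leaf (nat_lit 0x24d9a61171043620ca7d68709560)) (.node (nat_lit 5) (.leaf (nat_lit 0x2434cc4e8920d6168aabcc13a160)) (.leaf (nat_lit 0x2262257274c47431aaabc23a1600))))) (.node (nat_lit 8) (.node (nat_lit 7) (.leaf (nat_lit 0x1a2ab8a3a2df334950404878b120)) (.leaf (nat_lit 0x1b3755f41aca2330900a1513c920))) (.node (nat_lit 9) (.leaf (nat_lit 0xae818e41b55160a414ad15a3e60)) (.node (nat_lit 10) (.leaf (nat_lit 0x2274904e94d664142a7d5b41b200)) (.leaf (nat_lit 0x18d12607aaa74904c42b87143d60))))))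 (.node (nat_lit 16) (.node (nat_lit 13) (.node (nat_lit 12) (.leaf (nat_lit 0x1f55b6828988c0cce34c24543940)) (.leaf (nat_lit 0x106125637a8818d1b32b8f265600))) (.node (nat_lit 14) (.leaf (nat_lit 0x1e39ba30ac8251288831d89a2da0)) (.node (nat_lit 15) (.leaf (nat_lit 0x19281cc9a05512adcd2090f1d660)) (.leaf (nat_lit 0xc27b8a70c2a46c54b6526392120))))) (.node (nat_lit 19) (.node (nat_lit 17) (.leaf (nat_lit 0xc473ea13c0a26a26ba31521c520)) (.node (nat_lit 18) (.leaf (nat_lit 0x2af8182293668a10674ae2563940)) (.leaf (nat_lit 0x55a05049a58f519658ca033b5c0)))) (.node (nat_lit 20) (.leaf (nat_lit 0x4f0d193225155360594567199c0)) (.node (nat_lit 21) (.leaf (nat_lit 0x1014888f1a9668d4f3715ac95200)) (.leaf (nat_lit 0x275d1a940c8c7c2a614e4e89540)))))))⟩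
def g22C1 : LevCert := ⟨g22L1,
    [(nat_lit 19, nat_lit 0), (nat_lit 16, nat_lit 0), (nat_lit 18, nat_lit 1), (nat_lit 9, nat_lit 0), (nat_lit 15, nat_lit 1), (nat_lit 7, nat_lit 0), (nat_lit 14, nat_lit 0), (nat_lit 5, nat_lit 1), (nat_lit 20, nat_lit 0), (nat_lit 4, nat_lit 0), (nat_lit 6, nat_lit 1), (nat_lit 8, nat_lit 0), (nat_lit 12, nat_lit 1), (nat_lit 3, nat_lit 1), (nat_lit 2, nat_lit 0), (nat_lit 13, nat_lit 0), (nat_lit 17, nat_lit 0), (nat_lit 21, nat_lit 0), (nat_lit 10, nat_lit 1), (nat_lit 11, nat_lit 0)],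
    [[nat_lit 0, nat_lit 2, nat_lit 0, nat_lit 0, nat_lit 0, nat_lit 2, nat_lit 0, nat_lit 0, nat_lit 2, nat_lit 0], [nat_lit 2, nat_lit 4, nat_lit 2, nat_lit 4, nat_lit 2, nat_lit 4, nat_lit 2, nat_lit 2, nat_lit 4, nat_lit 2, nat_lit 4, nat_lit 2]],
    [nat_lit 0xc4640e9abcb352043a39b15c820, nat_lit 0x1953b96f4cc446c50534a03a2820]⟩
def g22L2 : Lev := ⟨nat_lit 2, nat_lit 0x3ffffc, (.node (nat_lit 12) (.node (nat_lit 7) (.node (nat_lit 4) (.node (nat_lit 3) (.leaf (nat_lit 0x2b49ca307b9ac5a928398a418820)) (.leaf (nat_lit 0x1d41a645221e65c23561d4d14c20))) (.node (nat_lit 5) (.leaf (nat_lit 0xce6216488e6d7caaa3a4a2a4020)) (.node (nat_lit 6) (.leaf (nat_lit 0x24323cc86260789554acc4b6b820)) (.leaf (nat_lit 0x26f8986e831342914da8a483ac20))))) (.node (nat_lit 9) (.node (nat_lit 8) (.leaf (nat_lit 0x293ab0b05456848db2119c779020)) (.leaf (nat_lit 0xf2aa62c511cb81a829bd0d19420))) (.node (nat_lit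 10) (.leaf (nat_lit 0xc4640e9abcb352043a39b15c820)) (.node (nat_lit 11) (.leaf (nat_lit 0x1ed5b2743a915308a3911d182420)) (.leaf (nat_lit 0x8c34da941d4312cb0939f4ac420)))))) (.node (nat_lit 17) (.node (nat_lit 14) (.node (nat_lit 13) (.leaf (nat_lit 0x1a638df1ab2029ad454a09474820)) (.leaf (nat_lit 0x1953b96f4cc446c50534a03a2820))) (.node (nat_lit 15) (.leaf (nat_lit 0x20b8d5c3989343b5043324a2bc20)) (.node (nat_lit 16) (.leaf (nat_lit 0x266a3d551325129c6d7412b22020)) (.leaf (nat_lit 0x1d19a682355ac40e4b23ca754020))))) (.node (nat_lit 19) (.node (nat_lit 18) (.leaf (nat_lit 0x6491c4829a345360f74d3562c20)) (.leaf (nat_lit 0x1e760892718b31ae0a8d5b442420))) (.node (nat_lit 20) (.leaf (nat_lit 0x1141452a6d4875964e3320f98c20)) (.node (nat_lit 21) (.leaf (nat_lit 0x122690f5344ac92a1470e6b7a020)) (.leaf (nat_lit 0x48a3aaa9c251235677b12329820)))))))⟩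
def g22C2 : LevCert := ⟨g22L2,
    [(nat_lit 9, nat_lit 0), (nat_lit 13, nat_lit 1), (nat_lit 16, nat_lit 0), (nat_lit 15, nat_lit 1), (nat_lit 5, nat_lit 0), (nat_lit 11, nat_lit 1), (nat_lit 18, nat_lit 0), (nat_lit 14, nat_lit 0), (nat_lit 8, nat_lit 1), (nat_lit 3, nat_lit 0), (nat_lit 17, nat_lit 1), (nat_lit 6, nat_lit 1), (nat_lit 10, nat_lit 0), (nat_lit 4, nat_lit 1), (nat_lit 21, nat_lit 0), (nat_lit 7, nat_lit 1), (nat_lit 20, nat_lit 0), (nat_lit 12, nat_lit 1), (nat_lit 19, nat_lit 1)],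
    [[nat_lit 2, nat_lit 2, nat_lit 0, nat_lit 2, nat_lit 0, nat_lit 0, nat_lit 0, nat_lit 2, nat_lit 2], [nat_lit 2, nat_lit 2, nat_lit 2, nat_lit 4, nat_lit 2, nat_lit 2, nat_lit 4, nat_lit 2, nat_lit 2, nat_lit 2, nat_lit 2, nat_lit 4, nat_lit 4, nat_lit 4, nat_lit 4, nat_lit 4, nat_lit 2, nat_lit 2], [nat_lit 6, nat_lit 4, nat_lit 6, nat_lit 4, nat_lit 6]],
    [nat_lit 0x1cc334a492deaad2688246788820, nat_lit 0x22d41587551d590e692197078820, nat_lit 0x2af928c72ad3144c6e2329068820]⟩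
def g22L3 : Lev := ⟨nat_lit 3, nat_lit 0x3eff68, (.node (nat_lit 13) (.node (nat_lit 9) (.node (nat_lit 6) (.node (nat_lit 5) (.leaf (nat_lit 0x2b49ca307b9ac5a928398a418820)) (.leaf (nat_lit 0x1cc334a492deaad2688246788820))) (.node (nat_lit 8) (.leaf (nat_lit 0x17162690520b3abe4e38da430820)) (.leaf (nat_lit 0xc9752249bd75536438310728820)))) (.node (nat_lit 11) (.node (nat_lit 10) (.leaf (nat_lit 0x2af928c72ad3144c6e2329068820)) (.leaf (nat_lit 0x22d41587551d590e692197078820))) (.node (nat_lit 12) (.leaf (nat_lit 0x14b9d5c78bd851c906225b0a0820)) (.leaf (nat_lit 0x295339702c9438b5093cde460820))))) (.node (nat_lit 18) (.node (nat_lit 15) (.node (nat_lit 14) (.leaf (nat_lit 0x2a554d84a2066749ab845e748820)) (.leaf (nat_lit 0x1e54b1b0a8e3252e663a28470820))) (.node (nat_lit 17) (.leaf (nat_lit 0x1d26d1301d66541a2b3a98478820)) (.leaf (nat_lit 0x16a4bc676d654730c824e3028820)))) (.node (nat_lit 20)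 (.node (nat_lit 19) (.leaf (nat_lit 0xaf40d50a316e6c4d33a6a490820)) (.leaf (nat_lit 0xb41c527ab4ca9a24c239f058820))) (.node (nat_lit 21) (.leaf (nat_lit 0x1c3a1947622295b5f52165098820)) (.leaf (nat_lit 0x724468462aab7952684dc768820))))))⟩
def g22C3 : LevCert := ⟨g22L3,
    [(nat_lit 5, nat_lit 0), (nat_lit 10, nat_lit 1), (nat_lit 9, nat_lit 2), (nat_lit 17, nat_lit 0), (nat_lit 18, nat_lit 1), (nat_lit 15, nat_lit 2), (nat_lit 12, nat_lit 0), (nat_lit 6, nat_lit 0), (nat_lit 8, nat_lit 1), (nat_lit 13, nat_lit 2), (nat_lit 21, nat_lit 1), (nat_lit 11, nat_lit 1), (nat_lit 19, nat_lit 2), (nat_lit 20, nat_lit 2), (nat_lit 14, nat_lit 0)],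
    [[nat_lit 4, nat_lit 4, nat_lit 0, nat_lit 4, nat_lit 2, nat_lit 4, nat_lit 4]],
    [nat_lit 0x1aba39045313299aa583e2718820]⟩
def g22L4 : Lev := ⟨nat_lit 4, nat_lit 0x10090, (.node (nat_lit 7) (.leaf (nat_lit 0x2b49ca307b9ac5a928398a418820)) (.node (nat_lit 16) (.leaf (nat_lit 0x1335b0a734aaea3db12291018820)) (.leaf (nat_lit 0x1aba39045313299aa583e2718820))))⟩
def g22C4 : LevCert := ⟨g22L4,
    [(nat_lit 16, nat_lit 0), (nat_lit 7, nat_lit 0)],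
    [],
    []⟩
def g22 : List LevCert := [g22C0, g22C1, g22C2, g22C3, g22C4]
def g22L : List Lev := [g22L0, g22L1, g22L2, g22L3, g22L4]
def g22G : List ℕ := [nat_lit 0x175a4e5183dcd6014941cc520c41, nat_lit 0x2706d64f6522e5a0a251c8149860, nat_lit 0x2a66c66a1224703c8ea30654c02b]
def k0B : List ℕ := [nat_lit 0x16d84e32a39f560045418e919141, nat_lit 0x1f0ab22b9ba4da10aa0980819c49, nat_lit 0x1f36d5d0a458b9110250ca930407, nat_lit 0x1af951d56460b9888748d4131408]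
def k0A : List ℕ := [nat_lit 0x16d84e32a39f560045418e919141, nat_lit 0x1f0ab22b9ba4da10aa0980819c49]
def k0aL0 : Lev := ⟨nat_lit 0, nat_lit 0x7b7, (.node (nat_lit 5) (.node (nat_lit 2) (.node (nat_lit 1) (.leaf (nat_lit 0x2b49ca307b9ac5a928398a418820)) (.leaf (nat_lit 0x18f942336ba8ba8487299021a40a))) (.node (nat_lit 4) (.leaf (nat_lit 0x2556d22f6397099d4249881180a8)) (.leaf (nat_lit 0x20ca3e2d5bab391429218401a907)))) (.node (nat_lit 8) (.node (nat_lit 7) (.leaf (nat_lit 0x1f0ab22b9ba4da10aa0980819c49)) (.leaf (nat_lit 0x1b362e3593a14789010194719524))) (.node (nat_lit 9) (.leaf (nat_lit 0x2925d62c83a6f6a4e0518251a082)) (.node (nat_lit 10) (.leaf (nat_lit 0x26b7b634ab992820041192a184e5)) (.leaf (nat_lit 0x16d84e32a39f560045418e919141))))))⟩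
def k0aC0 : LevCert := ⟨k0aL0,
    [(nat_lit 10, nat_lit 0), (nat_lit 5, nat_lit 1), (nat_lit 1, nat_lit 0), (nat_lit 8, nat_lit 1), (nat_lit 9, nat_lit 1), (nat_lit 7, nat_lit 1), (nat_lit 4, nat_lit 1), (nat_lit 2, nat_lit 1)],
    [],
    []⟩
def k0a : List LevCert := [k0aC0]
def k0aL : List Lev := [k0aL0]
def k0bL0 : Lev := ⟨nat_lit 0, nat_lit 0x7b7, (.node (nat_lit 5) (.node (nat_lit 2) (.node (nat_lit 1) (.leaf (nat_lit 0x2b49ca307b9ac5a928398a418820)) (.leaf (nat_lit 0x1f36d5d0a458b9110250ca930407))) (.node (nat_lit 4) (.leaf (nat_lit 0x253641cf6c574a9d0128c823012a)) (.leaf (nat_lit 0x194ace2f5ba126852a41880194e2)))) (.node (nat_lit 8) (.node (nat_lit 7) (.leaf (nat_lit 0x1f0ab22b9ba4da10aa0980819c49)) (.leaf (nat_lit 0x2907add26c6ac9a4a400ce232828))) (.node (nat_lit 9) (.leaf (nat_lit 0x2925d62c83a6f6a4e0518251a082)) (.node (nat_lit 10) (.leaf (nat_lit 0x26b7b634ab992820041192a184e5))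 (.leaf (nat_lit 0x16d84e32a39f560045418e919141))))))⟩
def k0bC0 : LevCert := ⟨k0bL0,
    [(nat_lit 10, nat_lit 0), (nat_lit 5, nat_lit 1), (nat_lit 1, nat_lit 2), (nat_lit 8, nat_lit 1), (nat_lit 7, nat_lit 2), (nat_lit 9, nat_lit 1), (nat_lit 2, nat_lit 3), (nat_lit 4, nat_lit 3)],
    [[nat_lit 4, nat_lit 6, nat_lit 4, nat_lit 6, nat_lit 2, nat_lit 6, nat_lit 4, nat_lit 4, nat_lit 2, nat_lit 4], [nat_lit 6, nat_lit 2]],
    [nat_lit 0x28c7ce356ba505a4244194219ca0, nat_lit 0x24c835d59c68f59c2510d4832480]⟩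
def k0bL1 : Lev := ⟨nat_lit 1, nat_lit 0x7b6, (.node (nat_lit 7) (.node (nat_lit 4) (.node (nat_lit 2) (.leaf (nat_lit 0x2b49ca307b9ac5a928398a418820)) (.leaf (nat_lit 0x270ac9d47c58d5a0aa38d2430440))) (.node (nat_lit 5) (.leaf (nat_lit 0x20d7d5d3646545944450d0131d20)) (.leaf (nat_lit 0x2159362c9b9f4595471182819120)))) (.node (nat_lit 9) (.node (nat_lit 8) (.leaf (nat_lit 0x24da3233aba0f59c490990a19480)) (.leaf (nat_lit 0x1b463dd0946b35892120ca732900))) (.node (nat_lit 10) (.leaf (nat_lit 0x28c7ce356ba505a4244194219ca0)) (.leaf (nat_lit 0x1906be3493a75584a2219271a140)))))⟩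
def k0bC1 : LevCert := ⟨k0bL1,
    [(nat_lit 9, nat_lit 0), (nat_lit 10, nat_lit 0), (nat_lit 2, nat_lit 1), (nat_lit 5, nat_lit 0), (nat_lit 4, nat_lit 0), (nat_lit 7, nat_lit 1), (nat_lit 8, nat_lit 1)],
    [[nat_lit 0, nat_lit 2, nat_lit 0, nat_lit 0, nat_lit 2, nat_lit 2]],
    [nat_lit 0x2b26d1cf8466c5a8e248c8532020]⟩
def k0bL2 : Lev := ⟨nat_lit 2, nat_lit 260, (.node (nat_lit 8) (.leaf (nat_lit 0x2b49ca307b9ac5a928398a418820)) (.leaf (nat_lit 0x2b26d1cf8466c5a8e248c8532020)))⟩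
def k0bC2 : LevCert := ⟨k0bL2,
    [(nat_lit 8, nat_lit 0)],
    [],
    []⟩
def k0b : List LevCert := [k0bC0, k0bC1, k0bC2]
def k0bL : List Lev := [k0bL0, k0bL1, k0bL2]
def k1B : List ℕ := [nat_lit 0x7a204a7b98682e499b6a418625, nat_lit 0x2b5152d7b8f333015850441c911, nat_lit 0x2306cab473e6c598a23a92322020, nat_lit 0x1a14c0e81be35009942ca6e2194b]
def k1A : List ℕ := [nat_lit 0x7a204a7b98682e499b6a418625, nat_lit 0x2b5152d7b8f333015850441c911]
def k1aL0 : Lev := ⟨nat_lit 0, nat_lit 0x260327, (.node (nat_lit 8) (.node (nat_lit 2) (.node (nat_lit 1) (.leaf (nat_lit 0x2b49ca307b9ac5a928398a418820)) (.leaf (nat_lit 0x12d304b37b94b3d051641041d412))) (.node (nat_lit 5) (.leaf (nat_lit 0x24c6c6b47b97099c2232924180a8)) (.leaf (nat_lit 0xb33a42b7b8cd54112a30041c455)))) (.node (nat_lit 17) (.node (nat_lit 9) (.leaf (nat_lit 0x2305d64c7ba74698a051c241a122)) (.leaf (nat_lit 0x2b5152d7b8f333015850441c911)))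 (.node (nat_lit 18) (.leaf (nat_lit 0x106608077ba0aa4e216ae44196a9)) (.node (nat_lit 21) (.leaf (nat_lit 0x4a801067ba87636a55ce241a641)) (.leaf (nat_lit 0x7a204a7b98682e499b6a418625))))))⟩
def k1aC0 : LevCert := ⟨k1aL0,
    [(nat_lit 21, nat_lit 0), (nat_lit 9, nat_lit 1), (nat_lit 5, nat_lit 0), (nat_lit 8, nat_lit 1), (nat_lit 17, nat_lit 1), (nat_lit 18, nat_lit 1), (nat_lit 1, nat_lit 1), (nat_lit 2, nat_lit 1)],
    [],
    []⟩
def k1a : List LevCert := [k1aC0]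
def k1aL : List Lev := [k1aL0]
def k1bL0 : Lev := ⟨nat_lit 0, nat_lit 0x3f3fe7, (.node (nat_lit 11) (.node (nat_lit 6) (.node (nat_lit 2) (.node (nat_lit 1) (.leaf (nat_lit 0x2b49ca307b9ac5a928398a418820)) (.leaf (nat_lit 0x12d304b37b94b3d051641041d412))) (.node (nat_lit 5) (.leaf (nat_lit 0x24c9d63073d7469c28518a320122)) (.leaf (nat_lit 0xb33a42b7b8cd54112a30041c455)))) (.node (nat_lit 8) (.node (nat_lit 7) (.leaf (nat_lit 0xc2ad16578c32445aa48204730f3)) (.leaf (nat_lit 0xc242e921bc25ac5b3024ee2320a))) (.node (nat_lit 9) (.leaf (nat_lit 0x2305d64c7ba74698a051c241a122)) (.node (nat_lit 10) (.leaf (nat_lit 0x2b5152d7b8f333015850441c911)) (.leaf (nat_lit 0x1650d0c21beb24020c4c5ae228f3)))))) (.node (nat_lit 17) (.node (nat_lit 13) (.node (nat_lit 12) (.leaf (nat_lit 0x1a14c0e81be35009942ca6e2194b)) (.leaf (nat_lit 0x19192a691bc40284c7aa28e23570))) (.node (nat_lit 16) (.leaf (nat_lit 0x291a9e61238022a4ca9218f1adb0))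 (.leaf (nat_lit 0x2692b1401be51122900d56e21ccd)))) (.node (nat_lit 19) (.node (nat_lit 18) (.leaf (nat_lit 0x4a6200773e86836a19ae4322625)) (.leaf (nat_lit 0x4a801067ba87636a55ce241a641))) (.node (nat_lit 20) (.leaf (nat_lit 0xe8036151bd218ca6b1154e25186)) (.node (nat_lit 21) (.leaf (nat_lit 0x14014d911bca99556d404ce24287)) (.leaf (nat_lit 0x7a204a7b98682e499b6a418625)))))))⟩
def k1bC0 : LevCert := ⟨k1bL0,
    [(nat_lit 21, nat_lit 0), (nat_lit 9, nat_lit 1), (nat_lit 11, nat_lit 3), (nat_lit 5, nat_lit 0), (nat_lit 8, nat_lit 1), (nat_lit 17, nat_lit 2), (nat_lit 12, nat_lit 3), (nat_lit 19, nat_lit 3), (nat_lit 10, nat_lit 0), (nat_lit 20, nat_lit 1), (nat_lit 18, nat_lit 1), (nat_lit 7, nat_lit 3), (nat_lit 1, nat_lit 1), (nat_lit 2, nat_lit 2), (nat_lit 16, nat_lit 3), (nat_lit 13, nat_lit 3), (nat_lit 6, nat_lit 2)],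
    [[nat_lit 0, nat_lit 0, nat_lit 6, nat_lit 4, nat_lit 0, nat_lit 4, nat_lit 0, nat_lit 4, nat_lit 6], [nat_lit 2, nat_lit 4, nat_lit 8, nat_lit 8, nat_lit 4, nat_lit 4, nat_lit 8, nat_lit 6, nat_lit 8, nat_lit 4]],
    [nat_lit 0x12a984a673da75d2a86422320a40, nat_lit 0x2a660930190f35aa216d0ae7c900]⟩
def k1bL1 : Lev := ⟨nat_lit 2, nat_lit 0x40106, (.node (nat_lit 8) (.node (nat_lit 2) (.leaf (nat_lit 0x22a620b420ced59aa19c12f74840)) (.leaf (nat_lit 0x2b49ca307b9ac5a928398a418820))) (.node (nat_lit 18) (.leaf (nat_lit 0x2306cab473e6c598a23a92322020)) (.leaf (nat_lit 0x2a660930190f35aa216d0ae7c900))))⟩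
def k1bC1 : LevCert := ⟨k1bL1,
    [(nat_lit 18, nat_lit 1), (nat_lit 1, nat_lit 0), (nat_lit 8, nat_lit 1)],
    [[nat_lit 0, nat_lit 0, nat_lit 0, nat_lit 2, nat_lit 2, nat_lit 2, nat_lit 2]],
    [nat_lit 0x12a984a673da75d2a86422320a40]⟩
def k1bL2 : Lev := ⟨nat_lit 1, nat_lit 0x40002, (.node (nat_lit 18) (.leaf (nat_lit 0x2b49ca307b9ac5a928398a418820)) (.leaf (nat_lit 0x12a984a673da75d2a86422320a40)))⟩
def k1bC2 : LevCert := ⟨k1bL2,
    [(nat_lit 18, nat_lit 0)],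
    [],
    []⟩
def k1b : List LevCert := [k1bC0, k1bC1, k1bC2]
def k1bL : List Lev := [k1bL0, k1bL1, k1bL2]
def g22X : ℕ := nat_lit 0x175a4e5183dcd6014941cc520c41
def g22Y : ℕ := nat_lit 0x2706d64f6522e5a0a251c8149860
def g22Yj : ℕ := nat_lit 0x1af8ceac74254588864282329d20
def g22Cs : List ℕ := [nat_lit 0x2b49ca307b9ac5a928398a418820, nat_lit 0x18d73e1194e9558443214c742540]
def g22Ws : List (List ℕ) := [[nat_lit 0, nat_lit 2], [nat_lit 0, nat_lit 2, nat_lit 2], [nat_lit 0, nat_lit 2, nat_lit 2, nat_lit 2], [nat_lit 0, nat_lit 3], [nat_lit 0, nat_lit 0, nat_lit 2], [nat_lit 0, nat_lit 2, nat_lit 0, nat_lit 2, nat_lit 2], [nat_lit 0, nat_lit 2, nat_lit 2, nat_lit 0, nat_lit 3]]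
def g22Tg : List (List ℕ × List (List ℕ)) := [(g22G, [[nat_lit 3], [nat_lit 2]]), (g22G, [[nat_lit 3], [nat_lit 2, nat_lit 6]]), (k0B, [[nat_lit 0, nat_lit 0, nat_lit 2], [nat_lit 4, nat_lit 2, nat_lit 4, nat_lit 2, nat_lit 5], [nat_lit 4, nat_lit 7], [nat_lit 6, nat_lit 10, nat_lit 9, nat_lit 6]]), (k0B, [[nat_lit 0, nat_lit 4, nat_lit 0, nat_lit 3], [nat_lit 2, nat_lit 2, nat_lit 7, nat_lit 4, nat_lit 3, nat_lit 4, nat_lit 6], [nat_lit 9, nat_lit 4, nat_lit 6], [nat_lit 10, nat_lit 6, nat_lit 8, nat_lit 11, nat_lit 6]]), (k1B, [[nat_lit 0, nat_lit 5, nat_lit 2], [nat_lit 2, nat_lit 2, nat_lit 5, nat_lit 6, nat_lit 2], [nat_lit 4, nat_lit 4], [nat_lit 8, nat_lit 6, nat_lit 8, nat_lit 8]]), (k1B, [[nat_lit 5, nat_lit 0, nat_lit 3], [nat_lit 2, nat_lit 2, nat_lit 5, nat_lit 5, nat_lit 7, nat_lit 2], [nat_lit 4, nat_lit 9, nat_lit 4], [nat_lit 9, nat_lit 6, nat_lit 8, nat_lit 11, nat_lit 11]])]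
def g22Tab : ℕ := nat_lit 0xffffffdc00000000ffffff7c00000000fffffffeffffffdc0000000000000000fffff7fcffffff7cffffffdcfffffffe00000000fffffffe00000000ffffffdcffffff7cfffffffe00000000fffff7fcffffffdc0000000000000000ffffff7c00000000ffffffdc0000000000000000000000000000000000000000

/-- the numbering of the points -/
abbrev E22 : Enc (Fin 22) 22 5 32 := finEnc 22 5 32 rfl (by decide)

theorem s22_chain : E22.IsChain (s22.map LevCert.L) ⊤ :=
  isChain_top (gens := s22G) (by decide +kernel) (by decide +kernel) (by decide +kernel)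

/-- the candidates have order dividing four -/
noncomputable def g22Pre (T : ℕ) : Bool :=
  force (comp 5 32 22 T T) fun U => Nat.beq (comp 5 32 22 U U) (idP 5 22)

/-- the search with the image of the point `1` prescribed -/
noncomputable def g22S (q : ℕ) : Bool :=
  allI 5 32 22 (s22.map LevCert.L) 0 [(g22Y, g22Yj)] [(indP 5 22 1, indP 5 22 q)]
    (candM 5 32 22 g22Tab g22Pre g22Ws g22Cs g22Tg [g22X, g22Y])

theorem g22S0 : g22S 0 = true := by decide +kernel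
theorem g22S11 : g22S 11 = true := by decide +kernel
theorem g22S1 : g22S 1 = true := by decide +kernel
theorem g22S2 : g22S 2 = true := by decide +kernel

end M22

end Cfsg.Agent.H16
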