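import Cfsg.Agent.H16.Gen4

/-! Simple groups of order 10200960: the searches. -/

set_option autoImplicit false
set_option linter.unusedSectionVars false
set_option synthInstance.maxSize 2048

namespace Cfsg.Agent.H16

open Cfsg Subgroup H35 H14

instance fact23 : Fact (Nat.Prime 23) := ⟨by norm_num⟩

namespace M23

/-- the factorisation of the order -/
def ps : List (ℕ × ℕ) := [(2, 7), (3, 2), (5, 1), (7, 1), (11, 1), (23, 1)]

/-- the possible degrees -/
def DD : List ℕ := [3168, 3080, 3036, 2944, 2898, 2880, 2772, 2760, 2688, 2640, 2576, 2530, 2520,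
  2464, 2415, 2310, 2277, 2240, 2208, 2112, 2070, 2024, 2016, 1980, 1932, 1920, 1848, 1840, 1771,
  1760, 1680, 1656, 1610, 1584, 1540, 1518, 1472, 1449, 1440, 1408, 1386, 1380, 1344, 1320, 1288,
  1265, 1260, 1232, 1155, 1152, 1120, 1104, 1056, 1035, 1012, 1008, 990, 966, 960, 924, 920, 896,
  880, 840, 828, 805, 792, 770, 759, 736, 720, 704, 693, 690, 672, 660, 644, 640, 630, 616, 576,
  560, 552, 528, 506, 504, 495, 483, 480, 462, 460, 448, 440, 420, 414, 396, 385, 384, 368, 360,
  352, 345, 336, 330, 322, 320, 315, 308, 288, 280, 276, 264, 253, 252, 240, 231, 230, 224, 220,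
  210, 207, 198, 192, 184, 180, 176, 168, 165, 161, 160, 154, 144, 140, 138, 132, 128, 126, 120,
  115, 112, 110, 105, 99, 96, 92, 90, 88, 84, 80, 77, 72, 70, 69, 66, 64, 63, 60, 56, 55, 48, 46,
  45, 44, 42, 40, 36, 35, 33, 32, 30, 28, 24, 23, 22, 21, 20, 18, 16, 15, 14, 12, 11, 10, 9, 8, 7,
  6, 5, 4, 3, 2]

theorem hps : ∀ x ∈ ps, x.1.Prime := by simp only [ps, List.forall_mem_cons]; norm_num
theorem hps' : (ps.map fun x => x.1 ^ x.2).prod = 10200960 := by decide +kernel
theorem hDD : ddOK 10200960 ps DD = true := by decide +kernel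

theorem sV23 : optS 23 10200960 3200 ps DD (fun v _ => decide (v ≠ 1)) (fun _ => true) (fun _ => [])
    [(2, 5), (3, 0)] (fun v e l => decide (v % 2 = 0) && allD ps fun c => bimp (centOK 23 v e c)
      (colS2 23 e v 10200960 c (4 * 23) l (fun _ _ => true) [] [] fun _ => false)) = true := by decide +kernel

/-- the degrees in the possible principal 11-blocks -/
def U11 : List ℕ := [1656, 1288, 1035, 896, 736, 644, 483, 368, 276, 252, 230, 160, 138, 115, 45,
  23]

theorem s11 : optS 11 10200960 3200 ps DD (fun v _ => decide (v % 23 ≠ 0))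
    (fun d => decide (d % 23 = 0 ∨ degOK 23 11 d)) (fun e => [crossC 11 e 23 11]) [(2, 5), (3, 0)]
    (fun v e l => if v = 1 then decide (e = 5 ∧ l ⊆ U11 ∧ (896 ∈ l → l = [45, 45, 230, 896, 1035]))
      else if v % 7 = 0 ∧ e = 2 then allD ps fun c =>
        trS2 11 e 10200960 7 c (7 * 11) l (fun d a => decide (ratOK 7 (10200960 / c) l d a)) [] []
          fun _ => false
      else decide (v % 2 = 0) && allD ps fun c => bimp (centOK 11 v e c)
        (colS2 11 e v 10200960 c (4 * 11) l (fun _ _ => true) [] [] fun _ => false)) = true := by decide +kernel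

theorem s5 : optS 5 10200960 3200 ps DD (fun v _ => decide (v % 23 ≠ 0 ∧ v % 11 ≠ 0))
    (fun d => decide ((d % 23 = 0 ∨ degOK 23 11 d) ∧ (d % 11 = 0 ∨ d ∈ U11)))
    (fun e => [crossC 5 e 23 11, crossC 5 e 11 5]) [(2, 5), (3, 0)]
    (fun v e l => if 896 ∈ l then true else decide (v = 3) && allD ps fun c =>
      bimp (decide (c % 128 = 0 ∧ c % 23 ≠ 0 ∧ c % 11 ≠ 0))
        (colS2 5 e 3 10200960 c 4 l (fun _ _ => true) [] [(2, 7)] fun _ => false)) = true := by
  decide +kernel

/-- the column on the 11-block -/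
def c11 : List (ℕ × ℤ) := [(1035, 27), (896, 0), (230, 22), (45, -3), (45, -3)]

theorem sz : allD ps (fun c => bimp (decide (c % 128 = 0 ∧ c % 23 ≠ 0 ∧ c % 11 ≠ 0))
    (colS2 11 5 1 10200960 c 4 [45, 45, 230, 896, 1035] (fun _ _ => true) []
      [(2, 7), (3, 2), (5, 1), (7, 1), (23, 1)] fun l' => decide (c = 2688 ∧ l' = c11))) = true := by
  decide +kernel

theorem sB : optS 23 10200960 3200 ps DD (fun v _ => decide (v = 1))
    (fun d => decide (d % 11 = 0 ∨ d ∈ [1035, 896, 230, 45, 45]))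
    (fun e => [crossC 23 e 11 5, M22.cnt 45 2, M22.cnt 896 2]) [(2, 5), (3, 0)]
    (fun _ e l => colS2 23 e 1 10200960 2688 4 l (fun d a => decide (d % 11 = 0 ∨ (d, a) ∈ c11)) []
      [(2, 7), (3, 2), (5, 1), (7, 1), (11, 1)] fun l' => decide ((22, 6) ∈ l' ∧
        (l'.map Prod.fst).count 22 ≤ 1 ∧ ∀ x ∈ l', x.1 ≤ 253 → x.1 ∈ [231, 45, 22])) = true := by
  decide +kernel

end M23

end Cfsg.Agent.H16
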