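import Cfsg.Agent.H16.M24s
import Cfsg.Agent.H16.M23a

/-! Simple groups of order 244823040: the primes 23 and 11. -/

set_option autoImplicit false
set_option linter.unusedSectionVars false
set_option synthInstance.maxSize 2048

namespace Cfsg.Agent.H16

open Cfsg Subgroup H35 H14
open scoped ComplexConjugate

variable {G : Type*} [Group G] [Finite G]

namespace M24

variable [IsSimpleGroup G] (hc : Nat.card G = 244823040)
include hc

theorem perfect : commutator G = ⊤ :=
  H36.commutator_eq_top_of_simple (by rw [hc]; norm_num)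

theorem opt_sound {p : ℕ} [Fact p.Prime] {S : Setup G p} (P : PB S) (hp : 3 < p)
    {exv : ℕ → ℕ → Bool} {ex : ℕ → Bool} {cs : ℕ → List (Cst ℕ)} {Q : ℕ → ℕ → List ℕ → Bool}
    (h : opt p exv ex cs Q = true) (hexv : exv (Nat.card S.V) S.V.index = true)
    (hex : ∀ χ ∈ P.Z, ex (dg χ) = true) (hcs : ∀ c ∈ cs S.V.index, c.Holds P.Z.val dg) :
    ∃ L : List (IrrCharacter G), P.Z.val = L ∧ Q (Nat.card S.V) S.V.index (L.map dg) = true :=
  P.optS_sound (perfect hc) hc hps hps' hDD h hexv hex hcs (by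
    simp only [List.forall_mem_cons]; norm_num; omega)

theorem col_sound {p : ℕ} [Fact p.Prime] {S : Setup G p} (P : PB S) {e v c m : ℕ}
    (he : S.V.index = e) (hv : Nat.card S.V = v) {t : G} (ht : orderOf t = 2)
    (hc' : Nat.card (centralizer ({t} : Set G)) = c) {L : List (IrrCharacter G)} (hL : P.Z.val = L)
    {l : List ℕ} (hl : L.map dg = l) {Lp : List (IrrCharacter G)} (hp1 : Lp.Nodup)
    (hp2 : ∀ χ ∈ Lp, χ ∈ P.Z) {pre : List (ℕ × ℤ)}
    (hpre : (Lp.map fun χ => (dg χ, ival t χ)) = pre) {N : ℤ}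
    (hN : ∑ χ ∈ P.Z, mu p e (dg χ) * ival t χ ^ 2 ≤ N) {Q : List (ℕ × ℤ) → Bool}
    (h : col p e v c m N l.reverse pre Q = true) (hm : 0 < m)
    (hm' : ∀ χ ∈ P.Z, (m : ℤ) ∣ dg χ - ival t χ) :
    ∃ L : List (IrrCharacter G), P.Z.val = L ∧ Q (L.map fun χ => (dg χ, ival t χ)) = true :=
  P.colR_sound (perfect hc) he hv hc ht hc' (L := L.reverse) (by rw [hL, Multiset.coe_reverse])
    (by rw [List.map_reverse, hl]) hp1 hp2 hpre hN h hm hm' (hfq p v)

theorem no_col {p : ℕ} [Fact p.Prime] {S : Setup G p} (P : PB S) {t : G} (ht : orderOf t = 2)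
    {w : S.V} (hw : IsConj t (w : S.K)) {L : List (IrrCharacter G)} (hL : P.Z.val = L) :
    col p S.V.index (Nat.card S.V) (Nat.card (centralizer ({t} : Set G))) (4 * p)
      (Nat.card (centralizer ({t} : Set G)) - 1) (L.map dg).reverse [] (fun _ => false) ≠ true :=
  fun h => by
    obtain ⟨-, -, h⟩ := col_sound hc P rfl rfl ht rfl hL rfl (Lp := []) (by simp) (by simp) rfl
      (P.norm_inv (perfect hc) ht) h (Nat.mul_pos (by norm_num) (Fact.out : p.Prime).pos)
      fun χ hχ => P.four_mul_dvd (perfect hc) hχ ht hw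
    cases h

theorem block23 (S : Setup G 23) : Nat.card S.V = 1 ∧ S.V.index = 11 := by
  have hG := perfect hc
  obtain ⟨P⟩ := nonempty_PB hG S
  have hV : Nat.card S.V = 1 := by
    by_contra hV
    by_cases hX : (Nat.card S.V, S.V.index) ∈ X4
    swap
    · obtain ⟨-, -, h⟩ := opt_sound hc P (by norm_num) sV23 (decide_eq_true ⟨hV, hX⟩)
        (fun _ _ => rfl) (by simp)
      cases h
    obtain ⟨w, hw, h1⟩ : ∃ w : S.V, orderOf ((w : S.K) : G) = 2 ∧
        11 ^ 1 ∣ Nat.card (centralizer ({(w : S.K)} : Set S.K)) := by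
      simp only [X4, List.mem_cons, Prod.mk.injEq, List.not_mem_nil, or_false] at hX
      rcases hX with ⟨h1, h2⟩ | hX
      · obtain ⟨w, hw⟩ := exists_V S Nat.prime_two (by rw [h1]; norm_num)
        obtain ⟨u, hu⟩ := exists_V S Nat.prime_three (by rw [h1]; norm_num)
        have h3 := index_cent_le S (w := w) (u := u) (fun e => by simp [e] at hw)
          (fun e => by simp [e] at hu) (by omega)
        have h4 := card_mul_index (centralizer ({(w : S.K)} : Set S.K))
        have h5 : (centralizer ({(w : S.K)} : Set S.K)).index ≠ 0 := index_ne_zero_of_finite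
        rw [← S.V.card_mul_index, h1, h2] at h4
        exact ⟨w, hw, (fact11.out.dvd_mul.mp (Dvd.intro 24 h4.symm)).resolve_right fun h => by
          have := Nat.le_of_dvd (by omega) h; omega⟩
      · refine exists_fixV S fact11.out Nat.prime_two ?_ fun t ht => ?_
        · rcases hX with h | h | h <;> rw [h.1, h.2] <;> norm_num
        · have : ∀ v ∈ [24, 288, 576], ∀ t ∈ List.range 577, v % t = 0 → v % 11 = t % 11 →
            2 ∣ t := by decide +kernel
          exact this _ (by simp only [List.mem_cons]; omega) t (List.mem_range.mpr (by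
            have := Nat.le_of_dvd Nat.card_pos ht; omega)) (Nat.mod_eq_zero_of_dvd ht)
    obtain ⟨χ, hχ, h2⟩ : ∃ χ ∈ P.Z, dg χ % 2 = 1 := by
      by_contra h
      push Not at h
      have := Finset.dvd_sum (a := (2 : ℤ)) (f := fun χ => sgn 23 S.V.index (dg χ) * dg χ)
        fun χ hχ => Dvd.dvd.mul_left (by have := h χ hχ; omega) _
      rw [P.lin_deg] at this
      omega
    have h3 := P.deg_spec hG hc (P.mem_XY hχ) (P.ne_triv hχ)
    have h4 := sX4 _ hX _ (mem_dd hG hc hps hps' hDD (P.ne_triv hχ)) h3.1 h3.2.1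
      (h3.2.2.resolve_left hV) h2
    have h5 := (ival_inv hG (by rw [← sq, ← hw, pow_orderOf_eq_one]) χ).1
    have h6 := abs_lt.mp (abs_lt_of_simple hG (P.ne_triv hχ) (fun e => by simp [e] at hw) h5)
    have h7 := P.four_mul_dvd hG hχ hw (IsConj.refl _)
    have h8 := (Int.prime_iff_natAbs_prime.mpr fact11.out : Prime (11 : ℤ)).dvd_or_dvd
      ((by omega : (11 : ℤ) ∣ dg χ).trans (dg_dvd_index_mul χ h5))
    have h9 := card_mul_index (centralizer ({((w : S.K) : G)} : Set G))
    obtain ⟨k, hk⟩ := h1.trans (card_centK_dvd S w)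
    rw [hk, hc, mul_assoc] at h9
    rcases h8 with h8 | h8
    · obtain ⟨j, hj⟩ := Int.natCast_dvd_natCast.mp (show ((11 : ℕ) : ℤ) ∣ _ from h8)
      rw [hj, mul_left_comm k] at h9
      omega
    · omega
  obtain ⟨k1, k2, -, k3, k4, -⟩ := numerics hG S
  rw [hc, hV] at k1
  have := Nat.le_of_dvd (by norm_num) k4
  refine ⟨hV, ?_⟩
  generalize S.V.index = e at *
  interval_cases e <;> omega

theorem setup {p : ℕ} [Fact p.Prime] (hp : p ∈ [5, 7, 11, 23]) :
    ∃ S : Setup G p, Nonempty (PB S) := by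
  have : ∀ p ∈ [5, 7, 11, 23], p ∣ 244823040 ∧ ¬ p ^ 2 ∣ 244823040 := by decide
  obtain ⟨S⟩ : Nonempty (Setup G p) := exists_setup' (hc ▸ (this p hp).1) (hc ▸ (this p hp).2)
  exact ⟨S, nonempty_PB (perfect hc) S⟩

theorem ok23_of (χ : IrrCharacter G) : ok23 (dg χ) := by
  obtain ⟨T, ⟨Q⟩⟩ := setup hc (p := 23) (by simp)
  have := (Q.trace_all (block23 hc T).1 χ).2
  rwa [(block23 hc T).2] at this

theorem cross23 {p : ℕ} [Fact p.Prime] {S : Setup G p} (P : PB S) (hp : p ≠ 23) :
    (crossC p S.V.index 23 11).Holds P.Z.val dg := by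
  obtain ⟨T, ⟨Q⟩⟩ := setup hc (p := 23) (by simp)
  exact P.holds_cross Q (block23 hc T).1 hp rfl (block23 hc T).2

theorem V23 {p : ℕ} [Fact p.Prime] (S : Setup G p) (hp : p ≠ 23) : Nat.card S.V % 23 ≠ 0 := by
  obtain ⟨T, -⟩ := setup hc (p := 23) (by simp)
  exact fun h => not_dvd_V T (block23 hc T).1 S hp.symm (Nat.dvd_of_mod_eq_zero h)

theorem V7 (S : Setup G 7) : Nat.card S.V % 5 ≠ 0 ∧ Nat.card S.V % 11 ≠ 0 := by
  by_contra h
  obtain ⟨P⟩ := nonempty_PB (perfect hc) S
  obtain ⟨L, hL, h⟩ := opt_sound hc P (by norm_num) s7a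
    (decide_eq_true ⟨V23 hc S (by norm_num), by omega⟩)
    (fun χ _ => decide_eq_true (ok23_of hc χ)) (by simpa using cross23 hc P (by norm_num))
  exact of_decide_eq_true h (P.ratB_of (perfect hc) hL (by simp only [List.forall_mem_cons]; norm_num))

theorem V7' {p : ℕ} [Fact p.Prime] (S : Setup G p) (hp : p = 5 ∨ p = 11) :
    Nat.card S.V % 7 ≠ 0 := fun h => by
  obtain ⟨T, -⟩ := setup hc (p := 7) (by simp)
  have h1 := Nat.mod_eq_zero_of_dvd (dvd_V_symm S T (by omega) (Nat.dvd_of_mod_eq_zero h))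
  have := V7 hc T
  rcases hp with rfl | rfl <;> omega

theorem mem_cands {p : ℕ} [Fact p.Prime] (S : Setup G p) {w : S.V}
    (hw : orderOf ((w : S.K) : G) = 2) {r : ℕ}
    (hr : r ∣ Nat.card (centralizer ({(w : S.K)} : Set S.K))) :
    Nat.card (centralizer ({((w : S.K) : G)} : Set G)) ∈ cands p (Nat.card S.V) S.V.index r := by
  obtain ⟨T, -⟩ := setup hc (p := 23) (by simp)
  have h1 : ((w : S.K) : G) ≠ 1 := fun e => by simp [e] at hw
  refine List.mem_filter.mpr ⟨mem_dvs ps hps _ (hps' ▸ cent_dvd hc _), ?_⟩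
  rw [centOK3_of S h1 hr, Bool.and_true, bimp_iff, beq_iff]
  exact fun h => absurd (Nat.dvd_of_mod_eq_zero h)
    (not_dvd_card_centralizer T (block23 hc T).1 h1 (by rw [hw]; norm_num))

theorem block11 (S : Setup G 11) : Nat.card S.V = 1 ∧ S.V.index = 10 := by
  have hG := perfect hc
  obtain ⟨P⟩ := nonempty_PB hG S
  have h5 : Nat.card S.V = 12 ∨ Nat.card S.V = 24 → S.V.index % 5 = 0 → ∃ w : S.V,
      orderOf ((w : S.K) : G) = 2 ∧ 5 ^ 1 ∣ Nat.card (centralizer ({(w : S.K)} : Set S.K)) :=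
    fun h h' => exists_fixV S fact5.out Nat.prime_two
      (Dvd.dvd.mul_left (Nat.dvd_of_mod_eq_zero h') _) fun t ht => by
        have : ∀ v ∈ [12, 24], ∀ t ∈ List.range 25, v % t = 0 → v % 5 = t % 5 → 2 ∣ t := by decide
        exact this _ (by simpa using h) t (List.mem_range.mpr (by
          have := Nat.le_of_dvd Nat.card_pos ht; omega)) (Nat.mod_eq_zero_of_dvd ht)
  have hV : Nat.card S.V = 1 := by
    by_contra hV
    by_cases hX : (Nat.card S.V, S.V.index) = (12, 10)
    swap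
    · obtain ⟨L, hL, h⟩ := opt_sound hc P (by norm_num) (memo_eq _ _ _ ▸ s11a)
        (decide_eq_true ⟨hV, V23 hc S (by norm_num), V7' hc S (by simp), hX⟩)
        (fun χ _ => decide_eq_true (ok23_of hc χ)) (by simpa using cross23 hc P (by norm_num))
      have h1 := bimp_iff.mp h (decide_eq_true
        (P.ratB_of hG hL (by simp only [List.forall_mem_cons]; norm_num)))
      simp only [Bool.and_eq_true, decide_eq_true_eq, allL_iff] at h1
      split_ifs at h1 with h2
      · obtain ⟨w, hw, h3⟩ := h5 (Or.inr h2.1) (by omega)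
        exact no_col hc P hw (IsConj.refl _) hL (h1.2 _ (mem_cands hc S hw h3))
      · obtain ⟨w, hw, h3⟩ := exists_inv2 S h1.1
        exact no_col hc P hw (IsConj.refl _) hL (h1.2 _ (mem_cands hc S hw h3))
    obtain ⟨hv, he⟩ := Prod.mk.inj hX
    obtain ⟨w, hw, h1⟩ := h5 (Or.inl hv) (by omega)
    obtain ⟨U, ⟨R⟩⟩ := setup hc (p := 5) (by simp)
    obtain ⟨T, ⟨Q⟩⟩ := setup hc (p := 23) (by simp)
    obtain ⟨u, hu⟩ := exists_conj_V U (by rw [hw]; norm_num) (h1.trans (card_centK_dvd S w))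
    have h2 : ∀ χ, χ ∈ P.B.X ∨ χ ∈ P.B.Y → χ ≠ triv G → d11 (dg χ) := fun χ h h' => by
      have := P.deg_spec hG hc h h'
      rw [hv, he] at this
      exact ⟨this.1, this.2.1, this.2.2.resolve_left (by norm_num)⟩
    obtain ⟨χ, hχ, h3⟩ : ∃ χ ∈ P.Z, sgn 11 10 (dg χ) * tau 23 11 (dg χ) < 0 := by
      by_contra h
      push Not at h
      have h3 := P.cross Q (block23 hc T).1 (by norm_num)
      rw [he, (block23 hc T).2] at h3
      have := Finset.sum_nonneg h
      omega
    have h4 := sD11 _ (mem_dd hG hc hps hps' hDD (P.ne_triv hχ))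
      (h2 χ (P.mem_XY hχ) (P.ne_triv hχ)) (ok23_of hc χ) h3
    have h6 : ((w : S.K) : G) ≠ 1 := fun e => by simp [e] at hw
    have h7 := valOK_of hG hc (P.ne_triv hχ) h6
      (ival_inv hG (by rw [← sq, ← hw, pow_orderOf_eq_one]) χ).1 (by norm_num)
      (P.four_mul_dvd hG hχ hw (IsConj.refl _))
    obtain ⟨L, hL, h⟩ := opt_sound hc R (by norm_num) (forceL_eq _ _ ▸ s5a)
      (decide_eq_true ⟨V23 hc U (by norm_num), fun h => by
        have := dvd_V_symm U S (by norm_num) (Nat.dvd_of_mod_eq_zero h); omega, V7' hc U (by simp),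
        Nat.mod_eq_zero_of_dvd (hw.symm.trans (H36.orderOf_eq_of_isConj hu).symm ▸ orderOf_V_dvd U u)⟩)
      (fun χ _ => decide_eq_true (ok23_of hc χ)) (by simpa using cross23 hc R (by norm_num))
    refine no_col hc R hw hu hL (bimp_iff.mp (allL_iff.mp (bimp_iff.mp h
      (R.cross_sub P (by omega) (by norm_num) hL _ fun χ h h' => ?_)) _
      (List.mem_filter.mpr ⟨hv ▸ he ▸ mem_cands hc S hw h1, ?_⟩)) (centOK_of U hu h6))
    · rw [if_pos (h2 χ h' (R.ne_triv h)), he]
    · simp only [List.mem_cons, List.not_mem_nil, or_false] at h4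
      rcases h4 with h4 | h4 <;> rw [h4] at h7 <;> simp [h7]
  obtain ⟨k1, k2, -, k3, k4, -⟩ := numerics hG S
  rw [hc, hV] at k1
  have := Nat.le_of_dvd (by norm_num) k4
  refine ⟨hV, ?_⟩
  generalize S.V.index = e at *
  interval_cases e <;> omega

end M24

end Cfsg.Agent.H16
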