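import Cfsg.Agent.H16.M24s
import Cfsg.Agent.H16.Gen7

/-! Simple groups of order 244823040: the searches for the degrees. -/

set_option autoImplicit false
set_option linter.unusedSectionVars false
set_option synthInstance.maxSize 2048

namespace Cfsg.Agent.H16

open Cfsg Subgroup H35 H14

namespace M24

/-- degrees allowed by the prime 11 -/
def ok11 (d : ℕ) : Prop := d % 11 = 0 ∨ degOK 11 10 d

instance (d : ℕ) : Decidable (ok11 d) := inferInstanceAs (Decidable (_ ∨ _))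

theorem s5b : opt 5 (fun v _ => decide (v % 23 ≠ 0 ∧ v % 11 ≠ 0 ∧ v % 7 ≠ 0))
    (fun d => decide (ok23 d ∧ ok11 d)) (fun e => [crossC 5 e 23 11, crossC 5 e 11 10])
    (fun v e l => bimp (anyL [2, 3, 6] fun f => subOK 512
      (l.map fun d => if degOK 7 f d then sgn 5 e d * tau 7 f d else 0) (-(7 - 1 : ℕ)))
      (decide (e = 4 ∧ l = [1771, 2024, 5544, 5796] ∧ v ∈ [12, 192]))) = true := by
  decide +kernel

/-- search through the principal 7-blocks -/
noncomputable def s7 (exv : ℕ → Bool) (Q : ℕ → ℕ → List ℕ → Bool) : Bool :=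
  opt 7 (fun v _ => decide (v % 23 ≠ 0 ∧ v % 11 ≠ 0 ∧ v % 5 ≠ 0) && exv v)
    (fun d => decide (ok23 d ∧ ok11 d))
    (fun e => [crossC 7 e 23 11, crossC 7 e 11 10, atl e 2024 1]) Q

theorem s7b : s7 (fun _ => true) (fun v e l => decide (
    (e = 3 ∧ l = [990, 1035, 2024] ∧ v ∈ [6, 48, 384]) ∨
    (e = 6 ∧ (v = 3 ∨ (v = 24 ∧ (22 ∈ l ∨ 3520 ∈ l ∨ 6336 ∈ l)) ∨
      (v = 192 ∧ l.count 22 = 1))))) = true := by
  decide +kernel

/-- search through the principal 23-blocks -/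
noncomputable def s23 (ex : ℕ → Bool) (k : ℤ) (cs : List (Cst ℕ)) (Q : List ℕ → Bool) : Bool :=
  opt 23 (fun v _ => decide (v = 1)) (fun d => decide (ok11 d) && ex d)
    (fun e => crossC 23 e 11 10 :: Cst.le (fun d => mu 23 e d * d ^ 2)
      (244823040 - 1 - (1771 ^ 2 + 2024 ^ 2 + k * 5796 ^ 2)) :: cs) fun _ _ l => Q l

theorem sV3 : s23 (fun d => decide (d % 7 ≠ 3 ∧ d % 7 ≠ 4)) 1 [atl 11 5544 1]
    (fun _ => false) = true := by decide +kernel

theorem sB3 : s23 (fun _ => true) 1 [atl 11 5544 3]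
    (fun l => decide (990 ∉ l ∧ 22 ∉ l ∧ 3520 ∉ l ∧ 6336 ∉ l)) = true := by decide +kernel

/-- the degrees divisible by 9 -/
def D9 : List ℕ := DD.filter fun d => decide (d % 9 = 0 ∧ d % 27 ≠ 0 ∧ ok23 d ∧ ok11 d)

theorem sT : ∀ a ∈ D9, ∀ b ∈ D9, a + b ∈ D9 → tau 23 11 (a + b) = tau 23 11 a + tau 23 11 b →
    tau 11 10 (a + b) = tau 11 10 a + tau 11 10 b → a ≤ b →
    (a = 45 ∨ b = 45 ∨ a + b = 45 → a = 45 ∧ b = 990) ∧
    (a = 5544 ∨ b = 5544 ∨ a + b = 5544 → (a, b) ∈ [(252, 5544), (990, 4554), (2772, 2772)]) ∧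
    (a = 5796 ∨ b = 5796 ∨ a + b = 5796 → (a, b) ∈ [(252, 5544), (3312, 5796)]) := by
  decide +kernel

/-- centraliser orders of involutions centralising an element of order 7 -/
noncomputable def c7 (v e : ℕ) : List ℕ :=
  (cands 7 v e (Nat.gcd 1024 (v * e))).filter fun c => decide (c % 11 ≠ 0)

theorem sCB : forceL (c7 24 6) (fun C => s23 (fun _ => true) 2 [atl 11 5544 2, atl 11 252 2]
    fun l => decide (l.count 990 ≤ 1) && allL [22, 3520, 6336] fun d => allL C fun c =>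
      allL (vals 244823040 c 28 d) fun a =>
        col 23 11 1 c 4 (c - 1) l.reverse [(d, a)] fun _ => false) = true := by
  decide +kernel

end M24

end Cfsg.Agent.H16
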