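import Cfsg.Agent.H16.M24a
import Cfsg.Agent.H16.M24t

/-! Simple groups of order 244823040: the primes 5 and 7. -/

set_option autoImplicit false
set_option linter.unusedSectionVars false
set_option synthInstance.maxSize 2048

namespace Cfsg.Agent.H16

open Cfsg Subgroup H35 H14
open scoped ComplexConjugate

theorem nd_app {G : Type*} [Group G] [Finite G] {L L' : List (IrrCharacter G)} (h : L.Nodup) (h' : L'.Nodup)
    (hd : ∀ d ∈ L.map dg, d ∉ L'.map dg) : (L ++ L').Nodup :=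
  h.append h' fun _ h1 h2 => hd _ (List.mem_map_of_mem h1) (List.mem_map_of_mem h2)

namespace M24

/-- the principal blocks -/
structure Dat (G : Type*) [Group G] [Finite G] where
  /-- local data -/
  T : Setup G 23
  /-- local data -/
  S : Setup G 11
  /-- local data -/
  W : Setup G 7
  /-- local data -/
  U : Setup G 5
  /-- block -/
  Q : PB T
  /-- block -/
  P : PB S
  /-- block -/
  O : PB W
  /-- block -/
  R : PB U
  /-- character -/
  l : IrrCharacter G
  /-- character -/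
  c : IrrCharacter G
  /-- character -/
  b : IrrCharacter G
  /-- character -/
  e : IrrCharacter G
  hR : R.Z.val = ([l, c, b, e] : List _)
  dl : dg l = 1771
  dc : dg c = 2024
  db : dg b = 5544
  de : dg e = 5796
  e5 : U.V.index = 4
  v5 : Nat.card U.V ∈ [12, 192]
  cO : c ∈ O.Z

variable {G : Type*} [Group G] [Finite G] [IsSimpleGroup G] (hc : Nat.card G = 244823040)
include hc

theorem ok11_of (χ : IrrCharacter G) : ok11 (dg χ) := by
  obtain ⟨T, ⟨Q⟩⟩ := setup hc (p := 11) (by simp)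
  have := (Q.trace_all (block11 hc T).1 χ).2
  rwa [(block11 hc T).2] at this

theorem cross11 {p : ℕ} [Fact p.Prime] {S : Setup G p} (P : PB S) (hp : p ≠ 11) :
    (crossC p S.V.index 11 10).Holds P.Z.val dg := by
  obtain ⟨T, ⟨Q⟩⟩ := setup hc (p := 11) (by simp)
  exact P.holds_cross Q (block11 hc T).1 hp rfl (block11 hc T).2

theorem V11 {p : ℕ} [Fact p.Prime] (S : Setup G p) (hp : p ≠ 11) : Nat.card S.V % 11 ≠ 0 := by
  obtain ⟨T, -⟩ := setup hc (p := 11) (by simp)
  exact fun h => not_dvd_V T (block11 hc T).1 S hp.symm (Nat.dvd_of_mod_eq_zero h)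

theorem exists_dat : Nonempty (Dat G) := by
  classical
  obtain ⟨T, ⟨Q⟩⟩ := setup hc (p := 23) (by simp)
  obtain ⟨S, ⟨P⟩⟩ := setup hc (p := 11) (by simp)
  obtain ⟨W, ⟨O⟩⟩ := setup hc (p := 7) (by simp)
  obtain ⟨U, ⟨R⟩⟩ := setup hc (p := 5) (by simp)
  have h5 : ¬ 5 ∣ Nat.card W.V := by have := V7 hc W; omega
  obtain ⟨L, hL, h⟩ := opt_sound hc R (by norm_num) s5b
    (decide_eq_true ⟨V23 hc U (by norm_num), V11 hc U (by norm_num), V7' hc U (by simp)⟩)
    (fun χ _ => decide_eq_true ⟨ok23_of hc χ, ok11_of hc χ⟩)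
    (by simpa using ⟨cross23 hc R (by norm_num), cross11 hc R (by norm_num)⟩)
  obtain ⟨h1, h2, h3⟩ := of_decide_eq_true (bimp_iff.mp h (anyL_iff.mpr ⟨W.V.index, by
    have h1 := O.e1
    have h2 := W.index_dvd_pred
    have := Nat.le_of_dvd (by norm_num) h2
    generalize W.V.index = e at *
    interval_cases e <;> simp_all,
    R.cross_sub O h5 (by norm_num) hL _ fun χ _ h => if_pos (O.degOK_of h)⟩))
  obtain ⟨l, L, rfl, dl, h2⟩ := List.map_eq_cons_iff.mp h2
  obtain ⟨c, L, rfl, dc, h2⟩ := List.map_eq_cons_iff.mp h2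
  obtain ⟨b, L, rfl, db, h2⟩ := List.map_eq_cons_iff.mp h2
  obtain ⟨e, L, rfl, de, h2⟩ := List.map_eq_cons_iff.mp h2
  obtain rfl := List.map_eq_nil_iff.mp h2
  refine ⟨⟨T, S, W, U, Q, P, O, R, l, c, b, e, hL, dl, dc, db, de, h1, h3,
    O.mem_Z_of ?_ (by omega) (by rw [dc]; decide)⟩⟩
  by_contra h4
  have h6 := R.cross' O h5 (by norm_num)
  rw [sum_list hL] at h6
  simp [h4, dl, db, de, tau] at h6

namespace Dat

variable (D : Dat G)

omit hc in
theorem mem5 {χ : IrrCharacter G} (h : χ ∈ D.R.B.X ∨ χ ∈ D.R.B.Y) (h1 : dg χ ≠ 1) :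
    χ ∈ [D.l, D.c, D.b, D.e] := by
  have h2 := D.R.degOK_of h
  rw [D.e5, degOK, nexc] at h2
  exact (mem_list D.hR).mp (D.R.mem_Z_of h h1 (by rw [nexc]; omega))

omit hc in
theorem val5 {g : G} (hg : 5 ∣ orderOf g) : (D.b : G → ℂ) g = -1 ∧ (D.e : G → ℂ) g = 1 := by
  rw [D.R.val_sing ((mem_list D.hR).mpr (by simp)) (by rw [D.db]; decide) hg,
    D.R.val_sing ((mem_list D.hR).mpr (by simp)) (by rw [D.de]; decide) hg, D.db, D.de]
  simp [sgn]

theorem memQ {χ : IrrCharacter G} (h1 : dg χ ≠ 1) (h : nexc 23 (dg χ)) : χ ∈ D.Q.Z :=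
  D.Q.mem_of_nexc (block23 hc D.T).1 (fun e => h1 (by rw [e, dg_triv])) h

theorem atlQ {d k : ℕ} {L : List (IrrCharacter G)} (hL : L.Nodup) (hk : L.length = k)
    (h : ∀ χ ∈ L, dg χ = d) (h1 : d ≠ 1) (h2 : nexc 23 d) : (atl 11 d k).Holds D.Q.Z.val dg :=
  holds_atl (D.Q.card_Z.trans (block23 hc D.T).2) hL hk fun χ hχ =>
    ⟨D.memQ hc (h χ hχ ▸ h1) (h χ hχ ▸ h2), h χ hχ⟩

theorem atlb : (atl 11 5544 1).Holds D.Q.Z.val dg :=
  D.atlQ hc (L := [D.b]) (by simp) rfl (by simpa using D.db) (by norm_num) (by decide)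

theorem s23_sound {ex : ℕ → Bool} {k : ℤ} {cs : List (Cst ℕ)} {Q : List ℕ → Bool}
    (h : s23 ex k cs Q = true) {E : List (IrrCharacter G)} (hE : E.Nodup)
    (hE' : ∀ χ ∈ E, dg χ = 5796) (hk : E.length = k)
    (hex : ∀ χ : IrrCharacter G, ex (dg χ) = true)
    (hcs : ∀ c ∈ cs, c.Holds D.Q.Z.val dg) :
    ∃ L : List (IrrCharacter G), D.Q.Z.val = L ∧ Q (L.map dg) = true := by
  have h1 := D.Q.norm_deg_ext (E := [D.l, D.c] ++ E) (nd_app (by
    simpa using fun e => by have := D.dl; rw [e, D.dc] at this; omega) hE (by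
      simp only [List.map_cons, D.dl, D.dc, List.map_congr_left hE']; simp)) fun χ hχ => by
    rw [(block23 hc D.T).2]
    rcases List.mem_append.mp hχ with h | h
    · simp only [List.mem_cons, List.not_mem_nil, or_false] at h
      rcases h with rfl | rfl
      · rw [D.dl]; decide
      · rw [D.dc]; decide
    · rw [hE' χ h]; decide
  rw [hc, List.map_append, List.sum_append, List.map_congr_left (l := E)
    (g := fun _ => (5796 : ℤ) ^ 2) fun χ h => by rw [hE' χ h]; rfl] at h1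
  simp only [List.map_cons, D.dl, D.dc, List.map_const', List.sum_replicate, nsmul_eq_mul, hk,
    List.sum_cons, List.map_nil, List.sum_nil, add_zero] at h1
  exact opt_sound hc D.Q (by norm_num) h (decide_eq_true (block23 hc D.T).1)
    (fun χ _ => by rw [decide_eq_true (ok11_of hc χ), hex]; rfl) (by
      simp only [List.forall_mem_cons]
      exact ⟨cross11 hc D.Q (by norm_num), holds_le h1, hcs⟩)

theorem s7_sound {exv : ℕ → Bool} {Q : ℕ → ℕ → List ℕ → Bool} (h : s7 exv Q = true)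
    (hv : exv (Nat.card D.W.V) = true) : ∃ L : List (IrrCharacter G), D.O.Z.val = L ∧
      Q (Nat.card D.W.V) D.W.V.index (L.map dg) = true :=
  opt_sound hc D.O (by norm_num) h
    (by rw [decide_eq_true ⟨V23 hc _ (by norm_num), (V7 hc _).2, (V7 hc _).1⟩, hv]; rfl)
    (fun χ _ => decide_eq_true ⟨ok23_of hc χ, ok11_of hc χ⟩)
    (by simpa using ⟨cross23 hc D.O (by norm_num), cross11 hc D.O (by norm_num),
      holds_atl D.O.card_Z (L := [D.c]) (by simp) rfl (by simpa using ⟨D.cO, D.dc⟩)⟩)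

theorem block7 : ∃ L : List (IrrCharacter G), D.O.Z.val = L ∧
    ((D.W.V.index = 3 ∧ L.map dg = [990, 1035, 2024] ∧ Nat.card D.W.V ∈ [6, 48, 384]) ∨
      (D.W.V.index = 6 ∧ Nat.card D.W.V = 24 ∧
        (22 ∈ L.map dg ∨ 3520 ∈ L.map dg ∨ 6336 ∈ L.map dg))) := by
  obtain ⟨L, hL, h⟩ := D.s7_sound hc s7b rfl
  refine ⟨L, hL, (of_decide_eq_true h).imp_right fun ⟨he, h⟩ => ⟨he, ?_⟩⟩
  rcases h with hv | h | ⟨hv, h⟩
  · obtain ⟨-, -, h⟩ := D.s23_sound hc sV3 (E := [D.e]) (by simp) (by simpa using D.de) rfl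
      (fun χ => decide_eq_true (by
        by_cases h : 7 ∣ dg χ
        · omega
        obtain ⟨k, t, s, h1, h2, h3, h4, h5⟩ := deg_cong D.W h
        rw [hv] at h4
        obtain rfl : t = 1 := by
          by_contra h6
          have : 1 * 2 ^ 2 ≤ k * t ^ 2 := Nat.mul_le_mul h2 (Nat.pow_le_pow_left (by omega) 2)
          omega
        have h6 : ∀ x : ZMod 7, (dg χ : ZMod 7) = x → x.val = dg χ % 7 := fun x hx => by
          rw [← hx, ZMod.val_natCast]
        have h7 : k = 1 ∨ k = 2 := by omega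
        rw [he] at h5
        rcases h1 with rfl | rfl <;> rcases h7 with rfl | rfl <;> rcases h5 with h5 | h5 <;>
          rw [← h6 _ h5] <;> decide)) (by simpa using D.atlb hc)
    cases h
  · exact h
  exfalso
  obtain ⟨χ, h1, h2⟩ := List.mem_map.mp (List.count_pos_iff.mp (h ▸ one_pos : 0 < (L.map dg).count 22))
  have h3 := (mem_list hL).mpr h1
  obtain ⟨Q, hQ⟩ := Sylow.exists_subgroup_card_pow_prime (G := D.W.V) 2 (n := 6)
    (by rw [hv]; norm_num)
  have h4 := card_dvd_of_vanish (Q.map (D.W.K.subtype.comp D.W.V.subtype)) (Finset.range 4)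
    (fun i => [-960, -88, 18, 1].getD i 0) (fun i => (χ : G → ℂ) ^ i)
    (fun i _ => H5.isCharacter_pow (irr_char χ) i) (by
      rintro _ ⟨u, hu, rfl⟩ h5
      obtain ⟨a, ha⟩ := D.O.int_of_count hL h3 (by rw [h2, h]) (not_dvd_orderOf_V D.W u)
      have h6 := D.O.cong_conj_V (D.O.mem_XY h3) (IsConj.refl _) ha
      have h7 := abs_lt.mp (abs_lt_of_simple (perfect hc) (D.O.ne_triv h3) h5 ha)
      obtain ⟨k, -, hk⟩ := (Nat.dvd_prime_pow Nat.prime_two).mp (hQ ▸ Q.orderOf_dvd_natCard hu)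
      have h8 := int_cong_dg χ Nat.prime_two ⟨k, by rw [orderOf_coe, orderOf_coe, hk]⟩ ha
      have h9 : a = -20 ∨ a = -6 ∨ a = 8 := by omega
      change (χ : G → ℂ) ((D.W.K.subtype.comp D.W.V.subtype) u) = a at ha
      simp only [Finset.sum_range_succ, Pi.pow_apply, ha]
      rcases h9 with rfl | rfl | rfl <;> norm_num)
  rw [card_map_of_injective (fun _ _ h => Subtype.ext (Subtype.ext h)), hQ] at h4
  have h5 : ∀ i, charDegree ((χ : G → ℂ) ^ i) = 22 ^ i := fun i => by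
    apply Nat.cast_injective (R := ℂ)
    rw [← cast_degree (H5.isCharacter_pow (irr_char χ) i), Pi.pow_apply, dg_cast, h2, Nat.cast_pow]
  simp only [Finset.sum_range_succ, h5] at h4
  norm_num at h4

theorem exists_w : ∃ w : D.W.V, orderOf ((w : D.W.K) : G) = 2 ∧
    Nat.card (centralizer ({((w : D.W.K) : G)} : Set G)) ∈ c7 (Nat.card D.W.V) D.W.V.index := by
  obtain ⟨w, hw, h⟩ := exists_inv2 D.W (by
    obtain ⟨-, -, ⟨-, -, h⟩ | ⟨-, h, -⟩⟩ := D.block7 hc
    · simp only [List.mem_cons, List.not_mem_nil, or_false] at h; omega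
    · omega)
  exact ⟨w, hw, List.mem_filter.mpr ⟨mem_cands hc _ hw h, decide_eq_true fun h =>
    not_dvd_card_centralizer D.S (block11 hc _).1 (fun e => by simp [e] at hw)
      (by rw [hw]; norm_num) (Nat.dvd_of_mod_eq_zero h)⟩⟩

/-- representatives in the principal 23-block of a member of the principal 7-block -/
theorem exists_des {χ : IrrCharacter G} (h : χ ∈ D.O.Z) (hd : dg χ ∈ [990, 22, 3520, 6336])
    {t : G} (ht : orderOf t = 2) : ∃ L : List (IrrCharacter G), L.Nodup ∧ (∀ ψ ∈ L, ψ ∈ D.Q.Z) ∧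
      (L.map fun ψ => (dg ψ, ival t ψ)) =
        List.replicate (if dg χ = 990 then 2 else 1) (dg χ, ival t χ) := by
  split_ifs with h1
  · have h2 : ¬ nexc 7 (dg χ) := by rw [h1]; decide
    have h3 := (D.O.mem_XY h).resolve_left fun h => h2 (D.O.sgn_X h).1
    have h4 := D.O.B.cardY'
    have h5 := (D.O.sgn_Y h3).2.not.mp h2
    obtain ⟨ψ, h6, h7⟩ := Finset.exists_mem_ne (s := D.O.B.Y) (by
      by_contra h6
      have := Finset.card_pos.mpr ⟨χ, h3⟩
      rw [show D.O.B.Y.card = 1 by omega] at h4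
      omega) χ
    have h8 := dgY_eq D.O.B h6 h3
    refine ⟨[ψ, χ], by simpa using h7, ?_, ?_⟩
    · simpa using ⟨D.memQ hc (by omega) (by rw [h8, h1]; decide),
        D.memQ hc (by omega) (by rw [h1]; decide)⟩
    · simp [h8, ival, D.O.B.eq_on_regular h6 h3 (g := t) (by rw [ht]; norm_num)]
  · obtain ⟨φ, h2, h3, h4, -⟩ := D.Q.exists_rep (mem_of_not_dvd D.Q.B (block23 hc _).1 (χ := χ)
      ((by decide : ∀ d ∈ [990, 22, 3520, 6336], ¬ 23 ∣ d) _ hd)) (D.O.ne_triv h)
    exact ⟨[φ], by simp, by simpa using h2, by simp [h3, ival, h4 t (by rw [ht]; norm_num)]⟩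

end Dat

end M24

end Cfsg.Agent.H16
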