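import Cfsg.Agent.H16.M24b

/-! Simple groups of order 244823040: the blocks of defect one for the prime 3. -/

set_option autoImplicit false
set_option linter.unusedSectionVars false
set_option synthInstance.maxSize 2048

namespace Cfsg.Agent.H16

open Cfsg Subgroup H35 H14
open scoped ComplexConjugate

variable {G : Type*} [Group G] [Finite G] {M : Ideal AlgInt}

theorem Tri.swap {a b c : IrrCharacter G} (h : Tri M a b c) : Tri M b a c := by
  have e : ∀ χ, χ ∈ [b, a, c] ↔ χ ∈ [a, b, c] := fun χ => (List.Perm.swap _ _ _).mem_iff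
  exact ⟨h.ab.symm, h.bc, h.ac, by simpa only [e] using h.mem, by simpa only [e] using h.nine⟩

theorem RelT.swap {a b c : IrrCharacter G} (h : RelT a b c) : RelT b a c :=
  ⟨fun g hg => (h.1 g hg).trans (add_comm _ _), fun g hg =>
    ⟨(h.2 g hg).1.symm, (h.2 g hg).1 ▸ (h.2 g hg).2⟩⟩

theorem Tri.nodup {a b c : IrrCharacter G} (h : Tri M a b c) : [a, b, c].Nodup := by
  simp [h.ab, h.ac, h.bc]

theorem Tri.disj {a b c a' b' c' χ ψ : IrrCharacter G} (h : Tri M a b c) (h' : Tri M a' b' c')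
    (h1 : χ ∈ [a', b', c']) (h2 : χ ∉ [a, b, c]) (h3 : ψ ∈ [a', b', c']) : ψ ∉ [a, b, c] :=
  fun h4 => h2 ((h.mem ψ h4 χ).mp ((h'.mem ψ h3 χ).mpr h1))

theorem RelT.tau {a b c : IrrCharacter G} (h : RelT a b c) {p : ℕ} [hp : Fact p.Prime]
    {S : Setup G p} (P : PB S) (hV : Nat.card S.V = 1) (h3 : p ≠ 3) :
    tau p S.V.index (dg c) = tau p S.V.index (dg a) + tau p S.V.index (dg b) := by
  apply Int.cast_injective (α := ℂ)
  rw [Int.cast_add, ← (P.trace_all hV a).1, ← (P.trace_all hV b).1, ← (P.trace_all hV c).1,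
    ← Finset.sum_add_distrib]
  refine Finset.sum_congr rfl fun i hi => h.1 _ ?_
  rw [orderOf_eq_of_mem_zpowers hp.out S.hx (S.xp_mem i) (S.xp_ne_one (Finset.ne_of_mem_erase hi))]
  exact fun h => h3 ((Nat.prime_dvd_prime_iff_eq Nat.prime_three hp.out).mp h).symm

namespace M24

variable [IsSimpleGroup G] (hc : Nat.card G = 244823040)
include hc

theorem tri (hM : IsPModular 3 M) {χ : IrrCharacter G} (h : dg χ ∈ [45, 5544, 5796]) :
    ∃ a b c, Tri M a b c ∧ χ ∈ [a, b, c] ∧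
      ((RelE a b c ∧ ∀ ψ ∈ [a, b, c], dg ψ = dg χ) ∨ (RelT a b c ∧ dg c = dg a + dg b ∧
        (dg χ = 45 → dg a = 45 ∧ dg b = 990) ∧
        (dg χ = 5544 → (dg a, dg b) ∈ [(252, 5544), (990, 4554), (2772, 2772)]) ∧
        (dg χ = 5796 → (dg a, dg b) ∈ [(252, 5544), (3312, 5796)]))) := by
  have h0 : ¬ 3 ∣ orderOf (1 : G) := by simp
  simp only [List.mem_cons, List.not_mem_nil, or_false] at h
  obtain ⟨a, b, c, h1, h2, h3 | h3⟩ := exists_tri hM (by rw [hc]) (by rw [hc]; norm_num) (χ := χ)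
    (by omega) (by omega)
  · have h4 := h3.1 1 h0
    simp only [dg_cast, Nat.cast_inj] at h4
    refine ⟨a, b, c, h1, h2, Or.inl ⟨h3, ?_⟩⟩
    simp only [List.mem_cons, List.not_mem_nil, or_false, forall_eq_or_imp, forall_eq] at h2 ⊢
    rcases h2 with rfl | rfl | rfl <;> omega
  wlog hab : dg a ≤ dg b generalizing a b
  · exact this b a h1.swap ((List.Perm.swap _ _ _).mem_iff.mp h2) h3.swap (by omega)
  have h4 := h3.1 1 h0
  simp only [dg_cast, ← Nat.cast_add, Nat.cast_inj] at h4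
  obtain ⟨T, ⟨Q⟩⟩ := setup hc (p := 23) (by simp)
  obtain ⟨S, ⟨P⟩⟩ := setup hc (p := 11) (by simp)
  have h5 := h3.tau Q (block23 hc T).1 (by norm_num)
  have h6 := h3.tau P (block11 hc S).1 (by norm_num)
  rw [(block23 hc T).2, h4] at h5
  rw [(block11 hc S).2, h4] at h6
  have h7 : ∀ ψ ∈ [a, b, c], dg ψ ∈ D9 := fun ψ hψ => by
    have := h1.nine ψ hψ
    exact List.mem_filter.mpr ⟨mem_dd (perfect hc) hc hps hps' hDD fun e => by
      rw [e, dg_triv] at this; omega, decide_eq_true ⟨this.1, this.2, ok23_of hc ψ, ok11_of hc ψ⟩⟩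
  obtain ⟨k1, k2, k3⟩ := sT _ (h7 a (by simp)) _ (h7 b (by simp)) (h4 ▸ h7 c (by simp)) h5 h6 hab
  have h8 : dg a = dg χ ∨ dg b = dg χ ∨ dg a + dg b = dg χ := by
    simp only [List.mem_cons, List.not_mem_nil, or_false] at h2
    rcases h2 with rfl | rfl | rfl <;> omega
  exact ⟨a, b, c, h1, h2, Or.inr ⟨h3, h4, fun e => k1 (e ▸ h8), fun e => k2 (e ▸ h8),
    fun e => k3 (e ▸ h8)⟩⟩

namespace Dat

variable (D : Dat G)

theorem exists_des0 : ∃ χ ∈ D.O.Z, dg χ = 990 ∨
    (dg χ ∈ [22, 3520, 6336] ∧ D.W.V.index = 6 ∧ Nat.card D.W.V = 24) := by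
  obtain ⟨L, hL, ⟨-, h, -⟩ | ⟨h1, h2, h⟩⟩ := D.block7 hc
  · obtain ⟨χ, h1, h2⟩ := List.mem_map.mp (h ▸ by simp : 990 ∈ L.map dg)
    exact ⟨χ, (mem_list hL).mpr h1, Or.inl h2⟩
  · rcases h with h | h | h <;> obtain ⟨χ, h3, h4⟩ := List.mem_map.mp h <;>
      exact ⟨χ, (mem_list hL).mpr h3, Or.inr ⟨by simp [h4], h1, h2⟩⟩

omit hc in
theorem not_mem5 {χ : IrrCharacter G} (h : dg χ ∉ [1, 1771, 2024]) (h1 : χ ≠ D.b) (h2 : χ ≠ D.e) :
    ¬ (χ ∈ D.R.B.X ∨ χ ∈ D.R.B.Y) := fun h3 => by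
  have := D.mem5 h3 fun e => h (by simp [e])
  simp only [List.mem_cons, h1, h2, List.not_mem_nil, or_false] at this
  rcases this with rfl | rfl
  exacts [h (by simp [D.dl]), h (by simp [D.dc])]

theorem exists_alpha (hM : IsPModular 3 M) :
    ∃ a, dg a = 252 ∧ Tri M a D.b D.e ∧ RelT a D.b D.e := by
  classical
  have hG := perfect hc
  have db := D.db
  have de := D.de
  have v5 : Nat.card D.U.V = 12 ∨ Nat.card D.U.V = 192 := by simpa using D.v5
  obtain ⟨u, hu⟩ := exists_V D.U Nat.prime_three (by omega)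
  have y5 := D.U.dvd_orderOf_xp_mul one_ne_zero
  have y3 : 3 ∣ orderOf (D.U.xp 1 * (u : D.U.K)) := by
    rw [orderOf_xp_mul D.U one_ne_zero, hu]; norm_num
  have x5 : 5 ∣ orderOf D.U.x := D.U.hx.symm.dvd
  have x3 : ¬ 3 ∣ orderOf D.U.x := by rw [D.U.hx]; norm_num
  obtain ⟨w, hw, hw'⟩ := D.exists_w hc
  obtain ⟨χ, hχ, hχ'⟩ := D.exists_des0 hc
  obtain ⟨E, hE, hE1, hE2⟩ := D.exists_des hc hχ (by
    rcases hχ' with h | h
    exacts [by simp [h], List.mem_cons_of_mem _ h.1]) hw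
  have hE3 : ∀ L : List (IrrCharacter G), D.Q.Z.val = L →
      (if dg χ = 990 then 2 else 1) ≤ (L.map dg).count (dg χ) := fun L hL => by
    have h1 := congrArg List.length hE2
    rw [List.length_map, List.length_replicate] at h1
    exact h1 ▸ le_count hE fun ψ h => ⟨(mem_list hL).mp (hE1 ψ h),
      (Prod.mk.inj (List.eq_of_mem_replicate (hE2 ▸ List.mem_map_of_mem h))).1⟩
  obtain ⟨a, e', da, de', h1, h3⟩ : ∃ a e', dg a = 252 ∧ dg e' = 5796 ∧ Tri M a D.b e' ∧
      RelT a D.b e' := by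
    obtain ⟨a, b, c, h1, h2, ⟨-, h3⟩ | ⟨h3, h4, -, h5, -⟩⟩ := tri hc hM (χ := D.b) (by simp [db])
    · obtain ⟨L, hL, h⟩ := D.s23_sound hc sB3 (E := [D.e]) (by simp) (by simpa using de) rfl
        (fun _ => rfl) (by
          simpa using D.atlQ hc h1.nodup rfl (db ▸ h3) (by norm_num) (by decide))
      have h4 := List.count_pos_iff.mp (lt_of_lt_of_le (by split_ifs <;> norm_num) (hE3 L hL))
      have h5 := of_decide_eq_true h
      simp only [List.mem_cons, List.not_mem_nil, or_false] at hχ'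
      rcases hχ' with e | ⟨e | e | e, -⟩ <;> rw [e] at h4 <;> tauto
    simp only [List.mem_cons, List.not_mem_nil, or_false, Prod.mk.injEq] at h2 h5
    rcases h5 db with ⟨k1, k2⟩ | ⟨k1, k2⟩ | ⟨k1, k2⟩
    · obtain rfl : D.b = b := by rcases h2 with rfl | rfl | rfl <;> first | rfl | omega
      exact ⟨a, c, k1, by omega, h1, h3⟩
    · obtain rfl : D.b = c := by rcases h2 with rfl | rfl | rfl <;> first | rfl | omega
      have := (h3.2 _ y3).2
      rw [(D.val5 (y5 u)).1, zero_of_defect_zero a fact5.out (r := 247296) (by rw [hc, k1])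
        (by norm_num) (y5 u)] at this
      simp at this
    · obtain rfl : D.b = c := by rcases h2 with rfl | rfl | rfl <;> first | rfl | omega
      have h6 := h3.1 _ x3
      obtain ⟨m, hm⟩ := int_x D.U D.e5 a
      rw [(D.val5 x5).1, ← D.Q.eq_of_exc (block23 hc _).1 (k1.trans k2.symm) (by omega)
        (by rw [k1]; decide) (by rw [D.U.hx]; norm_num), hm] at h6
      have : -1 = m + m := by exact_mod_cast h6
      omega
  by_cases he : e' = D.e
  · exact ⟨a, da, he ▸ h1, he ▸ h3⟩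
  exfalso
  have hn : D.e ∉ [a, D.b, e'] := by
    simp only [List.mem_cons, List.not_mem_nil, or_false, not_or]
    exact ⟨fun e => by rw [e] at de; omega, fun e => by rw [e] at de; omega, Ne.symm he⟩
  have z := fun {χ} h h1 h2 => sum_V_zero D.R.B (D.not_mem5 (χ := χ) h h1 h2) one_ne_zero
  obtain ⟨a', b', c', h4, h5, ⟨h6, h7⟩ | ⟨h6, h7, -, -, h8⟩⟩ := tri hc hM (χ := D.e) (by simp [de])
  · have k1 : ∀ ψ ∈ [a', b', c'], ∑ v : D.U.V, (ψ : G → ℂ) (D.U.xp 1 * (v : D.U.K)) =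
        if ψ = D.e then ∑ v : D.U.V, 1 else 0 := fun ψ h => by
      split_ifs with e
      · exact Finset.sum_congr rfl fun v _ => e ▸ (D.val5 (y5 v)).2
      · exact z (by simp [h7 ψ h, de]) (fun e => by have := h7 ψ h; rw [e] at this; omega) e
    have k2 : ∑ v : D.U.V, ((e' : G → ℂ) (D.U.xp 1 * (v : D.U.K)) -
        (a : G → ℂ) (D.U.xp 1 * (v : D.U.K)) + ((a' : G → ℂ) (D.U.xp 1 * (v : D.U.K)) +
        (b' : G → ℂ) (D.U.xp 1 * (v : D.U.K)) + (c' : G → ℂ) (D.U.xp 1 * (v : D.U.K)))) =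
        ∑ v : D.U.V, 2 := Finset.sum_congr rfl fun v _ => by
      obtain ⟨k3, k4⟩ := D.val5 (y5 v)
      by_cases h : 3 ∣ orderOf (D.U.xp 1 * (v : D.U.K))
      · rw [h6.2 _ h, (h3.2 _ h).2, (h3.2 _ h).1, k3]; norm_num
      · obtain ⟨k5, k6⟩ := h6.1 _ h
        simp only [List.mem_cons, List.not_mem_nil, or_false] at h5
        rw [h3.1 _ h, k3, ← k5, ← k6, show (a' : G → ℂ) _ = 1 by
          rcases h5 with e | e | e <;> rw [e] at k4
          exacts [k4, k5.trans k4, k6.trans k4]]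
        ring
    simp only [Finset.sum_add_distrib, Finset.sum_sub_distrib] at k2
    rw [z (by simp [de']) h1.bc.symm he, z (by simp [da]) h1.ab fun e => hn (by simp [e]),
      k1 a' (by simp), k1 b' (by simp), k1 c' (by simp)] at k2
    have k3 : (Fintype.card D.U.V : ℂ) ≠ 0 := Nat.cast_ne_zero.mpr Fintype.card_ne_zero
    simp only [List.mem_cons, List.not_mem_nil, or_false] at h5
    simp only [Finset.sum_const, Finset.card_univ, nsmul_eq_mul] at k2
    rcases h5 with e | e | e <;> rw [e] at k2 <;>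
      simp only [h4.ab, h4.ac, h4.bc, h4.ab.symm, h4.ac.symm, h4.bc.symm, if_true, if_false] at k2 <;>
      exact k3 (by linear_combination -k2)
  have h9 := fun ψ => h1.disj (ψ := ψ) h4 h5 hn
  simp only [List.mem_cons, List.not_mem_nil, or_false, Prod.mk.injEq, not_or] at h5 h8 h9
  rcases h8 de with ⟨k1, k2⟩ | ⟨k1, k2⟩
  · obtain ⟨L, hL, h⟩ := D.s23_sound hc (forceL_eq _ _ ▸ sCB) (E := [D.e, e'])
      (by simpa using Ne.symm he) (by simpa using ⟨de, de'⟩) rfl (fun _ => rfl) (by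
        simpa using ⟨D.atlQ hc (L := [b', D.b]) (by simpa using (h9 b' (by simp)).2.1) rfl
          (by simpa using ⟨k2, db⟩) (by norm_num) (by decide),
        D.atlQ hc (L := [a', a]) (by simpa using (h9 a' (by simp)).1) rfl
          (by simpa using ⟨k1, da⟩) (by norm_num) (by decide)⟩)
    simp only [Bool.and_eq_true, decide_eq_true_eq, allL_iff] at h
    have k3 := hE3 L hL
    rcases hχ' with e | ⟨k4, k5, k6⟩
    · rw [e, if_pos rfl] at k3; omega
    have k7 : dg χ ≠ 990 := fun e => by simp [e] at k4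
    rw [if_neg k7] at hE2
    obtain ⟨-, -, k8⟩ := col_sound hc D.Q (block23 hc _).2 (block23 hc _).1 hw rfl hL rfl hE hE1 hE2
      ((block23 hc D.T).2 ▸ D.Q.norm_inv hG hw) (h.2 _ k4 _ (k5 ▸ k6 ▸ hw') _ (mem_vals
        (vok_of hG hc (fun e => by simp [e] at k4) (fun e => by simp [e] at hw)
          (ival_inv hG (by rw [← sq, ← hw, pow_orderOf_eq_one]) χ).1) (by norm_num)
        (D.O.four_mul_dvd hG hχ hw (IsConj.refl _)))) (by norm_num) fun ψ _ => four_dvd hG ψ hw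
    cases k8
  · obtain rfl : D.e = b' := by rcases h5 with rfl | rfl | rfl <;> first | rfl | omega
    obtain ⟨m, hm⟩ := int_x D.U D.e5 a'
    have k3 : (c' : G → ℂ) D.U.x = (m + 1 : ℤ) := by
      rw [h6.1 _ x3, hm, (D.val5 x5).2]; simp
    have k4 := int_cong_dg a' fact5.out ⟨1, D.U.hx⟩ hm
    have k5 := int_cong (irr_char a') Nat.prime_three (D.U.commute_x u).symm ⟨1, hu⟩ (a := 1) (by
      rw [← (D.U.commute_x u).eq, ← D.U.xp_one, (h6.2 _ y3).1, (D.val5 (y5 u)).2]; simp) hm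
    have k6 := col_le D.U.x {a', c'} (fun ψ => if ψ = a' then m else m + 1) (by
      simp [hm, k3, h4.ac.symm])
    rw [Finset.sum_pair h4.ac, if_pos rfl, if_neg h4.ac.symm, D.U.card_centralizer] at k6
    have k7 : m = 7 ∨ m = -8 := by
      replace k6 : m ^ 2 + (m + 1) ^ 2 ≤ 960 := k6.trans (by omega)
      have : -23 < m := by nlinarith
      have : m < 22 := by nlinarith
      omega
    have k8 : ∀ (ψ : IrrCharacter G) (s : ℤ), (ψ : G → ℂ) D.U.x = s → |s| ≠ 7 := fun ψ s h e => by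
      obtain ⟨t, l1, l2, l3⟩ := exists_div D.U h (by rintro rfl; simp at e)
      rw [← dvd_abs, e] at l2
      rw [e, D.e5] at l3
      obtain rfl | rfl := (Nat.dvd_prime fact7.out).mp (Int.natCast_dvd_natCast.mp l2) <;> omega
    rcases k7 with rfl | rfl
    exacts [k8 _ _ hm rfl, k8 _ _ k3 rfl]

end Dat

end M24

end Cfsg.Agent.H16
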