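import Cfsg.Agent.H16.NormForm2

/-! Certificates for the Mathieu group of degree 24. -/

set_option autoImplicit false
set_option synthInstance.maxSize 2048

namespace Cfsg.Agent.H16

open Cfsg Subgroup H14

namespace M24

def s24L0 : Lev := ⟨nat_lit 0, nat_lit 0xffffff, (.node (nat_lit 12) (.node (nat_lit 6) (.node (nat_lit 3) (.node (nat_lit 1) (.leaf (nat_lit 0xbdab49ca307b9ac5a928398a418820)) (.node (nat_lit 2) (.leaf (nat_lit 0xdab49ca307b9ac5a928398a418817)) (.leaf (nat_lit 0xdab49ca307b9ac5a928398a418057)))) (.node (nat_lit 4) (.leaf (nat_lit 0xdab49b6297b86c5aa50398a801057)) (.node (nat_lit 5) (.leaf (nat_lit 0xdab49ca307b9ac5a928398a019057)) (.leaf (nat_lit 0xdab49b6297b8655aa503b00831057))))) (.node (nat_lit 9) (.node (nat_lit 7) (.leaf (nat_lit 0xdab49b6297b86c5aa50380a831057)) (.node (nat_lit 8) (.leaf (nat_lit 0xd6717b5693b865b52500314831057)) (.leaf (nat_lit 0xdab49ca307b9ac5a920398a819057))))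 (.node (nat_lit 10) (.leaf (nat_lit 0xdab49ca297b9ac5a810398a819057)) (.node (nat_lit 11) (.leaf (nat_lit 0xdab49b6297b865582503b14831057)) (.leaf (nat_lit 0xdab19b5697b865052503b14831057)))))) (.node (nat_lit 18) (.node (nat_lit 15) (.node (nat_lit 13) (.leaf (nat_lit 0xdab49b6297b8605aa503b0a831057)) (.node (nat_lit 14) (.leaf (nat_lit 0xdab49b6297b80c5aa50398a819057)) (.leaf (nat_lit 0xd6717b56938065b52507314831057)))) (.node (nat_lit 16) (.leaf (nat_lit 0xd6717b56903865b52503b14831057)) (.node (nat_lit 17) (.leaf (nat_lit 0xdab49ca207b9ac5a930398a819057)) (.leaf (nat_lit 0xdab19b4097b8655d2503b14831057))))) (.node (nat_lit 21) (.node (nat_lit 19) (.leaf (nat_lit 0xdab4982297b9ac5aa50398a819057)) (.node (nat_lit 20) (.leaf (nat_lit 0xd671035697b865b52503b14831057)) (.leaf (nat_lit 0xdaa09b6297b8655d2503b14831057)))) (.node (nat_lit 22) (.leaf (nat_lit 0xd4119b5697b865b52503b14831057)) (.node (nat_lit 23)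 (.leaf (nat_lit 0x82b19b5697b865b52503b14831057)) (.leaf (nat_lit 0x5ab49ca307b9ac5a928398a418837)))))))⟩
def s24C0 : LevCert := ⟨s24L0,
    [(nat_lit 23, nat_lit 0), (nat_lit 1, nat_lit 1), (nat_lit 2, nat_lit 2), (nat_lit 4, nat_lit 3), (nat_lit 8, nat_lit 4), (nat_lit 16, nat_lit 5), (nat_lit 9, nat_lit 6), (nat_lit 18, nat_lit 7), (nat_lit 13, nat_lit 8), (nat_lit 3, nat_lit 9), (nat_lit 6, nat_lit 10), (nat_lit 12, nat_lit 11), (nat_lit 5, nat_lit 12), (nat_lit 10, nat_lit 13), (nat_lit 20, nat_lit 14), (nat_lit 17, nat_lit 15), (nat_lit 11, nat_lit 16), (nat_lit 22, nat_lit 17), (nat_lit 21, nat_lit 18), (nat_lit 19, nat_lit 19), (nat_lit 15, nat_lit 20), (nat_lit 7, nat_lit 21), (nat_lit 14, nat_lit 22)],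
    [],
    [nat_lit 0xdab49ca307b9ac5a928398a418ae0, nat_lit 0xbdab49ca307b9ac5a928398a418440, nat_lit 0xbdab49ca307b9ac5a928398a219020, nat_lit 0xbdab49ca307b9ac5a924398a818820, nat_lit 0xbdab49ca287b9ac5a930398a418820, nat_lit 0xbdab49ca297b9ac5aa08398a418820, nat_lit 0xbdab49a6307b9ac5aa48398a418820, nat_lit 0xbdab49b6307ba4c5a928398a418820, nat_lit 0xbdab49ca307b86c5a928398a468820, nat_lit 0xbdab49ca307b9ac5a92838ca430820, nat_lit 0xbdab49ca307b9a65a9283b0a418820, nat_lit 0xbdab49ca307b9a55a9283998418820, nat_lit 0xbdab49ca307b9ac595283994418820, nat_lit 0xbdaaa9ca307b9ac5d128398a418820, nat_lit 0xbdab19ca907b9ac5a928398a418820, nat_lit 0xbdab49c9707b9ac8a928398a418820, nat_lit 0xbaeb49ca307b9acb2928398a418820, nat_lit 0xbd6d49ca307b9ac5a928398a418820, nat_lit 0xbda74aca307b9ac5a928398a418820, nat_lit 0xbdab47ca309b9ac5a928398a418820, nat_lit 0xbdab49ca303b9ac5a928798a418820, nat_lit 0xbdab49ca3079dac5a928718a418820]⟩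
def s24L1 : Lev := ⟨nat_lit 23, nat_lit 0xfffffe, (.node (nat_lit 12) (.node (nat_lit 6) (.node (nat_lit 3) (.node (nat_lit 2) (.leaf (nat_lit 0xdab49ca307b9ac5a928398a418ae0)) (.leaf (nat_lit 0xdab49ca307b9ac5a928398a41dc40))) (.node (nat_lit 4) (.leaf (nat_lit 0xdab49b6297b86c5aa50398a8b9040)) (.node (nat_lit 5) (.leaf (nat_lit 0xdab49ca307b9ac5a928398b719040)) (.leaf (nat_lit 0xdab49b6297b8655aa503b2e831040))))) (.node (nat_lit 9) (.node (nat_lit 7) (.leaf (nat_lit 0xdab49b6297b86c5aa503dca831040)) (.node (nat_lit 8) (.leaf (nat_lit 0xd6717b5693b865b5250bb14831040)) (.leaf (nat_lit 0xdab49ca307b9ac5a937398a819040)))) (.node (nat_lit 10) (.leaf (nat_lit 0xdab49ca297b9ac5aaf0398a819040)) (.node (nat_lit 11) (.leaf (nat_lit 0xdab49b6297b8655de503b14831040)) (.leaf (nat_lit 0xdab19b5697b865bd2503b14831040)))))) (.node (nat_lit 18) (.node (nat_lit 15) (.node (nat_lit 13) (.leaf (nat_lit 0xdab49b6297b8775aa503b0a831040))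 (.node (nat_lit 14) (.leaf (nat_lit 0xdab49b6297baec5aa50398a819040)) (.leaf (nat_lit 0xd6717b5693dc65b52507314831040)))) (.node (nat_lit 16) (.leaf (nat_lit 0xd6717b569bb865b52503b14831040)) (.node (nat_lit 17) (.leaf (nat_lit 0xdab49ca377b9ac5a930398a819040)) (.leaf (nat_lit 0xdab19b6e97b8655d2503b14831040))))) (.node (nat_lit 21) (.node (nat_lit 19) (.leaf (nat_lit 0xdab49de297b9ac5aa50398a819040)) (.node (nat_lit 20) (.leaf (nat_lit 0xd671bb5697b865b52503b14831040)) (.leaf (nat_lit 0xdab79b6297b8655d2503b14831040)))) (.node (nat_lit 22) (.leaf (nat_lit 0xd6f19b5697b865b52503b14831040)) (.node (nat_lit 23) (.leaf (nat_lit 0xdeb19b5697b865b52503b14831040)) (.leaf (nat_lit 0xbdab49ca307b9ac5a928398a418820)))))))⟩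
def s24C1 : LevCert := ⟨s24L1,
    [(nat_lit 1, nat_lit 0), (nat_lit 2, nat_lit 1), (nat_lit 4, nat_lit 2), (nat_lit 8, nat_lit 3), (nat_lit 16, nat_lit 4), (nat_lit 9, nat_lit 5), (nat_lit 18, nat_lit 6), (nat_lit 13, nat_lit 7), (nat_lit 3, nat_lit 8), (nat_lit 6, nat_lit 9), (nat_lit 12, nat_lit 10), (nat_lit 5, nat_lit 11), (nat_lit 10, nat_lit 12), (nat_lit 20, nat_lit 13), (nat_lit 17, nat_lit 14), (nat_lit 11, nat_lit 15), (nat_lit 22, nat_lit 16), (nat_lit 21, nat_lit 17), (nat_lit 19, nat_lit 18), (nat_lit 15, nat_lit 19), (nat_lit 7, nat_lit 20), (nat_lit 14, nat_lit 21)],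
    [],
    [nat_lit 0xbdab49ca307b9ac5a928398a418440, nat_lit 0xbdab49ca307b9ac5a928398a219020, nat_lit 0xbdab49ca307b9ac5a924398a818820, nat_lit 0xbdab49ca287b9ac5a930398a418820, nat_lit 0xbdab49ca297b9ac5aa08398a418820, nat_lit 0xbdab49a6307b9ac5aa48398a418820, nat_lit 0xbdab49b6307ba4c5a928398a418820, nat_lit 0xbdab49ca307b86c5a928398a468820, nat_lit 0xbdab49ca307b9ac5a92838ca430820, nat_lit 0xbdab49ca307b9a65a9283b0a418820, nat_lit 0xbdab49ca307b9a55a9283998418820, nat_lit 0xbdab49ca307b9ac595283994418820, nat_lit 0xbdaaa9ca307b9ac5d128398a418820, nat_lit 0xbdab19ca907b9ac5a928398a418820, nat_lit 0xbdab49c9707b9ac8a928398a418820, nat_lit 0xbaeb49ca307b9acb2928398a418820, nat_lit 0xbd6d49ca307b9ac5a928398a418820, nat_lit 0xbda74aca307b9ac5a928398a418820, nat_lit 0xbdab47ca309b9ac5a928398a418820, nat_lit 0xbdab49ca303b9ac5a928798a418820, nat_lit 0xbdab49ca3079dac5a928718a418820]⟩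
def s24L2 : Lev := ⟨nat_lit 1, nat_lit 0x7ffffe, (.node (nat_lit 12) (.node (nat_lit 6) (.node (nat_lit 3) (.node (nat_lit 2) (.leaf (nat_lit 0xbdab49ca307b9ac5a928398a418820)) (.leaf (nat_lit 0xbdab49ca307b9ac5a928398a418440))) (.node (nat_lit 4) (.leaf (nat_lit 0xbdab49b6297b86c5aa50398a809040)) (.node (nat_lit 5) (.leaf (nat_lit 0xbdab49ca307b9ac5a928398a119040)) (.leaf (nat_lit 0xbdab49b6297b8655aa503b02831040))))) (.node (nat_lit 9) (.node (nat_lit 7) (.leaf (nat_lit 0xbdab49b6297b86c5aa50384a831040)) (.node (nat_lit 8) (.leaf (nat_lit 0xbd6717b5693b865b52500b14831040)) (.leaf (nat_lit 0xbdab49ca307b9ac5a921398a819040)))) (.node (nat_lit 10) (.leaf (nat_lit 0xbdab49ca297b9ac5a830398a819040)) (.node (nat_lit 11) (.leaf (nat_lit 0xbdab49b6297b865586503b14831040)) (.leaf (nat_lit 0xbdab19b5697b8650d2503b14831040)))))) (.node (nat_lit 17) (.node (nat_lit 14) (.node (nat_lit 13) (.leaf (nat_lit 0xbdab49b6297b8615aa503b0a831040))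 (.leaf (nat_lit 0xbdab49b6297b82c5aa50398a819040))) (.node (nat_lit 15) (.leaf (nat_lit 0xbd6717b56938465b52507314831040)) (.node (nat_lit 16) (.leaf (nat_lit 0xbd6717b5690b865b52503b14831040)) (.leaf (nat_lit 0xbdab49ca217b9ac5a930398a819040))))) (.node (nat_lit 20) (.node (nat_lit 18) (.leaf (nat_lit 0xbdab19b4297b8655d2503b14831040)) (.node (nat_lit 19) (.leaf (nat_lit 0xbdab4986297b9ac5aa50398a819040)) (.leaf (nat_lit 0xbd6710b5697b865b52503b14831040)))) (.node (nat_lit 21) (.leaf (nat_lit 0xbdaa19b6297b8655d2503b14831040)) (.node (nat_lit 22) (.leaf (nat_lit 0xbd4319b5697b865b52503b14831040)) (.leaf (nat_lit 0xb86b19b5697b865b52503b14831040)))))))⟩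
def s24C2 : LevCert := ⟨s24L2,
    [(nat_lit 2, nat_lit 0), (nat_lit 4, nat_lit 1), (nat_lit 8, nat_lit 2), (nat_lit 16, nat_lit 3), (nat_lit 9, nat_lit 4), (nat_lit 18, nat_lit 5), (nat_lit 13, nat_lit 6), (nat_lit 3, nat_lit 7), (nat_lit 6, nat_lit 8), (nat_lit 12, nat_lit 9), (nat_lit 5, nat_lit 10), (nat_lit 10, nat_lit 11), (nat_lit 20, nat_lit 12), (nat_lit 17, nat_lit 13), (nat_lit 11, nat_lit 14), (nat_lit 22, nat_lit 15), (nat_lit 21, nat_lit 16), (nat_lit 19, nat_lit 17), (nat_lit 15, nat_lit 18), (nat_lit 7, nat_lit 19), (nat_lit 14, nat_lit 20)],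
    [],
    [nat_lit 0xbdab49ca307b9ac5a928398a219020, nat_lit 0xbdab49ca307b9ac5a924398a818820, nat_lit 0xbdab49ca287b9ac5a930398a418820, nat_lit 0xbdab49ca297b9ac5aa08398a418820, nat_lit 0xbdab49a6307b9ac5aa48398a418820, nat_lit 0xbdab49b6307ba4c5a928398a418820, nat_lit 0xbdab49ca307b86c5a928398a468820, nat_lit 0xbdab49ca307b9ac5a92838ca430820, nat_lit 0xbdab49ca307b9a65a9283b0a418820, nat_lit 0xbdab49ca307b9a55a9283998418820, nat_lit 0xbdab49ca307b9ac595283994418820, nat_lit 0xbdaaa9ca307b9ac5d128398a418820, nat_lit 0xbdab19ca907b9ac5a928398a418820, nat_lit 0xbdab49c9707b9ac8a928398a418820, nat_lit 0xbaeb49ca307b9acb2928398a418820, nat_lit 0xbd6d49ca307b9ac5a928398a418820, nat_lit 0xbda74aca307b9ac5a928398a418820, nat_lit 0xbdab47ca309b9ac5a928398a418820, nat_lit 0xbdab49ca303b9ac5a928798a418820, nat_lit 0xbdab49ca3079dac5a928718a418820]⟩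
def s24L3 : Lev := ⟨nat_lit 2, nat_lit 0x7ffffc, (.node (nat_lit 12) (.node (nat_lit 7) (.node (nat_lit 4) (.node (nat_lit 3) (.leaf (nat_lit 0xbdab49ca307b9ac5a928398a418820)) (.leaf (nat_lit 0xbdab49b6297b86c5aa50398a811020))) (.node (nat_lit 5) (.leaf (nat_lit 0xbdab49ca307b9ac5a928398a219020)) (.node (nat_lit 6) (.leaf (nat_lit 0xbdab49b6297b8655aa503b04831020)) (.leaf (nat_lit 0xbdab49b6297b86c5aa50388a831020))))) (.node (nat_lit 9) (.node (nat_lit 8) (.leaf (nat_lit 0xbd6717b5693b865b52501314831020)) (.leaf (nat_lit 0xbdab49ca307b9ac5a922398a819020))) (.node (nat_lit 10) (.leaf (nat_lit 0xbdab49ca297b9ac5a850398a819020)) (.node (nat_lit 11) (.leaf (nat_lit 0xbdab49b6297b86558a503b14831020)) (.leaf (nat_lit 0xbdab19b5697b865152503b14831020)))))) (.node (nat_lit 17) (.node (nat_lit 14) (.node (nat_lit 13) (.leaf (nat_lit 0xbdab49b6297b8625aa503b0a831020)) (.leaf (nat_lit 0xbdab49b6297b84c5aa50398a819020)))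 (.node (nat_lit 15) (.leaf (nat_lit 0xbd6717b56938865b52507314831020)) (.node (nat_lit 16) (.leaf (nat_lit 0xbd6717b56913865b52503b14831020)) (.leaf (nat_lit 0xbdab49ca227b9ac5a930398a819020))))) (.node (nat_lit 20) (.node (nat_lit 18) (.leaf (nat_lit 0xbdab19b4497b8655d2503b14831020)) (.node (nat_lit 19) (.leaf (nat_lit 0xbdab498a297b9ac5aa50398a819020)) (.leaf (nat_lit 0xbd671135697b865b52503b14831020)))) (.node (nat_lit 21) (.leaf (nat_lit 0xbdaa29b6297b8655d2503b14831020)) (.node (nat_lit 22) (.leaf (nat_lit 0xbd4519b5697b865b52503b14831020)) (.leaf (nat_lit 0xb8ab19b5697b865b52503b14831020)))))))⟩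
def s24C3 : LevCert := ⟨s24L3,
    [(nat_lit 4, nat_lit 0), (nat_lit 8, nat_lit 1), (nat_lit 16, nat_lit 2), (nat_lit 9, nat_lit 3), (nat_lit 18, nat_lit 4), (nat_lit 13, nat_lit 5), (nat_lit 3, nat_lit 6), (nat_lit 6, nat_lit 7), (nat_lit 12, nat_lit 8), (nat_lit 5, nat_lit 9), (nat_lit 10, nat_lit 10), (nat_lit 20, nat_lit 11), (nat_lit 17, nat_lit 12), (nat_lit 11, nat_lit 13), (nat_lit 22, nat_lit 14), (nat_lit 21, nat_lit 15), (nat_lit 19, nat_lit 16), (nat_lit 15, nat_lit 17), (nat_lit 7, nat_lit 18), (nat_lit 14, nat_lit 19)],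
    [],
    [nat_lit 0xbdab49ca307b9ac5a924398a818820, nat_lit 0xbdab49ca287b9ac5a930398a418820, nat_lit 0xbdab49ca297b9ac5aa08398a418820, nat_lit 0xbdab49a6307b9ac5aa48398a418820, nat_lit 0xbdab49b6307ba4c5a928398a418820, nat_lit 0xbdab49ca307b86c5a928398a468820, nat_lit 0xbdab49ca307b9ac5a92838ca430820, nat_lit 0xbdab49ca307b9a65a9283b0a418820, nat_lit 0xbdab49ca307b9a55a9283998418820, nat_lit 0xbdab49ca307b9ac595283994418820, nat_lit 0xbdaaa9ca307b9ac5d128398a418820, nat_lit 0xbdab19ca907b9ac5a928398a418820, nat_lit 0xbdab49c9707b9ac8a928398a418820, nat_lit 0xbaeb49ca307b9acb2928398a418820, nat_lit 0xbd6d49ca307b9ac5a928398a418820, nat_lit 0xbda74aca307b9ac5a928398a418820, nat_lit 0xbdab47ca309b9ac5a928398a418820, nat_lit 0xbdab49ca303b9ac5a928798a418820, nat_lit 0xbdab49ca3079dac5a928718a418820]⟩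
def s24L4 : Lev := ⟨nat_lit 4, nat_lit 0x7ffff8, (.node (nat_lit 13) (.node (nat_lit 8) (.node (nat_lit 5) (.node (nat_lit 4) (.leaf (nat_lit 0xbdab49b6297b86c5aa50398a820820)) (.leaf (nat_lit 0xbdab49ca307b9ac5a928398a418820))) (.node (nat_lit 6) (.leaf (nat_lit 0xbdab49b6297b8655aa503b08830820)) (.node (nat_lit 7) (.leaf (nat_lit 0xbdab49b6297b86c5aa50390a830820)) (.leaf (nat_lit 0xbd6717b5693b865b52502314830820))))) (.node (nat_lit 10) (.node (nat_lit 9) (.leaf (nat_lit 0xbdab49ca307b9ac5a924398a818820)) (.leaf (nat_lit 0xbdab49ca297b9ac5a890398a818820))) (.node (nat_lit 11) (.leaf (nat_lit 0xbdab49b6297b865592503b14830820)) (.node (nat_lit 12) (.leaf (nat_lit 0xbdab19b5697b865252503b14830820)) (.leaf (nat_lit 0xbdab49b6297b8645aa503b0a830820)))))) (.node (nat_lit 18) (.node (nat_lit 15) (.node (nat_lit 14) (.leaf (nat_lit 0xbdab49b6297b88c5aa50398a818820)) (.leaf (nat_lit 0xbd6717b56939065b52507314830820)))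 (.node (nat_lit 16) (.leaf (nat_lit 0xbd6717b56923865b52503b14830820)) (.node (nat_lit 17) (.leaf (nat_lit 0xbdab49ca247b9ac5a930398a818820)) (.leaf (nat_lit 0xbdab19b4897b8655d2503b14830820))))) (.node (nat_lit 20) (.node (nat_lit 19) (.leaf (nat_lit 0xbdab4992297b9ac5aa50398a818820)) (.leaf (nat_lit 0xbd671235697b865b52503b14830820))) (.node (nat_lit 21) (.leaf (nat_lit 0xbdaa49b6297b8655d2503b14830820)) (.node (nat_lit 22) (.leaf (nat_lit 0xbd4919b5697b865b52503b14830820)) (.leaf (nat_lit 0xb92b19b5697b865b52503b14830820)))))))⟩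
def s24C4 : LevCert := ⟨s24L4,
    [(nat_lit 8, nat_lit 0), (nat_lit 16, nat_lit 1), (nat_lit 9, nat_lit 2), (nat_lit 18, nat_lit 3), (nat_lit 13, nat_lit 4), (nat_lit 3, nat_lit 5), (nat_lit 6, nat_lit 6), (nat_lit 12, nat_lit 7), (nat_lit 5, nat_lit 8), (nat_lit 10, nat_lit 9), (nat_lit 20, nat_lit 10), (nat_lit 17, nat_lit 11), (nat_lit 11, nat_lit 12), (nat_lit 22, nat_lit 13), (nat_lit 21, nat_lit 14), (nat_lit 19, nat_lit 15), (nat_lit 15, nat_lit 16), (nat_lit 7, nat_lit 17), (nat_lit 14, nat_lit 18)],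
    [],
    [nat_lit 0xbdab49ca287b9ac5a930398a418820, nat_lit 0xbdab49ca297b9ac5aa08398a418820, nat_lit 0xbdab49a6307b9ac5aa48398a418820, nat_lit 0xbdab49b6307ba4c5a928398a418820, nat_lit 0xbdab49ca307b86c5a928398a468820, nat_lit 0xbdab49ca307b9ac5a92838ca430820, nat_lit 0xbdab49ca307b9a65a9283b0a418820, nat_lit 0xbdab49ca307b9a55a9283998418820, nat_lit 0xbdab49ca307b9ac595283994418820, nat_lit 0xbdaaa9ca307b9ac5d128398a418820, nat_lit 0xbdab19ca907b9ac5a928398a418820, nat_lit 0xbdab49c9707b9ac8a928398a418820, nat_lit 0xbaeb49ca307b9acb2928398a418820, nat_lit 0xbd6d49ca307b9ac5a928398a418820, nat_lit 0xbda74aca307b9ac5a928398a418820, nat_lit 0xbdab47ca309b9ac5a928398a418820, nat_lit 0xbdab49ca303b9ac5a928798a418820, nat_lit 0xbdab49ca3079dac5a928718a418820]⟩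
def s24L5 : Lev := ⟨nat_lit 8, nat_lit 0x7fffe8, (.node (nat_lit 13) (.node (nat_lit 8) (.node (nat_lit 6) (.node (nat_lit 5) (.leaf (nat_lit 0xbdab49b6297b86c5aa50398a440820)) (.leaf (nat_lit 0xbdab49b6297b8655aa503b10430820))) (.node (nat_lit 7) (.leaf (nat_lit 0xbdab49b6297b86c5aa503a0a430820)) (.leaf (nat_lit 0xbd6717b5693b865b52504314430820)))) (.node (nat_lit 10) (.node (nat_lit 9) (.leaf (nat_lit 0xbdab49ca307b9ac5a928398a418820)) (.leaf (nat_lit 0xbdab49ca297b9ac5a910398a418820))) (.node (nat_lit 11) (.leaf (nat_lit 0xbdab49b6297b8655a2503b14430820)) (.node (nat_lit 12) (.leaf (nat_lit 0xbdab19b5697b865452503b14430820)) (.leaf (nat_lit 0xbdab49b6297b8685aa503b0a430820)))))) (.node (nat_lit 18) (.node (nat_lit 15) (.node (nat_lit 14) (.leaf (nat_lit 0xbdab49b6297b90c5aa50398a418820)) (.leaf (nat_lit 0xbd6717b5693a065b52507314430820))) (.node (nat_lit 16) (.leaf (nat_lit 0xbd6717b56943865b52503b14430820))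 (.node (nat_lit 17) (.leaf (nat_lit 0xbdab49ca287b9ac5a930398a418820)) (.leaf (nat_lit 0xbdab19b5097b8655d2503b14430820))))) (.node (nat_lit 20) (.node (nat_lit 19) (.leaf (nat_lit 0xbdab49a2297b9ac5aa50398a418820)) (.leaf (nat_lit 0xbd671435697b865b52503b14430820))) (.node (nat_lit 21) (.leaf (nat_lit 0xbdaa89b6297b8655d2503b14430820)) (.node (nat_lit 22) (.leaf (nat_lit 0xbd5119b5697b865b52503b14430820)) (.leaf (nat_lit 0xba2b19b5697b865b52503b14430820)))))))⟩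
def s24C5 : LevCert := ⟨s24L5,
    [(nat_lit 16, nat_lit 0), (nat_lit 9, nat_lit 1), (nat_lit 18, nat_lit 2), (nat_lit 13, nat_lit 3), (nat_lit 3, nat_lit 4), (nat_lit 6, nat_lit 5), (nat_lit 12, nat_lit 6), (nat_lit 5, nat_lit 7), (nat_lit 10, nat_lit 8), (nat_lit 20, nat_lit 9), (nat_lit 17, nat_lit 10), (nat_lit 11, nat_lit 11), (nat_lit 22, nat_lit 12), (nat_lit 21, nat_lit 13), (nat_lit 19, nat_lit 14), (nat_lit 15, nat_lit 15), (nat_lit 7, nat_lit 16), (nat_lit 14, nat_lit 17)],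
    [],
    [nat_lit 0xbdab49ca297b9ac5aa08398a418820, nat_lit 0xbdab49a6307b9ac5aa48398a418820, nat_lit 0xbdab49b6307ba4c5a928398a418820, nat_lit 0xbdab49ca307b86c5a928398a468820, nat_lit 0xbdab49ca307b9ac5a92838ca430820, nat_lit 0xbdab49ca307b9a65a9283b0a418820, nat_lit 0xbdab49ca307b9a55a9283998418820, nat_lit 0xbdab49ca307b9ac595283994418820, nat_lit 0xbdaaa9ca307b9ac5d128398a418820, nat_lit 0xbdab19ca907b9ac5a928398a418820, nat_lit 0xbdab49c9707b9ac8a928398a418820, nat_lit 0xbaeb49ca307b9acb2928398a418820, nat_lit 0xbd6d49ca307b9ac5a928398a418820, nat_lit 0xbda74aca307b9ac5a928398a418820, nat_lit 0xbdab47ca309b9ac5a928398a418820, nat_lit 0xbdab49ca303b9ac5a928798a418820, nat_lit 0xbdab49ca3079dac5a928718a418820]⟩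
def s24L6 : Lev := ⟨nat_lit 16, nat_lit 0x7ffee8, (.node (nat_lit 14) (.node (nat_lit 9) (.node (nat_lit 6) (.node (nat_lit 5) (.leaf (nat_lit 0xbdab49b6297b86c5aa48398a480820)) (.leaf (nat_lit 0xbdab49b6297b8655aa483b20430820))) (.node (nat_lit 7) (.leaf (nat_lit 0xbdab49b6297b86c5aa483c0a430820)) (.leaf (nat_lit 0xbd6717b5693b865b52488314430820)))) (.node (nat_lit 11) (.node (nat_lit 10) (.leaf (nat_lit 0xbdab49ca297b9ac5aa08398a418820)) (.leaf (nat_lit 0xbdab49b6297b8655c2483b14430820))) (.node (nat_lit 12) (.leaf (nat_lit 0xbdab19b5697b865852483b14430820)) (.node (nat_lit 13) (.leaf (nat_lit 0xbdab49b6297b8705aa483b0a430820)) (.leaf (nat_lit 0xbdab49b6297ba0c5aa48398a418820)))))) (.node (nat_lit 18) (.node (nat_lit 16) (.node (nat_lit 15) (.leaf (nat_lit 0xbd6717b5693c065b52487314430820)) (.leaf (nat_lit 0xbd6717b56983865b52483b14430820))) (.node (nat_lit 17) (.leaf (nat_lit 0xbdab49ca307b9ac5a928398a418820))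 (.leaf (nat_lit 0xbdab19b6097b8655d2483b14430820)))) (.node (nat_lit 20) (.node (nat_lit 19) (.leaf (nat_lit 0xbdab49c2297b9ac5aa48398a418820)) (.leaf (nat_lit 0xbd671835697b865b52483b14430820))) (.node (nat_lit 21) (.leaf (nat_lit 0xbdab09b6297b8655d2483b14430820)) (.node (nat_lit 22) (.leaf (nat_lit 0xbd6119b5697b865b52483b14430820)) (.leaf (nat_lit 0xbc2b19b5697b865b52483b14430820)))))))⟩
def s24C6 : LevCert := ⟨s24L6,
    [(nat_lit 9, nat_lit 0), (nat_lit 18, nat_lit 1), (nat_lit 13, nat_lit 2), (nat_lit 3, nat_lit 3), (nat_lit 6, nat_lit 4), (nat_lit 12, nat_lit 5), (nat_lit 5, nat_lit 6), (nat_lit 10, nat_lit 7), (nat_lit 20, nat_lit 8), (nat_lit 17, nat_lit 9), (nat_lit 11, nat_lit 10), (nat_lit 22, nat_lit 11), (nat_lit 21, nat_lit 12), (nat_lit 19, nat_lit 13), (nat_lit 15, nat_lit 14), (nat_lit 7, nat_lit 15), (nat_lit 14, nat_lit 16)],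
    [],
    [nat_lit 0xbdab49a6307b9ac5aa48398a418820, nat_lit 0xbdab49b6307ba4c5a928398a418820, nat_lit 0xbdab49ca307b86c5a928398a468820, nat_lit 0xbdab49ca307b9ac5a92838ca430820, nat_lit 0xbdab49ca307b9a65a9283b0a418820, nat_lit 0xbdab49ca307b9a55a9283998418820, nat_lit 0xbdab49ca307b9ac595283994418820, nat_lit 0xbdaaa9ca307b9ac5d128398a418820, nat_lit 0xbdab19ca907b9ac5a928398a418820, nat_lit 0xbdab49c9707b9ac8a928398a418820, nat_lit 0xbaeb49ca307b9acb2928398a418820, nat_lit 0xbd6d49ca307b9ac5a928398a418820, nat_lit 0xbda74aca307b9ac5a928398a418820, nat_lit 0xbdab47ca309b9ac5a928398a418820, nat_lit 0xbdab49ca303b9ac5a928798a418820, nat_lit 0xbdab49ca3079dac5a928718a418820]⟩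
def s24L7 : Lev := ⟨nat_lit 9, nat_lit 0x7efee8, (.node (nat_lit 13) (.node (nat_lit 9) (.node (nat_lit 6) (.node (nat_lit 5) (.leaf (nat_lit 0xbdab49b6307b86c5aa48398a448820)) (.leaf (nat_lit 0xbdab49b6307b8655aa483b12430820))) (.node (nat_lit 7) (.leaf (nat_lit 0xbdab49b6307b86c5aa483a4a430820)) (.leaf (nat_lit 0xbd6717b5703b865b52484b14430820)))) (.node (nat_lit 11) (.node (nat_lit 10) (.leaf (nat_lit 0xbdab49ca307b9ac5a928398a418820)) (.leaf (nat_lit 0xbdab49b6307b8655a6483b14430820))) (.node (nat_lit 12) (.leaf (nat_lit 0xbdab19b5707b8654d2483b14430820)) (.leaf (nat_lit 0xbdab49b6307b8695aa483b0a430820))))) (.node (nat_lit 18) (.node (nat_lit 15) (.node (nat_lit 14) (.leaf (nat_lit 0xbdab49b6307b92c5aa48398a418820)) (.leaf (nat_lit 0xbd6717b5703a465b52487314430820))) (.node (nat_lit 17) (.leaf (nat_lit 0xbd6717b5704b865b52483b14430820)) (.leaf (nat_lit 0xbdab19b5307b8655d2483b14430820)))) (.node (nat_lit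 20) (.node (nat_lit 19) (.leaf (nat_lit 0xbdab49a6307b9ac5aa48398a418820)) (.leaf (nat_lit 0xbd6714b5707b865b52483b14430820))) (.node (nat_lit 21) (.leaf (nat_lit 0xbdaa99b6307b8655d2483b14430820)) (.node (nat_lit 22) (.leaf (nat_lit 0xbd5319b5707b865b52483b14430820)) (.leaf (nat_lit 0xba6b19b5707b865b52483b14430820)))))))⟩
def s24C7 : LevCert := ⟨s24L7,
    [(nat_lit 18, nat_lit 0), (nat_lit 13, nat_lit 1), (nat_lit 3, nat_lit 2), (nat_lit 6, nat_lit 3), (nat_lit 12, nat_lit 4), (nat_lit 5, nat_lit 5), (nat_lit 10, nat_lit 6), (nat_lit 20, nat_lit 7), (nat_lit 17, nat_lit 8), (nat_lit 11, nat_lit 9), (nat_lit 22, nat_lit 10), (nat_lit 21, nat_lit 11), (nat_lit 19, nat_lit 12), (nat_lit 15, nat_lit 13), (nat_lit 7, nat_lit 14), (nat_lit 14, nat_lit 15)],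
    [],
    [nat_lit 0xbdab49b6307ba4c5a928398a418820, nat_lit 0xbdab49ca307b86c5a928398a468820, nat_lit 0xbdab49ca307b9ac5a92838ca430820, nat_lit 0xbdab49ca307b9a65a9283b0a418820, nat_lit 0xbdab49ca307b9a55a9283998418820, nat_lit 0xbdab49ca307b9ac595283994418820, nat_lit 0xbdaaa9ca307b9ac5d128398a418820, nat_lit 0xbdab19ca907b9ac5a928398a418820, nat_lit 0xbdab49c9707b9ac8a928398a418820, nat_lit 0xbaeb49ca307b9acb2928398a418820, nat_lit 0xbd6d49ca307b9ac5a928398a418820, nat_lit 0xbda74aca307b9ac5a928398a418820, nat_lit 0xbdab47ca309b9ac5a928398a418820, nat_lit 0xbdab49ca303b9ac5a928798a418820, nat_lit 0xbdab49ca3079dac5a928718a418820]⟩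
def s24L8 : Lev := ⟨nat_lit 18, nat_lit 0x7efce8, (.node (nat_lit 14) (.node (nat_lit 10) (.node (nat_lit 6) (.node (nat_lit 5) (.leaf (nat_lit 0xbdab49b6307b86c5a928398a490820)) (.leaf (nat_lit 0xbdab49b6307b8655a9283b24430820))) (.node (nat_lit 7) (.leaf (nat_lit 0xbdab49b6307b86c5a9283c8a430820)) (.leaf (nat_lit 0xbd6717b5703b865b51289314430820)))) (.node (nat_lit 12) (.node (nat_lit 11) (.leaf (nat_lit 0xbdab49b6307b8655c9283b14430820)) (.leaf (nat_lit 0xbdab19b5707b865951283b14430820))) (.node (nat_lit 13) (.leaf (nat_lit 0xbdab49b6307b8725a9283b0a430820)) (.leaf (nat_lit 0xbdab49b6307ba4c5a928398a418820))))) (.node (nat_lit 19) (.node (nat_lit 17) (.node (nat_lit 15) (.leaf (nat_lit 0xbd6717b5703c865b51287314430820)) (.leaf (nat_lit 0xbd6717b57093865b51283b14430820))) (.node (nat_lit 18) (.leaf (nat_lit 0xbdab19b6507b8655d1283b14430820)) (.leaf (nat_lit 0xbdab49ca307b9ac5a928398a418820)))) (.node (nat_lit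 21) (.node (nat_lit 20) (.leaf (nat_lit 0xbd671935707b865b51283b14430820)) (.leaf (nat_lit 0xbdab29b6307b8655d1283b14430820))) (.node (nat_lit 22) (.leaf (nat_lit 0xbd6519b5707b865b51283b14430820)) (.leaf (nat_lit 0xbcab19b5707b865b51283b14430820))))))⟩
def s24C8 : LevCert := ⟨s24L8,
    [(nat_lit 13, nat_lit 0), (nat_lit 3, nat_lit 1), (nat_lit 6, nat_lit 2), (nat_lit 12, nat_lit 3), (nat_lit 5, nat_lit 4), (nat_lit 10, nat_lit 5), (nat_lit 20, nat_lit 6), (nat_lit 17, nat_lit 7), (nat_lit 11, nat_lit 8), (nat_lit 22, nat_lit 9), (nat_lit 21, nat_lit 10), (nat_lit 19, nat_lit 11), (nat_lit 15, nat_lit 12), (nat_lit 7, nat_lit 13), (nat_lit 14, nat_lit 14)],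
    [],
    [nat_lit 0xbdab49ca307b86c5a928398a468820, nat_lit 0xbdab49ca307b9ac5a92838ca430820, nat_lit 0xbdab49ca307b9a65a9283b0a418820, nat_lit 0xbdab49ca307b9a55a9283998418820, nat_lit 0xbdab49ca307b9ac595283994418820, nat_lit 0xbdaaa9ca307b9ac5d128398a418820, nat_lit 0xbdab19ca907b9ac5a928398a418820, nat_lit 0xbdab49c9707b9ac8a928398a418820, nat_lit 0xbaeb49ca307b9acb2928398a418820, nat_lit 0xbd6d49ca307b9ac5a928398a418820, nat_lit 0xbda74aca307b9ac5a928398a418820, nat_lit 0xbdab47ca309b9ac5a928398a418820, nat_lit 0xbdab49ca303b9ac5a928798a418820, nat_lit 0xbdab49ca3079dac5a928718a418820]⟩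
def s24L9 : Lev := ⟨nat_lit 13, nat_lit 0x7afce8, (.node (nat_lit 13) (.node (nat_lit 7) (.node (nat_lit 5) (.leaf (nat_lit 0xbdab49ca307b86c5a928398a468820)) (.node (nat_lit 6) (.leaf (nat_lit 0xbdab49ca307b8655a9283b1a430820)) (.leaf (nat_lit 0xbdab49ca307b86c5a9283b4a430820)))) (.node (nat_lit 11) (.node (nat_lit 10) (.leaf (nat_lit 0xbd6717c9703b865b51286b14430820)) (.leaf (nat_lit 0xbdab49ca307b8655b5283b14430820))) (.node (nat_lit 12) (.leaf (nat_lit 0xbdab19c9707b8656d1283b14430820)) (.leaf (nat_lit 0xbdab49ca307b86d5a9283b0a430820))))) (.node (nat_lit 19) (.node (nat_lit 15) (.node (nat_lit 14) (.leaf (nat_lit 0xbdab49ca307b9ac5a928398a418820)) (.leaf (nat_lit 0xbd6717c9703b465b51287314430820))) (.node (nat_lit 17) (.leaf (nat_lit 0xbd6717c9706b865b51283b14430820)) (.leaf (nat_lit 0xbdab19c9b07b8655d1283b14430820)))) (.node (nat_lit 21) (.node (nat_lit 20) (.leaf (nat_lit 0xbd6716c9707b865b51283b14430820))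 (.leaf (nat_lit 0xbdaad9ca307b8655d1283b14430820))) (.node (nat_lit 22) (.leaf (nat_lit 0xbd5b19c9707b865b51283b14430820)) (.leaf (nat_lit 0xbb6b19c9707b865b51283b14430820))))))⟩
def s24C9 : LevCert := ⟨s24L9,
    [(nat_lit 3, nat_lit 0), (nat_lit 6, nat_lit 1), (nat_lit 12, nat_lit 2), (nat_lit 5, nat_lit 3), (nat_lit 10, nat_lit 4), (nat_lit 20, nat_lit 5), (nat_lit 17, nat_lit 6), (nat_lit 11, nat_lit 7), (nat_lit 22, nat_lit 8), (nat_lit 21, nat_lit 9), (nat_lit 19, nat_lit 10), (nat_lit 15, nat_lit 11), (nat_lit 7, nat_lit 12), (nat_lit 14, nat_lit 13)],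
    [],
    [nat_lit 0xbdab49ca307b9ac5a92838ca430820, nat_lit 0xbdab49ca307b9a65a9283b0a418820, nat_lit 0xbdab49ca307b9a55a9283998418820, nat_lit 0xbdab49ca307b9ac595283994418820, nat_lit 0xbdaaa9ca307b9ac5d128398a418820, nat_lit 0xbdab19ca907b9ac5a928398a418820, nat_lit 0xbdab49c9707b9ac8a928398a418820, nat_lit 0xbaeb49ca307b9acb2928398a418820, nat_lit 0xbd6d49ca307b9ac5a928398a418820, nat_lit 0xbda74aca307b9ac5a928398a418820, nat_lit 0xbdab47ca309b9ac5a928398a418820, nat_lit 0xbdab49ca303b9ac5a928798a418820, nat_lit 0xbdab49ca3079dac5a928718a418820]⟩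
def s24L10 : Lev := ⟨nat_lit 3, nat_lit 0x7adce8, (.node (nat_lit 14) (.node (nat_lit 7) (.node (nat_lit 5) (.leaf (nat_lit 0xbdab49ca307b9ac5a928398a418820)) (.node (nat_lit 6) (.leaf (nat_lit 0xbdab49ca307b9a55a9283b06430820)) (.leaf (nat_lit 0xbdab49ca307b9ac5a92838ca430820)))) (.node (nat_lit 11) (.node (nat_lit 10) (.leaf (nat_lit 0xbd6717c9703b9a5b51281b14430820)) (.leaf (nat_lit 0xbdab49ca307b9a558d283b14430820))) (.node (nat_lit 12) (.leaf (nat_lit 0xbdab19c9707b9a51d1283b14430820)) (.leaf (nat_lit 0xbdab49ca307b9a35a9283b0a430820))))) (.node (nat_lit 19) (.node (nat_lit 15) (.leaf (nat_lit 0xbd6717c97038da5b51287314430820)) (.node (nat_lit 17) (.leaf (nat_lit 0xbd6717c9701b9a5b51283b14430820)) (.leaf (nat_lit 0xbdab19c8707b9a55d1283b14430820)))) (.node (nat_lit 21) (.node (nat_lit 20) (.leaf (nat_lit 0xbd6711c9707b9a5b51283b14430820)) (.leaf (nat_lit 0xbdaa39ca307b9a55d1283b14430820))) (.node (nat_lit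 22) (.leaf (nat_lit 0xbd4719c9707b9a5b51283b14430820)) (.leaf (nat_lit 0xb8eb19c9707b9a5b51283b14430820))))))⟩
def s24C10 : LevCert := ⟨s24L10,
    [(nat_lit 6, nat_lit 0), (nat_lit 12, nat_lit 1), (nat_lit 5, nat_lit 2), (nat_lit 10, nat_lit 3), (nat_lit 20, nat_lit 4), (nat_lit 17, nat_lit 5), (nat_lit 11, nat_lit 6), (nat_lit 22, nat_lit 7), (nat_lit 21, nat_lit 8), (nat_lit 19, nat_lit 9), (nat_lit 15, nat_lit 10), (nat_lit 7, nat_lit 11), (nat_lit 14, nat_lit 12)],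
    [],
    [nat_lit 0xbdab49ca307b9a65a9283b0a418820, nat_lit 0xbdab49ca307b9a55a9283998418820, nat_lit 0xbdab49ca307b9ac595283994418820, nat_lit 0xbdaaa9ca307b9ac5d128398a418820, nat_lit 0xbdab19ca907b9ac5a928398a418820, nat_lit 0xbdab49c9707b9ac8a928398a418820, nat_lit 0xbaeb49ca307b9acb2928398a418820, nat_lit 0xbd6d49ca307b9ac5a928398a418820, nat_lit 0xbda74aca307b9ac5a928398a418820, nat_lit 0xbdab47ca309b9ac5a928398a418820, nat_lit 0xbdab49ca303b9ac5a928798a418820, nat_lit 0xbdab49ca3079dac5a928718a418820]⟩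
def s24L11 : Lev := ⟨nat_lit 6, nat_lit 0x7adce0, (.node (nat_lit 14) (.node (nat_lit 10) (.node (nat_lit 6) (.leaf (nat_lit 0xbdab49ca307b9a55a9283b0c418820)) (.node (nat_lit 7) (.leaf (nat_lit 0xbdab49ca307b9ac5a928398a418820)) (.leaf (nat_lit 0xbd6717c9703b9a5b51283314418820)))) (.node (nat_lit 11) (.leaf (nat_lit 0xbdab49ca307b9a5599283b14418820)) (.node (nat_lit 12) (.leaf (nat_lit 0xbdab19c9707b9a5351283b14418820)) (.leaf (nat_lit 0xbdab49ca307b9a65a9283b0a418820))))) (.node (nat_lit 19) (.node (nat_lit 15) (.leaf (nat_lit 0xbd6717c970399a5b51287314418820)) (.node (nat_lit 17) (.leaf (nat_lit 0xbd6717c970339a5b51283b14418820)) (.leaf (nat_lit 0xbdab19c8d07b9a55d1283b14418820)))) (.node (nat_lit 21) (.node (nat_lit 20) (.leaf (nat_lit 0xbd671349707b9a5b51283b14418820)) (.leaf (nat_lit 0xbdaa69ca307b9a55d1283b14418820))) (.node (nat_lit 22) (.leaf (nat_lit 0xbd4d19c9707b9a5b51283b14418820)) (.leaf (nat_lit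 0xb9ab19c9707b9a5b51283b14418820))))))⟩
def s24C11 : LevCert := ⟨s24L11,
    [(nat_lit 12, nat_lit 0), (nat_lit 5, nat_lit 1), (nat_lit 10, nat_lit 2), (nat_lit 20, nat_lit 3), (nat_lit 17, nat_lit 4), (nat_lit 11, nat_lit 5), (nat_lit 22, nat_lit 6), (nat_lit 21, nat_lit 7), (nat_lit 19, nat_lit 8), (nat_lit 15, nat_lit 9), (nat_lit 7, nat_lit 10), (nat_lit 14, nat_lit 11)],
    [],
    [nat_lit 0xbdab49ca307b9a55a9283998418820, nat_lit 0xbdab49ca307b9ac595283994418820, nat_lit 0xbdaaa9ca307b9ac5d128398a418820, nat_lit 0xbdab19ca907b9ac5a928398a418820, nat_lit 0xbdab49c9707b9ac8a928398a418820, nat_lit 0xbaeb49ca307b9acb2928398a418820, nat_lit 0xbd6d49ca307b9ac5a928398a418820, nat_lit 0xbda74aca307b9ac5a928398a418820, nat_lit 0xbdab47ca309b9ac5a928398a418820, nat_lit 0xbdab49ca303b9ac5a928798a418820, nat_lit 0xbdab49ca3079dac5a928718a418820]⟩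
def s24L12 : Lev := ⟨nat_lit 12, nat_lit 0x7adca0, (.node (nat_lit 15) (.node (nat_lit 11) (.node (nat_lit 7) (.leaf (nat_lit 0xbdab49ca307b9a55a9283998418820)) (.node (nat_lit 10) (.leaf (nat_lit 0xbd6717c9703b9a5b51286194418820)) (.leaf (nat_lit 0xbdab49ca307b9a55b1283994418820)))) (.node (nat_lit 12) (.leaf (nat_lit 0xbdab19c9707b9a5651283994418820)) (.node (nat_lit 14) (.leaf (nat_lit 0xbdab49ca307b9ac5a928398a418820)) (.leaf (nat_lit 0xbd6717c9703b1a5b51287194418820))))) (.node (nat_lit 20) (.node (nat_lit 17) (.leaf (nat_lit 0xbd6717c970639a5b51283994418820)) (.node (nat_lit 19) (.leaf (nat_lit 0xbdab19c9907b9a55d1283994418820)) (.leaf (nat_lit 0xbd671649707b9a5b51283994418820)))) (.node (nat_lit 21) (.leaf (nat_lit 0xbdaac9ca307b9a55d1283994418820)) (.node (nat_lit 22) (.leaf (nat_lit 0xbd5919c9707b9a5b51283994418820)) (.leaf (nat_lit 0xbb2b19c9707b9a5b51283994418820))))))⟩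
def s24C12 : LevCert := ⟨s24L12,
    [(nat_lit 5, nat_lit 0), (nat_lit 10, nat_lit 1), (nat_lit 20, nat_lit 2), (nat_lit 17, nat_lit 3), (nat_lit 11, nat_lit 4), (nat_lit 22, nat_lit 5), (nat_lit 21, nat_lit 6), (nat_lit 19, nat_lit 7), (nat_lit 15, nat_lit 8), (nat_lit 7, nat_lit 9), (nat_lit 14, nat_lit 10)],
    [],
    [nat_lit 0xbdab49ca307b9ac595283994418820, nat_lit 0xbdaaa9ca307b9ac5d128398a418820, nat_lit 0xbdab19ca907b9ac5a928398a418820, nat_lit 0xbdab49c9707b9ac8a928398a418820, nat_lit 0xbaeb49ca307b9acb2928398a418820, nat_lit 0xbd6d49ca307b9ac5a928398a418820, nat_lit 0xbda74aca307b9ac5a928398a418820, nat_lit 0xbdab47ca309b9ac5a928398a418820, nat_lit 0xbdab49ca303b9ac5a928798a418820, nat_lit 0xbdab49ca3079dac5a928718a418820]⟩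
def s24L13 : Lev := ⟨nat_lit 5, nat_lit 0x7acca0, (.node (nat_lit 15) (.node (nat_lit 10) (.node (nat_lit 7) (.leaf (nat_lit 0xbdab49ca307b9ac5a928398a418820)) (.leaf (nat_lit 0xbd6717c9703b9acb51282994418820))) (.node (nat_lit 11) (.leaf (nat_lit 0xbdab49ca307b9ac595283994418820)) (.node (nat_lit 14) (.leaf (nat_lit 0xbdab19c9707b9ac2d1283994418820)) (.leaf (nat_lit 0xbd6717c970395acb51287194418820))))) (.node (nat_lit 20) (.node (nat_lit 17) (.leaf (nat_lit 0xbd6717c9702b9acb51283994418820)) (.node (nat_lit 19) (.leaf (nat_lit 0xbdab19c8b07b9ac5d1283994418820)) (.leaf (nat_lit 0xbd6712c9707b9acb51283994418820)))) (.node (nat_lit 21) (.leaf (nat_lit 0xbdaa59ca307b9ac5d1283994418820)) (.node (nat_lit 22) (.leaf (nat_lit 0xbd4b19c9707b9acb51283994418820)) (.leaf (nat_lit 0xb96b19c9707b9acb51283994418820))))))⟩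
def s24C13 : LevCert := ⟨s24L13,
    [(nat_lit 10, nat_lit 0), (nat_lit 20, nat_lit 1), (nat_lit 17, nat_lit 2), (nat_lit 11, nat_lit 3), (nat_lit 22, nat_lit 4), (nat_lit 21, nat_lit 5), (nat_lit 19, nat_lit 6), (nat_lit 15, nat_lit 7), (nat_lit 7, nat_lit 8), (nat_lit 14, nat_lit 9)],
    [],
    [nat_lit 0xbdaaa9ca307b9ac5d128398a418820, nat_lit 0xbdab19ca907b9ac5a928398a418820, nat_lit 0xbdab49c9707b9ac8a928398a418820, nat_lit 0xbaeb49ca307b9acb2928398a418820, nat_lit 0xbd6d49ca307b9ac5a928398a418820, nat_lit 0xbda74aca307b9ac5a928398a418820, nat_lit 0xbdab47ca309b9ac5a928398a418820, nat_lit 0xbdab49ca303b9ac5a928798a418820, nat_lit 0xbdab49ca3079dac5a928718a418820]⟩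
def s24L14 : Lev := ⟨nat_lit 10, nat_lit 0x7acc80, (.node (nat_lit 17) (.node (nat_lit 11) (.node (nat_lit 10) (.leaf (nat_lit 0xbd6717c9703b9acb5128518a418820)) (.leaf (nat_lit 0xbdab49ca307b9ac5a928398a418820))) (.node (nat_lit 14) (.leaf (nat_lit 0xbdab19c9707b9ac55128398a418820)) (.node (nat_lit 15) (.leaf (nat_lit 0xbd6717c9703a9acb5128718a418820)) (.leaf (nat_lit 0xbd6717c970539acb5128398a418820))))) (.node (nat_lit 20) (.node (nat_lit 19) (.leaf (nat_lit 0xbdab19c9507b9ac5d128398a418820)) (.leaf (nat_lit 0xbd671549707b9acb5128398a418820))) (.node (nat_lit 21) (.leaf (nat_lit 0xbdaaa9ca307b9ac5d128398a418820)) (.node (nat_lit 22) (.leaf (nat_lit 0xbd5519c9707b9acb5128398a418820)) (.leaf (nat_lit 0xbaab19c9707b9acb5128398a418820))))))⟩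
def s24C14 : LevCert := ⟨s24L14,
    [(nat_lit 20, nat_lit 0), (nat_lit 17, nat_lit 1), (nat_lit 11, nat_lit 2), (nat_lit 22, nat_lit 3), (nat_lit 21, nat_lit 4), (nat_lit 19, nat_lit 5), (nat_lit 15, nat_lit 6), (nat_lit 7, nat_lit 7), (nat_lit 14, nat_lit 8)],
    [],
    [nat_lit 0xbdab19ca907b9ac5a928398a418820, nat_lit 0xbdab49c9707b9ac8a928398a418820, nat_lit 0xbaeb49ca307b9acb2928398a418820, nat_lit 0xbd6d49ca307b9ac5a928398a418820, nat_lit 0xbda74aca307b9ac5a928398a418820, nat_lit 0xbdab47ca309b9ac5a928398a418820, nat_lit 0xbdab49ca303b9ac5a928798a418820, nat_lit 0xbdab49ca3079dac5a928718a418820]⟩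
def s24L15 : Lev := ⟨nat_lit 20, nat_lit 0x7ac880, (.node (nat_lit 17) (.node (nat_lit 14) (.node (nat_lit 11) (.leaf (nat_lit 0xbd6717c9703b9acb2928a18a418820)) (.leaf (nat_lit 0xbdab19c9707b9aca2928398a418820))) (.node (nat_lit 15) (.leaf (nat_lit 0xbd6717c9703d1acb2928718a418820)) (.leaf (nat_lit 0xbd6717c970a39acb2928398a418820)))) (.node (nat_lit 20) (.node (nat_lit 19) (.leaf (nat_lit 0xbdab19ca907b9ac5a928398a418820)) (.leaf (nat_lit 0xbd671a49707b9acb2928398a418820))) (.node (nat_lit 21) (.leaf (nat_lit 0xbdab49ca307b9ac5a928398a418820)) (.node (nat_lit 22) (.leaf (nat_lit 0xbd6919c9707b9acb2928398a418820)) (.leaf (nat_lit 0xbd2b19c9707b9acb2928398a418820))))))⟩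
def s24C15 : LevCert := ⟨s24L15,
    [(nat_lit 17, nat_lit 0), (nat_lit 11, nat_lit 1), (nat_lit 22, nat_lit 2), (nat_lit 21, nat_lit 3), (nat_lit 19, nat_lit 4), (nat_lit 15, nat_lit 5), (nat_lit 7, nat_lit 6), (nat_lit 14, nat_lit 7)],
    [],
    [nat_lit 0xbdab49c9707b9ac8a928398a418820, nat_lit 0xbaeb49ca307b9acb2928398a418820, nat_lit 0xbd6d49ca307b9ac5a928398a418820, nat_lit 0xbda74aca307b9ac5a928398a418820, nat_lit 0xbdab47ca309b9ac5a928398a418820, nat_lit 0xbdab49ca303b9ac5a928798a418820, nat_lit 0xbdab49ca3079dac5a928718a418820]⟩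
def s24L16 : Lev := ⟨nat_lit 17, nat_lit 0x6ac880, (.node (nat_lit 17) (.node (nat_lit 14) (.node (nat_lit 11) (.leaf (nat_lit 0xbd6747c9703b9acb2928898a418820)) (.leaf (nat_lit 0xbdab49c9707b9ac8a928398a418820))) (.node (nat_lit 15) (.leaf (nat_lit 0xbd6747c9703c5acb2928718a418820)) (.leaf (nat_lit 0xbd6747c9708b9acb2928398a418820)))) (.node (nat_lit 21) (.node (nat_lit 19) (.leaf (nat_lit 0xbdab49ca307b9ac5a928398a418820)) (.leaf (nat_lit 0xbd6748c9707b9acb2928398a418820))) (.node (nat_lit 22) (.leaf (nat_lit 0xbd6349c9707b9acb2928398a418820)) (.leaf (nat_lit 0xbc6b49c9707b9acb2928398a418820)))))⟩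
def s24C16 : LevCert := ⟨s24L16,
    [(nat_lit 11, nat_lit 0), (nat_lit 22, nat_lit 1), (nat_lit 21, nat_lit 2), (nat_lit 19, nat_lit 3), (nat_lit 15, nat_lit 4), (nat_lit 7, nat_lit 5), (nat_lit 14, nat_lit 6)],
    [],
    [nat_lit 0xbaeb49ca307b9acb2928398a418820, nat_lit 0xbd6d49ca307b9ac5a928398a418820, nat_lit 0xbda74aca307b9ac5a928398a418820, nat_lit 0xbdab47ca309b9ac5a928398a418820, nat_lit 0xbdab49ca303b9ac5a928798a418820, nat_lit 0xbdab49ca3079dac5a928718a418820]⟩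
def s24L17 : Lev := ⟨nat_lit 11, nat_lit 0x68c880, (.node (nat_lit 15) (.node (nat_lit 11) (.leaf (nat_lit 0xbd6747ca303b9acb2928598a418820)) (.node (nat_lit 14) (.leaf (nat_lit 0xbdab49ca307b9ac5a928398a418820)) (.leaf (nat_lit 0xbd6747ca303adacb2928718a418820)))) (.node (nat_lit 21) (.node (nat_lit 19) (.leaf (nat_lit 0xbd6747ca305b9acb2928398a418820)) (.leaf (nat_lit 0xbd6745ca307b9acb2928398a418820))) (.node (nat_lit 22) (.leaf (nat_lit 0xbd5749ca307b9acb2928398a418820)) (.leaf (nat_lit 0xbaeb49ca307b9acb2928398a418820)))))⟩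
def s24C17 : LevCert := ⟨s24L17,
    [(nat_lit 22, nat_lit 0), (nat_lit 21, nat_lit 1), (nat_lit 19, nat_lit 2), (nat_lit 15, nat_lit 3), (nat_lit 7, nat_lit 4), (nat_lit 14, nat_lit 5)],
    [],
    [nat_lit 0xbd6d49ca307b9ac5a928398a418820, nat_lit 0xbda74aca307b9ac5a928398a418820, nat_lit 0xbdab47ca309b9ac5a928398a418820, nat_lit 0xbdab49ca303b9ac5a928798a418820, nat_lit 0xbdab49ca3079dac5a928718a418820]⟩
def s24L18 : Lev := ⟨nat_lit 22, nat_lit 0x68c080, (.node (nat_lit 19) (.node (nat_lit 14) (.leaf (nat_lit 0xbd6747ca303b9ac5a928b18a418820)) (.node (nat_lit 15) (.leaf (nat_lit 0xbd6747ca303d9ac5a928718a418820)) (.leaf (nat_lit 0xbd6747ca30b39ac5a928398a418820)))) (.node (nat_lit 21) (.leaf (nat_lit 0xbd674b4a307b9ac5a928398a418820)) (.node (nat_lit 22) (.leaf (nat_lit 0xbd6d49ca307b9ac5a928398a418820)) (.leaf (nat_lit 0xbdab49ca307b9ac5a928398a418820)))))⟩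
def s24C18 : LevCert := ⟨s24L18,
    [(nat_lit 21, nat_lit 0), (nat_lit 19, nat_lit 1), (nat_lit 15, nat_lit 2), (nat_lit 7, nat_lit 3), (nat_lit 14, nat_lit 4)],
    [],
    [nat_lit 0xbda74aca307b9ac5a928398a418820, nat_lit 0xbdab47ca309b9ac5a928398a418820, nat_lit 0xbdab49ca303b9ac5a928798a418820, nat_lit 0xbdab49ca3079dac5a928718a418820]⟩
def s24L19 : Lev := ⟨nat_lit 21, nat_lit 0x28c080, (.node (nat_lit 15) (.node (nat_lit 14) (.leaf (nat_lit 0xbda747ca303b9ac5a928a98a418820)) (.leaf (nat_lit 0xbda747ca303d5ac5a928718a418820))) (.node (nat_lit 19) (.leaf (nat_lit 0xbda747ca30ab9ac5a928398a418820)) (.node (nat_lit 21) (.leaf (nat_lit 0xbda74aca307b9ac5a928398a418820)) (.leaf (nat_lit 0xbdab49ca307b9ac5a928398a418820)))))⟩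
def s24C19 : LevCert := ⟨s24L19,
    [(nat_lit 19, nat_lit 0), (nat_lit 15, nat_lit 1), (nat_lit 7, nat_lit 2), (nat_lit 14, nat_lit 3)],
    [],
    [nat_lit 0xbdab47ca309b9ac5a928398a418820, nat_lit 0xbdab49ca303b9ac5a928798a418820, nat_lit 0xbdab49ca3079dac5a928718a418820]⟩
def s24L20 : Lev := ⟨nat_lit 19, nat_lit 0x8c080, (.node (nat_lit 15) (.node (nat_lit 14) (.leaf (nat_lit 0xbdab47ca303b9ac5a928998a418820)) (.leaf (nat_lit 0xbdab47ca303cdac5a928718a418820))) (.node (nat_lit 19) (.leaf (nat_lit 0xbdab47ca309b9ac5a928398a418820)) (.leaf (nat_lit 0xbdab49ca307b9ac5a928398a418820))))⟩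
def s24C20 : LevCert := ⟨s24L20,
    [(nat_lit 15, nat_lit 0), (nat_lit 7, nat_lit 1), (nat_lit 14, nat_lit 2)],
    [],
    [nat_lit 0xbdab49ca303b9ac5a928798a418820, nat_lit 0xbdab49ca3079dac5a928718a418820]⟩
def s24L21 : Lev := ⟨nat_lit 15, nat_lit 0xc080, (.node (nat_lit 14) (.leaf (nat_lit 0xbdab49ca303b9ac5a928798a418820)) (.node (nat_lit 15) (.leaf (nat_lit 0xbdab49ca303bdac5a928718a418820)) (.leaf (nat_lit 0xbdab49ca307b9ac5a928398a418820))))⟩
def s24C21 : LevCert := ⟨s24L21,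
    [(nat_lit 7, nat_lit 0), (nat_lit 14, nat_lit 1)],
    [],
    [nat_lit 0xbdab49ca3079dac5a928718a418820]⟩
def s24L22 : Lev := ⟨nat_lit 7, nat_lit 0x4080, (.node (nat_lit 14) (.leaf (nat_lit 0xbdab49ca307b9ac5a928398a418820)) (.leaf (nat_lit 0xbdab49ca3079dac5a928718a418820)))⟩
def s24C22 : LevCert := ⟨s24L22,
    [(nat_lit 14, nat_lit 0)],
    [],
    []⟩
def s24 : List LevCert := [s24C0, s24C1, s24C2, s24C3, s24C4, s24C5, s24C6, s24C7, s24C8, s24C9, s24C10, s24C11, s24C12, s24C13, s24C14, s24C15, s24C16, s24C17, s24C18, s24C19, s24C20, s24C21, s24C22]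
def s24G : List ℕ := [nat_lit 0x5ab49ca307b9ac5a928398a418837, nat_lit 0xdab49ca307b9ac5a928398a418ae0, nat_lit 0xbdab49ca307b9ac5a928398a418440, nat_lit 0xbdab49ca307b9ac5a928398a219020, nat_lit 0xbdab49ca307b9ac5a924398a818820, nat_lit 0xbdab49ca287b9ac5a930398a418820, nat_lit 0xbdab49ca297b9ac5aa08398a418820, nat_lit 0xbdab49a6307b9ac5aa48398a418820, nat_lit 0xbdab49b6307ba4c5a928398a418820, nat_lit 0xbdab49ca307b86c5a928398a468820, nat_lit 0xbdab49ca307b9ac5a92838ca430820, nat_lit 0xbdab49ca307b9a65a9283b0a418820, nat_lit 0xbdab49ca307b9a55a9283998418820, nat_lit 0xbdab49ca307b9ac595283994418820, nat_lit 0xbdaaa9ca307b9ac5d128398a418820, nat_lit 0xbdab19ca907b9ac5a928398a418820, nat_lit 0xbdab49c9707b9ac8a928398a418820, nat_lit 0xbaeb49ca307b9acb2928398a418820, nat_lit 0xbd6d49ca307b9ac5a928398a418820, nat_lit 0xbda74aca307b9ac5a928398a418820, nat_lit 0xbdab47ca309b9ac5a928398a418820, nat_lit 0xbdab49ca303b9ac5a928798a418820,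 nat_lit 0xbdab49ca3079dac5a928718a418820]
def g24L0 : Lev := ⟨nat_lit 0, nat_lit 0xffffff, (.node (nat_lit 12) (.node (nat_lit 6) (.node (nat_lit 3) (.node (nat_lit 1) (.leaf (nat_lit 0xbdab49ca307b9ac5a928398a418820)) (.node (nat_lit 2) (.leaf (nat_lit 0x9aed1c52b9c147920857d9d413015)) (.leaf (nat_lit 0xdda38a573828f2410afb3a82602a6)))) (.node (nat_lit 4) (.leaf (nat_lit 0xb4714ae7051e48215f67504c054d7)) (.node (nat_lit 5) (.leaf (nat_lit 0x88aa8d5c89b58f3a4d424060b4977)) (.leaf (nat_lit 0xbda4e518558b5250d20c410137ace3))))) (.node (nat_lit 9) (.node (nat_lit 7) (.leaf (nat_lit 0x240d463ad36aaab3a242880af18537)) (.node (nat_lit 8) (.leaf (nat_lit 0x15dc4929948ad13494d003ea3686c7)) (.leaf (nat_lit 0x13892532915a26929a007d46d0d8f7)))) (.node (nat_lit 10) (.leaf (nat_lit 0xb8c36a4a0e62906208159c5ed5a4e5)) (.node (nat_lit 11) (.leaf (nat_lit 0xb86d4941cc520c4102b38bdab49ca3)) (.leaf (nat_lit 0xbda928398a41882056717b56939461))))))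 (.node (nat_lit 18) (.node (nat_lit 15) (.node (nat_lit 13) (.leaf (nat_lit 0xdc699aa447b8403362b81d05b5195)) (.node (nat_lit 14) (.leaf (nat_lit 0x8d335488f708066c5703a0b6a32b7)) (.leaf (nat_lit 0xbc9428a430401e7b38d56968c24d63)))) (.node (nat_lit 16) (.leaf (nat_lit 0x13a4c8a126055b6b91545ccb078c27)) (.node (nat_lit 17) (.leaf (nat_lit 0xb8690620809bd671da4e518558b525)) (.leaf (nat_lit 0xbd20c410137ace3b49ca30ab16a4a1))))) (.node (nat_lit 21) (.node (nat_lit 19) (.leaf (nat_lit 0x190ec9820aabdd14ad16348a20d1b7)) (.node (nat_lit 20) (.leaf (nat_lit 0xb8c4105ab49ca307b9ac5a928398a4)) (.leaf (nat_lit 0xb8820b56939460f7358b5250731483)))) (.node (nat_lit 22) (.leaf (nat_lit 0xb8416ad2728c1ee6b16a4a0e629062)) (.node (nat_lit 23) (.leaf (nat_lit 0xb82d5a4e5183dcd62d4941cc520c41)) (.leaf (nat_lit 0x305042a4f49a27191d56cc2bb50b7)))))))⟩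
def g24C0 : LevCert := ⟨g24L0,
    [(nat_lit 22, nat_lit 0), (nat_lit 23, nat_lit 2), (nat_lit 21, nat_lit 0), (nat_lit 11, nat_lit 1), (nat_lit 3, nat_lit 2), (nat_lit 20, nat_lit 0), (nat_lit 8, nat_lit 2), (nat_lit 10, nat_lit 0), (nat_lit 17, nat_lit 1), (nat_lit 4, nat_lit 2), (nat_lit 2, nat_lit 0), (nat_lit 13, nat_lit 1), (nat_lit 19, nat_lit 0), (nat_lit 7, nat_lit 0), (nat_lit 9, nat_lit 0), (nat_lit 5, nat_lit 1), (nat_lit 18, nat_lit 2), (nat_lit 16, nat_lit 0), (nat_lit 1, nat_lit 0), (nat_lit 12, nat_lit 0), (nat_lit 6, nat_lit 2), (nat_lit 15, nat_lit 1), (nat_lit 14, nat_lit 1)],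
    [[nat_lit 4, nat_lit 2, nat_lit 0, nat_lit 2, nat_lit 0, nat_lit 0, nat_lit 4], [nat_lit 2, nat_lit 6, nat_lit 2, nat_lit 2, nat_lit 2, nat_lit 6, nat_lit 6]],
    [nat_lit 0x21d4142e25b8dc965a147c8d5989a0, nat_lit 0x96eb33a489b470a9de2892d452580]⟩
def g24L1 : Lev := ⟨nat_lit 1, nat_lit 0xfffffe, (.node (nat_lit 12) (.node (nat_lit 6) (.node (nat_lit 3) (.node (nat_lit 2) (.leaf (nat_lit 0xbdab49ca307b9ac5a928398a418820)) (.leaf (nat_lit 0x7c467bb549718aba4848ab090986c0))) (.node (nat_lit 4) (.leaf (nat_lit 0xb11e36c22b551062de4eaa58708a60)) (.node (nat_lit 5) (.leaf (nat_lit 0x6988c90d7443a6553ee28d4e1b4120)) (.leaf (nat_lit 0x62e25810664be68a1c4a9382dadec0))))) (.node (nat_lit 9) (.node (nat_lit 7) (.leaf (nat_lit 0x49daaab86294ed424510584cc7dca0)) (.node (nat_lit 8) (.leaf (nat_lit 0xbcca35c244a19487c6cc0d5c7125a0)) (.leaf (nat_lit 0xabecda322624c7049ca1bae4a409c0)))) (.node (nat_lit 10) (.leaf (nat_lit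 0x1929072aab134d63cc2995e2c2a1e0)) (.node (nat_lit 11) (.leaf (nat_lit 0x6baefa9a0c5a8442868991e638d900)) (.leaf (nat_lit 0x81597a0da9228e20c8cf72ed58cd00)))))) (.node (nat_lit 18) (.node (nat_lit 15) (.node (nat_lit 13) (.leaf (nat_lit 0x83dd650e625a0e1ac68563649b90c0)) (.node (nat_lit 14) (.leaf (nat_lit 0x9b2c54d20e6a02b7d54289c83bc8c0)) (.leaf (nat_lit 0x3d6f37162cb0692311635412f68900)))) (.node (nat_lit 16) (.leaf (nat_lit 0xa44ec156560a9af8150b9b89732460)) (.node (nat_lit 17) (.leaf (nat_lit 0x74aa95cd81a0d06b5c828a9ed39600)) (.leaf (nat_lit 0x3aea21c4377aa96912136b1c82a4c0))))) (.node (nat_lit 21) (.node (nat_lit 19) (.leaf (nat_lit 0xaba48785b6845461153720d6ca4ce0)) (.node (nat_lit 20) (.leaf (nat_lit 0x55cee0a632aa26583ccd23176a0860)) (.leaf (nat_lit 0x21d4142e25b8dc965a147c8d5989a0)))) (.node (nat_lit 22) (.leaf (nat_lit 0x65835235c230d48bc669950ab3be00)) (.node (nat_lit 23) (.leaf (nat_lit 0x3862d63e4eb88d644c83a42a55a540))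 (.leaf (nat_lit 0x96eb33a489b470a9de2892d452580)))))))⟩
def g24C1 : LevCert := ⟨g24L1,
    [(nat_lit 20, nat_lit 0), (nat_lit 23, nat_lit 1), (nat_lit 8, nat_lit 0), (nat_lit 4, nat_lit 1), (nat_lit 15, nat_lit 0), (nat_lit 21, nat_lit 1), (nat_lit 19, nat_lit 0), (nat_lit 16, nat_lit 1), (nat_lit 6, nat_lit 1), (nat_lit 7, nat_lit 0), (nat_lit 9, nat_lit 1), (nat_lit 11, nat_lit 1), (nat_lit 3, nat_lit 0), (nat_lit 12, nat_lit 1), (nat_lit 5, nat_lit 0), (nat_lit 22, nat_lit 0), (nat_lit 10, nat_lit 1), (nat_lit 2, nat_lit 1), (nat_lit 18, nat_lit 0), (nat_lit 14, nat_lit 0), (nat_lit 13, nat_lit 1), (nat_lit 17, nat_lit 1)],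
    [[nat_lit 2, nat_lit 0, nat_lit 0, nat_lit 0, nat_lit 0, nat_lit 2, nat_lit 2, nat_lit 0], [nat_lit 4, nat_lit 4, nat_lit 4, nat_lit 2, nat_lit 4, nat_lit 2, nat_lit 2, nat_lit 2, nat_lit 4, nat_lit 4, nat_lit 4, nat_lit 4, nat_lit 2]],
    [nat_lit 0xb22557157025d836d1337894689c20, nat_lit 0x20e6933852a410b61ea553db1bd820]⟩
def g24L2 : Lev := ⟨nat_lit 2, nat_lit 0xfffffc, (.node (nat_lit 13) (.node (nat_lit 7) (.node (nat_lit 4) (.node (nat_lit 3) (.leaf (nat_lit 0xbdab49ca307b9ac5a928398a418820)) (.leaf (nat_lit 0x195d38359289177426a6a58ef12820))) (.node (nat_lit 5) (.leaf (nat_lit 0x44cb2ba9b0358716552e21e825bc20)) (.node (nat_lit 6) (.leaf (nat_lit 0x1c51759546931f69a60dab85421c20)) (.leaf (nat_lit 0xb22557157025d836d1337894689c20))))) (.node (nat_lit 10) (.node (nat_lit 8) (.leaf (nat_lit 0x75e8a454703cd6d895361124f61820)) (.node (nat_lit 9) (.leaf (nat_lit 0x8aaee83065599b69a642aa1e43d020)) (.leaf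 (nat_lit 0x3988ea963095d8d1bc53a25485d820)))) (.node (nat_lit 11) (.leaf (nat_lit 0x7b10924cd5542d168a9229d6375c20)) (.node (nat_lit 12) (.leaf (nat_lit 0xb309550e8774a0b145a99bee829820)) (.leaf (nat_lit 0x299ae21d1278ee25ceb08a93665020)))))) (.node (nat_lit 18) (.node (nat_lit 15) (.node (nat_lit 14) (.leaf (nat_lit 0x21e1241a8c71453b56ef4ada38a820)) (.leaf (nat_lit 0x5d2d780e2a68988724a794c867d420))) (.node (nat_lit 16) (.leaf (nat_lit 0x9b945b51901222b1c93733ea769020)) (.node (nat_lit 17) (.leaf (nat_lit 0x8ae766aa8228c887260c95cf533c20)) (.leaf (nat_lit 0x20e6933852a410b61ea553db1bd820))))) (.node (nat_lit 21) (.node (nat_lit 19) (.leaf (nat_lit 0x33e0598aa3ba8ee44ac44b5915d020)) (.node (nat_lit 20) (.leaf (nat_lit 0x345c915ce5ac26d1be4aa118bb2020)) (.leaf (nat_lit 0xb32022cdb73ac66549c44c69543c20)))) (.node (nat_lit 22) (.leaf (nat_lit 0x5d85224117495436d1cc7d66734420)) (.node (nat_lit 23) (.leaf (nat_lit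 0x78a15b114d9c8c8bd1c74c56c19420)) (.leaf (nat_lit 0x12ee93d9ea941cc890b4a986d44c20)))))))⟩
def g24C2 : LevCert := ⟨g24L2,
    [(nat_lit 6, nat_lit 0), (nat_lit 17, nat_lit 1), (nat_lit 4, nat_lit 0), (nat_lit 19, nat_lit 1), (nat_lit 3, nat_lit 0), (nat_lit 15, nat_lit 0), (nat_lit 23, nat_lit 1), (nat_lit 8, nat_lit 0), (nat_lit 21, nat_lit 1), (nat_lit 12, nat_lit 0), (nat_lit 22, nat_lit 1), (nat_lit 7, nat_lit 0), (nat_lit 14, nat_lit 0), (nat_lit 13, nat_lit 1), (nat_lit 20, nat_lit 0), (nat_lit 9, nat_lit 1), (nat_lit 11, nat_lit 1), (nat_lit 10, nat_lit 1), (nat_lit 18, nat_lit 1), (nat_lit 5, nat_lit 1), (nat_lit 16, nat_lit 1)],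
    [[nat_lit 0, nat_lit 2, nat_lit 0, nat_lit 0, nat_lit 2], [nat_lit 2, nat_lit 4, nat_lit 4, nat_lit 2, nat_lit 2, nat_lit 4, nat_lit 4, nat_lit 4, nat_lit 2]],
    [nat_lit 0x40cd2a46afb960d3ad89712d350820, nat_lit 0x89695b49172246a32df09b0ee68820]⟩
def g24L3 : Lev := ⟨nat_lit 3, nat_lit 0xfffff8, (.node (nat_lit 13) (.node (nat_lit 8) (.node (nat_lit 5) (.node (nat_lit 4) (.leaf (nat_lit 0xbdab49ca307b9ac5a928398a418820)) (.leaf (nat_lit 0x7c1b132653ab90aa1177616c338820))) (.node (nat_lit 6) (.leaf (nat_lit 0x4a891954d7459f071dac2cc7458820)) (.node (nat_lit 7) (.leaf (nat_lit 0xa164c6a1f0b296674e24a8d27b8820)) (.leaf (nat_lit 0x4b8d2b45f52de07692681ae8c50820))))) (.node (nat_lit 10) (.node (nat_lit 9) (.leaf (nat_lit 0x51ad4431d07b6243a6e32d57298820)) (.leaf (nat_lit 0x7adc895191814974cc6a3d9b530820))) (.node (nat_lit 11) (.leaf (nat_lit 0x9918f89969438b5b8e07a595268820)) (.node (nat_lit 12) (.leaf (nat_lit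 0x4297193cc54d2b01b4f3bb1d620820)) (.leaf (nat_lit 0x83592aa28489ee39994f4b8b658820)))))) (.node (nat_lit 18) (.node (nat_lit 15) (.node (nat_lit 14) (.leaf (nat_lit 0x89695b49172246a32df09b0ee68820)) (.leaf (nat_lit 0x62e758988848eef2ba0db515238820))) (.node (nat_lit 16) (.leaf (nat_lit 0x95a2d826ef1ace42d2b33298e40820)) (.node (nat_lit 17) (.leaf (nat_lit 0x9a1496de23931e7314955bad0a0820)) (.leaf (nat_lit 0x72e963306a95e69a9df0410ad88820))))) (.node (nat_lit 21) (.node (nat_lit 19) (.leaf (nat_lit 0x8448cb0e92715534552fbb56638820)) (.node (nat_lit 20) (.leaf (nat_lit 0xada461c5289b14b21eefa35c580820)) (.leaf (nat_lit 0x91503bbe2469a6e3d69662d4980820)))) (.node (nat_lit 22) (.leaf (nat_lit 0x25c6863e56a260bab8d151cad98820)) (.node (nat_lit 23) (.leaf (nat_lit 0x40cd2a46afb960d3ad89712d350820)) (.leaf (nat_lit 0x1ceaca3acf52e1129c976c8c848820)))))))⟩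
def g24C3 : LevCert := ⟨g24L3,
    [(nat_lit 22, nat_lit 0), (nat_lit 13, nat_lit 1), (nat_lit 5, nat_lit 0), (nat_lit 19, nat_lit 1), (nat_lit 12, nat_lit 0), (nat_lit 14, nat_lit 0), (nat_lit 4, nat_lit 0), (nat_lit 7, nat_lit 1), (nat_lit 9, nat_lit 0), (nat_lit 6, nat_lit 1), (nat_lit 15, nat_lit 1), (nat_lit 11, nat_lit 0), (nat_lit 8, nat_lit 0), (nat_lit 21, nat_lit 0), (nat_lit 16, nat_lit 0), (nat_lit 10, nat_lit 0), (nat_lit 23, nat_lit 0), (nat_lit 17, nat_lit 1), (nat_lit 20, nat_lit 1), (nat_lit 18, nat_lit 0)],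
    [[nat_lit 2, nat_lit 0, nat_lit 0, nat_lit 2, nat_lit 2, nat_lit 0, nat_lit 2, nat_lit 2, nat_lit 0], [nat_lit 4, nat_lit 2, nat_lit 4, nat_lit 4, nat_lit 4, nat_lit 2]],
    [nat_lit 0x7daf1a1672aa1cc3116d5260718820, nat_lit 0xa5e686424a235eb299c7b46a918820]⟩
def g24L4 : Lev := ⟨nat_lit 4, nat_lit 0xfffff0, (.node (nat_lit 14) (.node (nat_lit 9) (.node (nat_lit 6) (.node (nat_lit 5) (.leaf (nat_lit 0xbdab49ca307b9ac5a928398a418820)) (.leaf (nat_lit 0x3be256dd92a29c69ae154a09618820))) (.node (nat_lit 7) (.leaf (nat_lit 0xb2a0fbcd2572d14648f1690d518820)) (.node (nat_lit 8) (.leaf (nat_lit 0xad9f38c285bb50c49cce22e4a18820)) (.leaf (nat_lit 0x9d62e61607522e992da4b51e618820))))) (.node (nat_lit 11) (.node (nat_lit 10) (.leaf (nat_lit 0xb1cb7ac4d26a5d3640944296f18820)) (.leaf (nat_lit 0x7daf1a1672aa1cc3116d5260718820))) (.node (nat_lit 12) (.leaf (nat_lit 0x29db534aebb3a93221497b23018820)) (.node (nat_lit 13)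 (.leaf (nat_lit 0xa94c99ae48852c48b1cf3ddaa18820)) (.leaf (nat_lit 0x451875aa064bc85ac5b6bca6e18820)))))) (.node (nat_lit 19) (.node (nat_lit 16) (.node (nat_lit 15) (.leaf (nat_lit 0x3a17629951711359c9f7a418d18820)) (.leaf (nat_lit 0xa5e686424a235eb299c7b46a918820))) (.node (nat_lit 17) (.leaf (nat_lit 0x8be8d648a43baa68250ab4eeb18820)) (.node (nat_lit 18) (.leaf (nat_lit 0x534d68249341d77a16af8c98e18820)) (.leaf (nat_lit 0x6c58a312495d4f0bcdd67968818820))))) (.node (nat_lit 21) (.node (nat_lit 20) (.leaf (nat_lit 0x34dc52452765af2835eaa217518820)) (.leaf (nat_lit 0x74d8449cab35d527d116ac22d18820))) (.node (nat_lit 22) (.leaf (nat_lit 0x9dc8c92915a3ceb75a2d4960618820)) (.node (nat_lit 23) (.leaf (nat_lit 0x9110f5c2a9b3671538e6bb28518820)) (.leaf (nat_lit 0x25e924559099dab8a4af3395618820)))))))⟩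
def g24C4 : LevCert := ⟨g24L4,
    [(nat_lit 10, nat_lit 0), (nat_lit 15, nat_lit 1), (nat_lit 7, nat_lit 0), (nat_lit 16, nat_lit 1), (nat_lit 23, nat_lit 0), (nat_lit 13, nat_lit 1), (nat_lit 8, nat_lit 1), (nat_lit 5, nat_lit 0), (nat_lit 18, nat_lit 1), (nat_lit 21, nat_lit 0), (nat_lit 22, nat_lit 1), (nat_lit 14, nat_lit 1), (nat_lit 20, nat_lit 1), (nat_lit 11, nat_lit 1), (nat_lit 17, nat_lit 1), (nat_lit 9, nat_lit 1), (nat_lit 19, nat_lit 0), (nat_lit 12, nat_lit 1), (nat_lit 6, nat_lit 1)],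
    [[nat_lit 2, nat_lit 0, nat_lit 2, nat_lit 2, nat_lit 0], [nat_lit 2, nat_lit 2, nat_lit 4, nat_lit 2, nat_lit 4, nat_lit 4, nat_lit 4, nat_lit 4, nat_lit 4, nat_lit 4, nat_lit 2, nat_lit 2, nat_lit 2, nat_lit 2, nat_lit 2, nat_lit 2, nat_lit 4], [nat_lit 4, nat_lit 4, nat_lit 6, nat_lit 4, nat_lit 6, nat_lit 6, nat_lit 4, nat_lit 6, nat_lit 6, nat_lit 6, nat_lit 4, nat_lit 6, nat_lit 6, nat_lit 6, nat_lit 4]],
    [nat_lit 0x2c9f0322295de6aa9e96635c418820, nat_lit 0xbc12ba18ad946c79b11553dc418820, nat_lit 0x94dd1b5e89354ac42a0b3bda418820]⟩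
def g24L5 : Lev := ⟨nat_lit 5, nat_lit 0xffeb60, (.node (nat_lit 16) (.node (nat_lit 11) (.node (nat_lit 8) (.node (nat_lit 6) (.leaf (nat_lit 0xbdab49ca307b9ac5a928398a418820)) (.leaf (nat_lit 0x6dcc97ae9044aca71e33616a418820))) (.node (nat_lit 9) (.leaf (nat_lit 0xb42928d4d7725aa41de564d6418820)) (.leaf (nat_lit 0xb5de894d6da9a0c8a8b43b92418820)))) (.node (nat_lit 14) (.node (nat_lit 13) (.leaf (nat_lit 0x33a70abd349590c2aa2d3dd6418820)) (.leaf (nat_lit 0x94dd1b5e89354ac42a0b3bda418820))) (.node (nat_lit 15) (.leaf (nat_lit 0x721696da34a94c77b21254ee418820)) (.leaf (nat_lit 0x451368ae6e2c0cc92ab73b5e418820))))) (.node (nat_lit 20) (.node (nat_lit 18) (.node (nat_lit 17) (.leaf (nat_lit 0x926088bda5bd267b316e51aa418820)) (.leaf (nat_lit 0xbc12ba18ad946c79b11553dc418820))) (.node (nat_lit 19) (.leaf (nat_lit 0x41af1916146bdcab1d3562e6418820)) (.leaf (nat_lit 0x321b52cacebae8a81e7163d2418820)))) (.node (nat_lit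 22) (.node (nat_lit 21) (.leaf (nat_lit 0x3522585d687a5c7ab1b354ac418820)) (.leaf (nat_lit 0xb34b1439309aee79328f554c418820))) (.node (nat_lit 23) (.leaf (nat_lit 0x995b45d609b2247bb226539e418820)) (.leaf (nat_lit 0x2c9f0322295de6aa9e96635c418820))))))⟩
def g24C5 : LevCert := ⟨g24L5,
    [(nat_lit 23, nat_lit 0), (nat_lit 17, nat_lit 1), (nat_lit 13, nat_lit 2), (nat_lit 14, nat_lit 0), (nat_lit 18, nat_lit 2), (nat_lit 20, nat_lit 2), (nat_lit 6, nat_lit 0), (nat_lit 16, nat_lit 1), (nat_lit 21, nat_lit 2), (nat_lit 22, nat_lit 0), (nat_lit 15, nat_lit 1), (nat_lit 9, nat_lit 0), (nat_lit 19, nat_lit 1), (nat_lit 11, nat_lit 0), (nat_lit 8, nat_lit 1)],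
    [[nat_lit 0, nat_lit 0, nat_lit 4, nat_lit 4, nat_lit 2, nat_lit 4, nat_lit 4]],
    [nat_lit 0x7520f4cee6b450a69e4b654a418820]⟩
def g24L6 : Lev := ⟨nat_lit 6, nat_lit 0x210040, (.node (nat_lit 16) (.leaf (nat_lit 0xbdab49ca307b9ac5a928398a418820)) (.node (nat_lit 21) (.leaf (nat_lit 0x7520f4cee6b450a69e4b654a418820)) (.leaf (nat_lit 0x8bcd6925d5a5d674326d540a418820))))⟩
def g24C6 : LevCert := ⟨g24L6,
    [(nat_lit 16, nat_lit 0), (nat_lit 21, nat_lit 0)],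
    [],
    []⟩
def g24 : List LevCert := [g24C0, g24C1, g24C2, g24C3, g24C4, g24C5, g24C6]
def g24L : List Lev := [g24L0, g24L1, g24L2, g24L3, g24L4, g24L5, g24L6]
def g24G : List ℕ := [nat_lit 0xb82d5a4e5183dcd62d4941cc520c41, nat_lit 0xbd6717b56939461b52507314831040, nat_lit 0x305042a4f49a27191d56cc2bb50b7]
def g24X : ℕ := nat_lit 0xb82d5a4e5183dcd62d4941cc520c41
def g24Y : ℕ := nat_lit 0xbd6717b56939461b52507314831040
def g24Yj : ℕ := nat_lit 0xbcdeb38ed2728c2ac5a92869062080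
def g24Cs : List ℕ := [nat_lit 0xbdab49ca307b9ac5a928398a418820, nat_lit 0xb8443214c74254b635cf84653a56c0]
def g24Ws : List (List ℕ) := [[nat_lit 0, nat_lit 2], [nat_lit 0, nat_lit 3], [nat_lit 0, nat_lit 2, nat_lit 2], [nat_lit 0, nat_lit 0, nat_lit 0, nat_lit 2], [nat_lit 0, nat_lit 0, nat_lit 3], [nat_lit 0, nat_lit 2, nat_lit 0, nat_lit 2, nat_lit 2], [nat_lit 0, nat_lit 3, nat_lit 1, nat_lit 2, nat_lit 2], [nat_lit 0, nat_lit 2, nat_lit 2, nat_lit 0, nat_lit 3], [nat_lit 0, nat_lit 3, nat_lit 3, nat_lit 3], [nat_lit 0, nat_lit 2, nat_lit 1, nat_lit 3], [nat_lit 0, nat_lit 3, nat_lit 3], [nat_lit 0, nat_lit 3, nat_lit 3, nat_lit 3, nat_lit 3], [nat_lit 0, nat_lit 4, nat_lit 4, nat_lit 3, nat_lit 0]]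
def g24Tg : List (List ℕ × List (List ℕ)) := [(g24G, [[nat_lit 3], [nat_lit 2, nat_lit 6], [nat_lit 0, nat_lit 8], [nat_lit 0, nat_lit 10], [nat_lit 0, nat_lit 12], [nat_lit 0, nat_lit 14], [nat_lit 0, nat_lit 16], [nat_lit 0, nat_lit 18], [nat_lit 0, nat_lit 20], [nat_lit 0, nat_lit 22], [nat_lit 0, nat_lit 24], [nat_lit 0, nat_lit 26]])]
def g24Tab : ℕ := nat_lit 0xfffffffe0000000000000000ff7ffffcfffff7fc0000000000000000fffffffe00000000fffffffe000000000000000000000000fffffffe00000000fffff7fc0000000000000000000000000000000000000000000000000000000000000000000000000000000000000000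

/-- the numbering of the points -/
abbrev E24 : Enc (Fin 24) 24 5 32 := finEnc 24 5 32 rfl (by decide)

theorem s24_chain : E24.IsChain (s24.map LevCert.L) ⊤ :=
  isChain_top (gens := s24G) (by decide +kernel) (by decide +kernel) (by decide +kernel)

theorem search : allI 5 32 24 (s24.map LevCert.L) 0 [(g24Y, g24Yj)] []
    (candM 5 32 24 g24Tab (fun _ => true) g24Ws g24Cs g24Tg [g24X, g24Y]) = true := by
  decide +kernel

theorem tab_ok : tabOK g24Tab [11, 23] [13, 17, 19] := by unfold tabOK; decide +kernel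

theorem tg_valid : ∀ tg ∈ g24Tg, allL tg.1 (valid 5 32 24) = true := by decide +kernel

theorem pre_ok : preOK 5 32 24 g24 g24G = true := by decide +kernel

theorem hX : nfX 5 24 1 23 = g24X := by decide +kernel
theorem hY : nfY 5 24 1 23 2 = g24Y := by decide +kernel

end M24

end Cfsg.Agent.H16
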