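import Cfsg.Agent.H16.M24u

/-! Simple groups of order 244823040: the column of an involution, third part. -/

namespace Cfsg.Agent.H16.M24

theorem st3b : st3 (K1.drop 12) = true := by decide +kernel

end Cfsg.Agent.H16.M24
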