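import Cfsg.Agent.H16.M24c
import Cfsg.Agent.H16.M24v
import Cfsg.Agent.H16.M24w

/-! Simple groups of order 244823040: the principal 23-block. -/

set_option autoImplicit false
set_option linter.unusedSectionVars false
set_option synthInstance.maxSize 2048

namespace Cfsg.Agent.H16

open Cfsg Subgroup H35 H14
open scoped ComplexConjugate

variable {G : Type*} [Group G] [Finite G] {M : Ideal AlgInt}

theorem RelT.ival (hG : commutator G = ⊤) {a b c : IrrCharacter G} (h : RelT a b c) {t : G}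
    (ht : orderOf t = 2) : ival t c = ival t a + ival t b := by
  have h1 := fun χ => (ival_inv hG (t := t) (by rw [← sq, ← ht, pow_orderOf_eq_one]) χ).1
  exact ival_eq (by rw [h.1 t (by rw [ht]; norm_num), h1, h1, Int.cast_add])

theorem nd_app' {L L' : List (IrrCharacter G)} (h : L.Nodup) (h' : L'.Nodup)
    (hd : ∀ χ ∈ L, ∀ ψ ∈ L', dg χ ≠ dg ψ) : (L ++ L').Nodup :=
  h.append h' fun _ h1 h2 => hd _ h1 _ h2 rfl

namespace M24

variable [IsSimpleGroup G] (hc : Nat.card G = 244823040)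
include hc

namespace Dat

variable (D : Dat G)

theorem exists_om {a : IrrCharacter G} (da : dg a = 252) (h : RelT a D.b D.e) :
    ∃ f s s' : IrrCharacter G, s ≠ s' ∧ dg s' = dg s ∧ (dg f, dg s) ∈ [(483, 231), (528, 276)] ∧
      ∀ t : G, orderOf t = 2 → ival t f = ival t a + ival t s ∧ ival t s' = ival t s ∧
        255024 + (ival t D.l ^ 2 * 144 - ival t D.c ^ 2 * 126 - ival t D.b ^ 2 * 46 +
          ival t D.e ^ 2 * 44) = ival t a ^ 2 * 1012 - ival t f ^ 2 * (255024 / dg f : ℕ) +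
            ival t s ^ 2 * (255024 / dg s : ℕ) := by
  have hG := perfect hc
  obtain ⟨f, s, s', δ, ε, h1, h2, h3, h4, h5, h6, h7⟩ := exists_omega D.R D.e5 (α := a)
    (fun g hg => by
      obtain ⟨k1, k2⟩ := D.val5 hg
      split_ifs with h3
      · rw [(h.2 g h3).1, k1]
      · linear_combination k2 - k1 - h.1 g h3)
    (D.not_mem5 (by simp [da]) (fun e => by have := D.db; rw [← e] at this; omega)
      fun e => by have := D.de; rw [← e] at this; omega)
  have h8 := h6 1 (by simp)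
  simp only [dg_cast, Nat.cast_inj, da] at h8
  have h9 : ∀ χ : IrrCharacter G, dg χ ≠ 1 → dg χ ∈ DA := fun χ h => List.mem_filter.mpr
    ⟨mem_dd hG hc hps hps' hDD fun e => h (by rw [e, dg_triv]),
      decide_eq_true ⟨ok23_of hc χ, ok11_of hc χ⟩⟩
  rcases sOm _ (h9 f (by omega)) _ (h9 s fun e => h1 ((eq_triv_of_dg hG e).trans
    (eq_triv_of_dg hG (h8.2.trans e)).symm)) δ (by simpa using h2) ε (by simpa using h3)
    (by exact_mod_cast h8.1) h4 h5 with k | ⟨rfl, rfl, k⟩
  · have k1 : ∀ x ∈ [(12, 264), (2772, 3024)], x.1 % 23 ≠ 0 ∧ x.2 % 23 ≠ 0 ∧ ¬ nexc 23 x.1 ∧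
      ¬ nexc 23 x.2 ∧ x.1 ≠ x.2 := by decide
    obtain ⟨k2, k3, k4, k5, k6⟩ := k1 _ k
    exact absurd (dgY_eq D.Q.B (D.Q.mem_Y (block23 hc _).1 k2 k4)
      (D.Q.mem_Y (block23 hc _).1 k3 k5)) k6
  refine ⟨f, s, s', h1, h8.2, k, fun t ht => ?_⟩
  have ht2 : t * t = 1 := by rw [← sq, ← ht, pow_orderOf_eq_one]
  have k1 := fun χ => (ival_inv hG ht2 χ).1
  obtain ⟨k2, k3⟩ := h6 t (by rw [ht]; norm_num)
  refine ⟨ival_eq ?_, ival_eq (k3.trans (k1 s)), ?_⟩
  · rw [Int.cast_add, ← k1, ← k1]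
    push_cast at k2
    linear_combination k2
  have k4 := D.R.quad ht2 (fun χ _ => k1 χ) (L := 255024) fun χ hχ => by
    have := (mem_list D.hR).mp hχ
    simp only [List.mem_cons, List.not_mem_nil, or_false] at this
    rcases this with rfl | rfl | rfl | rfl <;> simp [D.dl, D.dc, D.db, D.de]
  have k5 := h7 t ht2
  rw [sum_list D.hR] at k4
  simp only [List.map_cons, List.sum_cons, List.map_nil, List.sum_nil, D.dl, D.dc, D.db, D.de,
    sgn, Nat.reduceMod, Nat.reduceDiv, Nat.reduceSub, Nat.reduceEqDiff, if_true, if_false] at k4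
  rw [k1, k1, k1, da] at k5
  have k6 : (Nat.card D.U.V * (centralizer ({t} : Set G)).index ^ 2 : ℂ) ≠ 0 :=
    mul_ne_zero H5.natCard_ne_zero (pow_ne_zero _ (Nat.cast_ne_zero.mpr index_ne_zero_of_finite))
  have k7 := congrArg (Int.cast : ℤ → ℂ) k4
  apply Int.cast_injective (α := ℂ)
  apply mul_right_cancel₀ k6
  simp only [List.mem_cons, List.not_mem_nil, or_false, Prod.mk.injEq] at k
  rcases k with ⟨e1, e2⟩ | ⟨e1, e2⟩ <;> rw [e1, e2] at k5 ⊢ <;>
    simp only [Nat.reduceDiv] <;> push_cast at k5 k7 ⊢ <;> linear_combination k7 - 255024 * k5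

theorem column : ∃ t : G, orderOf t = 2 ∧ (∃ L : List (IrrCharacter G), D.Q.Z.val = L ∧
    L.map dg = [45, 45, 231, 231, 252, 770, 990, 990, 3520, 5544, 10395]) ∧
    (∀ χ ∈ D.Q.Z, (dg χ, ival t χ) ∈ c23) ∧ (∃ f : IrrCharacter G, dg f = 483) ∧
      ∃ z : IrrCharacter G, dg z = 1035 ∧ ival t z = 27 := by
  have hG := perfect hc
  obtain ⟨M, hM⟩ := H86.exists_isPModular Nat.prime_three
  obtain ⟨a, da, h1, h2⟩ := D.exists_alpha hc hM
  obtain ⟨f, s, s', h3, h4, h5, h6⟩ := D.exists_om hc da h2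
  obtain ⟨w, hw, hw'⟩ := D.exists_w hc
  generalize ht : ((w : D.W.K) : G) = t at hw hw'
  have hwt : IsConj t (w : D.W.K) := ht ▸ IsConj.refl _
  obtain ⟨h6, h7, h8⟩ := h6 t hw
  have t1 : t ≠ 1 := fun e => by simp [e] at hw
  have iv := fun χ => (ival_inv hG (t := t) (by rw [← sq, ← hw, pow_orderOf_eq_one]) χ).1
  have h9 := h2.ival hG hw
  obtain ⟨L7, hL7, b7⟩ := D.block7 hc
  have dR : [D.l, D.c, D.b, D.e].map dg = [1771, 2024, 5544, 5796] := by
    simp [D.dl, D.dc, D.db, D.de]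
  obtain ⟨L, hL, k1⟩ := D.s7_sound hc (memo_eq _ _ _ ▸ st2) (decide_eq_true (by
    simp only [List.mem_cons, List.not_mem_nil, or_false] at b7 ⊢; omega))
  simp only [Bool.and_eq_true, decide_eq_true_eq, allL_iff, bimp_iff, List.forall_mem_map] at k1
  have k0 : ∀ χ ∈ D.O.Z, dg χ ∉ [1771, 5544, 5796, 252, 483, 231, 528, 276] := fun χ h =>
    k1.1 χ ((mem_list hL).mp h)
  simp only [List.mem_cons, List.not_mem_nil, or_false, Prod.mk.injEq] at h5
  have k2 := D.O.norm_ext hG hw (E := [D.l, D.b, D.e, a, f] ++ [s, s']) (nd_app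
    (List.Nodup.of_map dg (by
      rcases h5 with h | h <;> simp [D.dl, D.db, D.de, da, h.1])) (by simpa using h3) (by
      rcases h5 with h | h <;> simp [D.dl, D.db, D.de, da, h.1, h.2, h4])) fun χ hχ h => by
    have k3 : dg χ ∈ [1771, 5544, 5796, 252, 483, 231, 528, 276] := by
      simp only [List.cons_append, List.nil_append, List.mem_cons, List.not_mem_nil,
        or_false] at hχ ⊢
      have := D.dl
      have := D.db
      have := D.de
      rcases hχ with rfl | rfl | rfl | rfl | rfl | rfl | rfl <;> omega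
    rcases D.O.dg_mem' hL h with h | h
    · simp [h] at k3
    · obtain ⟨ψ, h, e⟩ := List.mem_map.mp h
      exact k1.1 ψ h (e ▸ k3)
  set k : Key := ⟨Nat.card (centralizer ({t} : Set G)), ival t a, ival t D.b, dg s, ival t s,
    ival t D.l, ival t D.c⟩ with hk
  replace k2 : ∑ χ ∈ D.O.Z, mu 7 D.W.V.index (dg χ) * ival t χ ^ 2 ≤ k.n := by
    refine k2.trans_eq ?_
    simp only [Key.n, hk, List.cons_append, List.nil_append, List.map_cons, List.sum_cons,
      List.map_nil, List.sum_nil, h6, h7, h9]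
    ring
  have k3 : k ∈ K1 := by
    have l0 := fun h : Nat.card (centralizer ({t} : Set G)) % 5 = 0 =>
      exists_conj_V D.U (by rw [hw]; norm_num) (Nat.dvd_of_mod_eq_zero h)
    have st := st1
    simp only [forceL_eq, allL_iff, bimp_iff, decide_eq_true_eq, List.mem_union_iff] at st
    obtain ⟨L5, hL5, l1⟩ := col_sound hc D.R D.e5 rfl hw rfl D.hR dR (Lp := []) (by simp) (by simp)
      rfl (D.e5 ▸ D.R.norm_inv hG hw) (st _ D.v5 _ (by
          simp only [List.mem_cons, List.not_mem_nil, or_false] at b7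
          rcases b7 with ⟨e, -, v | v | v⟩ | ⟨e, v, -⟩ <;> rw [e, v] at hw' <;> simp only [hw',
            true_or, or_true]) fun h => by
          obtain ⟨u, hu⟩ := l0 h
          exact D.e5 ▸ centOK_of D.U hu t1) (by split_ifs <;> norm_num) fun χ hχ => by
      split_ifs with h
      · obtain ⟨u, hu⟩ := l0 h
        exact D.R.four_mul_dvd hG hχ hw hu
      · exact four_dvd hG χ hw
    have l2 : ∀ χ ∈ [D.l, D.c, D.b, D.e], ∀ d, dg χ = d →
        lk (L5.map fun χ => (dg χ, ival t χ)) d = ival t χ := fun χ hχ d hd =>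
      lk_eq ((mem_list hL5).mp ((mem_list D.hR).mpr hχ)) hd fun ψ h e => by
        rw [List.inj_on_of_nodup_map (f := dg) (by rw [dR]; decide)
          ((mem_list D.hR).mp ((mem_list hL5).mpr h)) hχ (e.trans hd.symm)]
    rw [l2 _ (by simp) _ D.dl, l2 _ (by simp) _ D.dc, l2 _ (by simp) _ D.db, l2 _ (by simp) _ D.de,
      q1, h9, add_sub_cancel_right, index_eq_div hc, ← h9] at l1
    simp only [bimp_iff, decide_eq_true_eq, allL_iff] at l1
    have l3 := D.O.cong_conj_V (D.O.mem_XY D.cO) hwt (iv _)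
    rw [D.dc] at l3
    refine l1 ⟨l3,
      da ▸ vok_of hG hc (by omega) t1 (iv a),
      da ▸ D.db ▸ om_cong hM ((h1.mem a (by simp) D.b).mpr (by simp)) (iv _) (iv _),
      da ▸ D.de ▸ om_cong hM ((h1.mem a (by simp) D.e).mpr (by simp)) (iv _) (iv _)⟩
      (dg f, dg s) (by simpa using h5) _ (mem_vals (vok_of hG hc (by omega) t1 (iv s))
        (by norm_num) (four_dvd hG s hw)) ⟨h6 ▸ vok_of hG hc (by omega) t1 (iv f), h6 ▸ h8,
      (Finset.sum_nonneg fun χ _ =>
        mul_nonneg (zero_le_one.trans (D.O.mu_pos _)) (sq_nonneg _)).trans k2⟩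
  obtain ⟨⟨_, _, N⟩, k4, rfl, rfl, k5⟩ := hT2 k k3
  obtain ⟨L', hL', k6⟩ := col_sound hc D.O rfl rfl hw rfl hL rfl (Lp := [D.c]) (by simp)
    (by simpa using D.cO) (by simp [D.dc, hk]) (k2.trans k5) (k1.2 _ k4 hw') (by norm_num)
    fun χ hχ => D.O.four_mul_dvd hG hχ hw hwt
  obtain ⟨⟨_, _, _, x⟩, k7, k8⟩ := anyL_iff.mp k6
  obtain ⟨rfl, k8, k9⟩ := of_decide_eq_true k8
  obtain ⟨χ, hχ, ⟨⟩⟩ := List.mem_map.mp k8
  obtain ⟨E, hE, hE1, hE2⟩ := D.exists_des hc ((mem_list hL').mpr hχ) (hK2 _ k7) hw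
  obtain ⟨F, F', l1, l2, l3, l4, l5, l6⟩ : ∃ F F' : List (IrrCharacter G), F.Nodup ∧ F'.Nodup ∧
      (∀ ψ ∈ F, dg ψ = 231 ∨ dg ψ = 528) ∧ (∀ ψ ∈ F', dg ψ = 483 ∨ dg ψ = 276) ∧
      (F.map fun ψ => (dg ψ, ival t ψ)) = (if k.d = 231 then [(231, k.g), (231, k.g)] else
        [(528, k.a + k.g)]) ∧ (F'.map fun ψ => ival t ψ ^ 2).sum =
        if k.d = 231 then (k.a + k.g) ^ 2 else 2 * k.g ^ 2 := by
    rcases h5 with h | h
    · exact ⟨[s, s'], [f], by simpa using h3, by simp, by simp [h.2, h4], by simp [h.1],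
        by simp [hk, h.2, h4, h7], by simp [hk, h.2, h6]⟩
    · exact ⟨[f], [s, s'], by simp, by simpa using h3, by simp [h.1], by simp [h.2, h4],
        by simp [hk, h.1, h.2, h6], by simp [hk, h.2, h7, two_mul]⟩
  have l7 : ∀ ψ ∈ E, dg ψ ∈ [990, 22, 3520, 6336] := fun ψ h =>
    (Prod.mk.inj (List.eq_of_mem_replicate (hE2 ▸ List.mem_map_of_mem h))).1 ▸ hK2 _ k7
  obtain ⟨K, l8, l9⟩ : ∃ K, st3 K = true ∧ k ∈ K := by
    rcases List.mem_append.mp (List.take_append_drop 12 K1 ▸ k3) with h | h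
    exacts [⟨_, st3a, h⟩, ⟨_, st3b, h⟩]
  obtain ⟨L23, hL23, m1⟩ := D.s23_sound hc l8 (E := [D.e]) (by simp) (by simpa using D.de) rfl
    (fun _ => rfl) (by simpa using ⟨D.atlb hc,
      D.atlQ hc (L := [a]) (by simp) rfl (by simpa using da) (by norm_num) (by decide)⟩)
  have m2 := D.Q.norm_ext hG hw (E := [D.l, D.e] ++ F' ++ L'.filter fun ψ => dg ψ % 23 = 0)
    (nd_app' (nd_app' (List.Nodup.of_map dg (by simp [D.dl, D.de])) l2 (by
      simp only [D.dl, D.de, List.forall_mem_cons]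
      exact ⟨fun ψ h => by have := l4 ψ h; omega, fun ψ h => by have := l4 ψ h; omega, by simp⟩))
      ((nodup_list hL').filter _) (by
        refine fun ψ h φ h' e => k0 φ ((mem_list hL').mpr (List.mem_of_mem_filter h')) ?_
        rw [← e]
        simp only [List.cons_append, List.nil_append, List.mem_cons] at h
        rcases h with rfl | rfl | h
        exacts [by simp [D.dl], by simp [D.de], by rcases l4 ψ h with h | h <;> simp [h]]))
    fun ψ h h' => not_dvd_dg D.Q.B h' (by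
      simp only [List.cons_append, List.nil_append, List.mem_cons, List.mem_append,
        List.mem_filter, decide_eq_true_eq] at h
      rcases h with rfl | rfl | h | h
      exacts [by simp [D.dl], by simp [D.de], by have := l4 ψ h; omega, by omega])
  obtain ⟨L'', hL'', m3⟩ := col_sound hc D.Q (block23 hc _).2 (block23 hc _).1 hw rfl hL23 rfl
    (Lp := [a, D.b] ++ F ++ E) (nd_app' (nd_app' (by simpa using h1.ab) l1 (by
      simp only [D.db, da, List.forall_mem_cons]
      exact ⟨fun ψ h => by have := l3 ψ h; omega, fun ψ h => by have := l3 ψ h; omega, by simp⟩))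
      hE (by
        intro ψ h φ h' e
        have := e ▸ l7 φ h'
        simp only [List.cons_append, List.nil_append, List.mem_cons] at h
        rcases h with rfl | rfl | h
        exacts [by simp [da] at this, by simp [D.db] at this,
          by rcases l3 ψ h with h | h <;> simp [h] at this]))
    (fun ψ h => by
      simp only [List.cons_append, List.nil_append, List.mem_cons, List.mem_append] at h
      rcases h with rfl | rfl | h | h
      · exact D.memQ hc (by omega) (by rw [da]; decide)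
      · exact D.memQ hc (by simp [D.db]) (by rw [D.db]; decide)
      · exact D.memQ hc (by have := l3 ψ h; omega) (by rcases l3 ψ h with h | h <;> rw [h] <;> decide)
      · exact hE1 ψ h)
    (by rw [List.map_append, List.map_append, l5, hE2, List.map_cons, List.map_cons, da, D.db]; rfl)
    (((block23 hc D.T).2 ▸ m2).trans (by
      rw [List.filter_map, List.map_map] at k9
      simp only [List.map_append, List.sum_append, l6, List.map_cons, List.sum_cons, List.map_nil,
        List.sum_nil, h9, Function.comp_def, hk] at k9 ⊢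
      omega))
    (bimp_iff.mp (allL_iff.mp (allL_iff.mp m1 k l9) _ k7) (beq_iff.mpr rfl)) (by norm_num)
    fun ψ _ => four_dvd hG ψ hw
  obtain ⟨m4, m5, m6, m7, m8, m9⟩ := of_decide_eq_true m3
  refine ⟨t, hw, ⟨L23, hL23, m4⟩, fun ψ h => m5 (List.mem_map_of_mem ((mem_list hL'').mp h)),
    ⟨f, by change dg s = 231 at m6; omega⟩, ?_⟩
  change dg χ = 990 at m8
  rcases b7 with ⟨e, b7, -⟩ | ⟨e, -⟩
  swap
  · exact absurd (e ▸ m8 ▸ (D.O.deg_ok ((mem_list hL').mpr hχ)).2) (by decide)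
  obtain ⟨y, L7, rfl, n1, b7⟩ := List.map_eq_cons_iff.mp b7
  obtain ⟨z, L7, rfl, n2, b7⟩ := List.map_eq_cons_iff.mp b7
  obtain ⟨u, L7, rfl, n3, b7⟩ := List.map_eq_cons_iff.mp b7
  obtain rfl := List.map_eq_nil_iff.mp b7
  have n4 := D.O.lin_int (g := t) (by rw [hw]; norm_num) fun χ _ => iv χ
  have n5 := List.inj_on_of_nodup_map (f := dg) (l := [y, z, u]) (by simp [n1, n2, n3])
  rw [sum_list hL7] at n4
  simp only [List.map_cons, List.sum_cons, List.map_nil, List.sum_nil, n1, n2, n3, e, sgn,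
    n5 (List.mem_cons_self) ((mem_list hL7).mp ((mem_list hL').mpr hχ)) (n1.trans m8.symm),
    n5 (show u ∈ [y, z, u] by simp) ((mem_list hL7).mp D.cO) (n3.trans D.dc.symm), m8, D.dc,
    show ival t χ = -18 from m9, show ival t D.c = 8 from m7] at n4
  exact ⟨z, n2, by norm_num at n4; omega⟩

end Dat

end M24

end Cfsg.Agent.H16
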