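import Cfsg.Agent.H16.M24e
import Cfsg.Agent.H16.M24d

/-! Simple groups of order 244823040 are isomorphic. -/

set_option autoImplicit false
set_option linter.unusedSectionVars false
set_option synthInstance.maxSize 2048

namespace Cfsg.Agent.H16

open Cfsg Subgroup H35 H14
open scoped ComplexConjugate

variable {G : Type*} [Group G] [Finite G]

namespace M24

/-- the principal 23-block -/
def L23 : List ℕ := [45, 45, 231, 231, 252, 770, 990, 990, 3520, 5544, 10395]

/-- the principal 11-block -/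
def L11 : List ℕ := [23, 45, 45, 252, 483, 1035, 1035, 1035, 3312, 5796]

theorem s11c : opt 11 (fun v _ => decide (v = 1)) (fun d => decide (d % 23 = 0 ∨ d ∈ L23))
    (fun e => [M22.cnt 45 2, M22.cnt 252 1, atl e 1035 3, atl e 483 1, atl e 5796 1])
    (fun _ _ l => decide (l = L11)) = true := by decide +kernel

/-- search for the constituents -/
noncomputable def cS (n : ℕ) (s t : ℤ) (Q : List ℕ → Bool) : Bool :=
  msearch (α := ℕ) 30 [253, 252, 231, 45, 23, 1] [⟨fun d => d, n, 0⟩,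
    .eqo (tau 23 11) (fun d => 22 * d) s (22 * n),
    .eqo (tau 11 10) (fun d => 10 * d) t (10 * n)] n n Q

theorem c253 : cS 253 0 0 (fun l => decide (l.length = 1 ∨ 1 ∈ l)) = true := by decide +kernel

theorem c276 : cS 276 0 10 (fun l => decide (23 ∈ l ∨ 1 ∉ l)) = true := by decide +kernel

theorem sD : ∀ d ∈ DD, d ≤ 276 → (d % 23 = 0 ∨ d ∈ L23) → (d % 11 = 0 ∨ d ∈ L11) →
    d ∈ [253, 252, 231, 45, 23, 1] := by decide +kernel

variable [IsSimpleGroup G] (hc : Nat.card G = 244823040)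
include hc

theorem exists_index : ∃ H : Subgroup G, H.index = 24 := by
  have := Fintype.ofFinite G
  have hG := perfect hc
  obtain ⟨D⟩ := exists_dat hc
  obtain ⟨M, hM⟩ := H86.exists_isPModular Nat.prime_three
  obtain ⟨t, ht, ⟨K, hK, dK⟩, h1, ⟨f, df⟩, z, dz, vz⟩ := D.column hc
  obtain ⟨v23, e23⟩ := block23 hc D.T
  obtain ⟨v11, e11⟩ := block11 hc D.S
  have h2 : ∀ χ : IrrCharacter G, dg χ = 45 →
      ∃ b c, Tri M χ b c ∧ dg b = 990 ∧ dg c = 1035 ∧ ival t c = -21 := fun χ h => by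
    obtain ⟨a, b, c, k1, k2, ⟨-, k3⟩ | ⟨k3, k4, k5, -⟩⟩ := tri hc hM (χ := χ) (by simp [h])
    · have := le_count (L := K) (d := 45) k1.nodup fun ψ k4 => ⟨(mem_list hK).mp
        (D.memQ hc (by rw [k3 ψ k4]; omega) (by rw [k3 ψ k4, h]; decide)), (k3 ψ k4).trans h⟩
      rw [dK] at this
      simp at this
    obtain ⟨k5, k6⟩ := k5 h
    simp only [List.mem_cons, List.not_mem_nil, or_false] at k2
    obtain rfl : χ = a := by rcases k2 with rfl | rfl | rfl <;> first | rfl | omega
    have k7 := h1 χ (D.memQ hc (by omega) (by rw [h]; decide))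
    have k8 := h1 b (D.memQ hc (by omega) (by rw [k6]; decide))
    rw [h] at k7
    rw [k6] at k8
    exact ⟨b, c, k1, k6, by omega, by
      rw [k3.ival hG ht, show ival t χ = -3 by simpa [c23] using k7,
        show ival t b = -18 by simpa [c23] using k8]; rfl⟩
  obtain ⟨z1, z2, h3, d1, d2, u1, u2⟩ : ∃ z1 z2 : IrrCharacter G, z1 ≠ z2 ∧ dg z1 = 1035 ∧
      dg z2 = 1035 ∧ ival t z1 = -21 ∧ ival t z2 = -21 := by
    obtain ⟨a, K, rfl, k1, k2⟩ := List.map_eq_cons_iff.mp dK
    obtain ⟨a', K, rfl, k2, -⟩ := List.map_eq_cons_iff.mp k2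
    obtain ⟨b, c, k3, k4, k5, k6⟩ := h2 a k1
    obtain ⟨b', c', k7, -, k8, k9⟩ := h2 a' k2
    refine ⟨c', c, fun e => k3.disj k7 List.mem_cons_self (fun h => ?_) (ψ := c') (by simp)
      (by simp [e]), k8, k5, k9, k6⟩
    simp only [List.mem_cons, List.not_mem_nil, or_false] at h
    rcases h with rfl | rfl | rfl
    exacts [by simpa using nodup_list hK, by omega, by omega]
  have mP : ∀ {χ : IrrCharacter G} {d}, dg χ = d → d ∈ [1035, 483, 5796, 23] → χ ∈ D.P.Z :=
    fun {χ _} e h => D.P.mem_of_nexc v11 (fun e' => by rw [← e, e', dg_triv] at h; simp at h)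
      ((by decide : ∀ d ∈ [1035, 483, 5796, 23], nexc 11 d) _ (e ▸ h))
  obtain ⟨L, hL, dL⟩ := opt_sound hc D.P (by norm_num) s11c (decide_eq_true v11)
    (fun χ hχ => decide_eq_true (D.Q.dg_mem v23 hK dK (D.P.ne_triv hχ))) (by
      simp only [List.forall_mem_cons]
      exact ⟨D.P.count_eq D.Q v11 v23 hK dK e23 (d := 45) (by norm_num) (by norm_num) (by norm_num)
        (by decide), D.P.count_eq D.Q v11 v23 hK dK e23 (d := 252) (by norm_num) (by norm_num)
        (by norm_num) (by decide), holds_atl D.P.card_Z (L := [z, z1, z2]) (by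
          simp only [List.nodup_cons, List.mem_cons, List.not_mem_nil, or_false, not_or, h3]
          exact ⟨⟨fun e => by rw [e] at vz; omega, fun e => by rw [e] at vz; omega⟩, by simp⟩) rfl
          (by simp [mP dz, mP d1, mP d2, dz, d1, d2]),
        holds_atl D.P.card_Z (L := [f]) (by simp) rfl (by simp [mP df, df]),
        holds_atl D.P.card_Z (L := [D.e]) (by simp) rfl (by simp [mP D.de, D.de]), by simp⟩)
  replace dL := of_decide_eq_true dL
  obtain ⟨χ, hχ, h⟩ := List.mem_map.mp (dL ▸ List.mem_cons_self : 23 ∈ L.map dg)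
  have uniq : ∀ ψ : IrrCharacter G, dg ψ = 23 → ψ = χ := fun ψ hψ =>
    eq_of_count_le (f := dg) (by rw [dL]; decide) ((mem_list hL).mp (mP hψ (by simp))) hχ hψ h
  have hr := real_of_gal_fixed (χ := χ) fun τ => uniq _ ((dg_gal τ χ).trans h)
  have cons : ∀ {φ : G → ℂ}, IsCharacter G φ → ∀ {n : ℕ} {s t : ℤ} {Q : List ℕ → Bool},
      cS n (22 * s) (10 * t) Q = true → n ≤ 276 → φ 1 = n → (∀ g, orderOf g = 23 → φ g = s) →
      (∀ g, orderOf g = 11 → φ g = t) → ∃ L : List (IrrCharacter G),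
        (∀ g, φ g = (L.map fun χ : IrrCharacter G => (χ : G → ℂ) g).sum) ∧
        (∀ ψ : IrrCharacter G, classInner φ ψ ≠ 0 ↔ ψ ∈ L) ∧ Q (L.map dg) = true := by
    intro φ hφ n s t Q' h hn h1 h23 h11
    obtain ⟨m, k1, k2⟩ := exists_cons hφ
    have k3 := sum_dg ((k1 1).symm.trans h1)
    obtain ⟨L, rfl, hQ⟩ := msearch_sound m dg h (fun ψ hψ => by
        have k4 := Multiset.single_le_sum (s := m.map fun χ => (dg χ : ℤ)) (by
          simp only [Multiset.mem_map]
          rintro _ ⟨_, -, rfl⟩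
          exact Int.natCast_nonneg _) _ (Multiset.mem_map_of_mem _ hψ)
        by_cases k5 : ψ = triv G
        · rw [k5, dg_triv]; decide
        exact sD _ (mem_dd hG hc hps hps' hDD k5) (by omega) (D.Q.dg_mem v23 hK dK k5)
          (D.P.dg_mem v11 hL dL k5))
      (by exact_mod_cast (card_le_sum_dg m).trans_eq k3) (Nat.le_add_left _ _) (by
        simp only [List.forall_mem_cons]
        exact ⟨⟨k3.le, Or.inr (k3.ge.trans (le_add_of_nonneg_right le_rfl))⟩,
          holds_eqo (D.Q.sum_tau v23 k1 h23 e23) (by rw [Multiset.sum_map_mul_left, k3]),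
          holds_eqo (D.P.sum_tau v11 k1 h11 e11) (by rw [Multiset.sum_map_mul_left, k3]), by simp⟩)
    exact ⟨L, fun g => by simpa using k1 g, fun ψ => by simpa using k2 ψ, hQ⟩
  have v1 : (χ : G → ℂ) 1 = 23 := by rw [dg_cast, h]; simp
  have u23 : ∀ g, orderOf g = 23 → (χ : G → ℂ) g = 0 := fun g hg =>
    D.Q.val_zero v23 (by rw [h]) (by rw [hg])
  have u11 : ∀ g, orderOf g = 11 → (χ : G → ℂ) g = 1 := fun g hg => by
    rw [D.P.val_sing (mP h (by simp)) (by rw [h]; decide) (by rw [hg]), h]; simp [sgn]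
  have w23 := fun g hg => u23 (g * g) (orderOf_mul_self (by norm_num) (by norm_num) hg)
  have w11 := fun g hg => u11 (g * g) (orderOf_mul_self (by norm_num) (by norm_num) hg)
  obtain ⟨A, k1, k0, k2⟩ := cons (H6.isCharacter_altSq (irr_char χ)) (s := 0) (t := 0) c253
    (by norm_num) (by simp only [mul_one, v1]; norm_num)
    (fun g hg => by simp only [u23 g hg, w23 g hg]; norm_num)
    (fun g hg => by simp only [u11 g hg, w11 g hg]; norm_num)
  obtain ⟨B, -, k4, k5⟩ := cons (H6.isCharacter_symSq (irr_char χ)) (s := 0) (t := 1) c276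
    le_rfl (by simp only [mul_one, v1]; norm_num)
    (fun g hg => by simp only [u23 g hg, w23 g hg]; norm_num)
    (fun g hg => by simp only [u11 g hg, w11 g hg]; norm_num)
  obtain ⟨k6, k7⟩ := inner_alt_triv hr (by rw [h]; decide)
  obtain ⟨θ, rfl⟩ := List.length_eq_one_iff.mp (show A.length = 1 by
    simpa using (of_decide_eq_true k2).resolve_right fun h => by
      obtain ⟨ψ, k8, k9⟩ := List.mem_map.mp h
      exact (k0 _).mpr (eq_triv_of_dg hG k9 ▸ k8) k7)
  have k8 : (fun g => ((χ : G → ℂ) g ^ 2 - (χ : G → ℂ) (g * g)) / 2) = θ :=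
    funext fun g => by simpa using k1 g
  obtain ⟨ψ, k9, k10⟩ := List.mem_map.mp ((of_decide_eq_true k5).resolve_right fun h =>
    h (dg_triv (G := G) ▸ List.mem_map_of_mem ((k4 _).mp k6)))
  exact exists_index_of_char χ.2 (n := 23) (by simpa using v1) (by norm_num) hr
    (inner_sq_ne ((k4 χ).mpr (uniq ψ k10 ▸ k9))) (k8 ▸ θ.2)

theorem iso_grp : Nonempty (G ≃* E24.grp g24G) := by
  obtain ⟨H, hH⟩ := exists_index hc
  have := H36.faithful_quotient_of_simple (H36.ne_top_of_index (H := H) (by omega))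
  obtain ⟨S, -⟩ := setup hc (p := 23) (by simp)
  obtain ⟨hV, hi⟩ := block23 hc S
  obtain ⟨y, hy⟩ := exists_conj_pow S (j := 2) (by rw [hi]; norm_num)
  have h1 : Nat.card S.K = 11 := by rw [← S.V.card_mul_index, hV, hi]
  have hy11 : orderOf (y : G) = 11 := by
    have h2 : y ^ 11 = 1 := by rw [← h1]; exact pow_card_eq_one'
    refine orderOf_eq_prime (congrArg Subtype.val h2) fun h => ?_
    rw [h, one_mul, inv_one, mul_one] at hy
    have := pow_inj_mod.1 ((pow_one S.x).trans hy)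
    rw [S.hx] at this
    omega
  obtain ⟨T, hT⟩ := exists_setup (p := 11) hy11 (by rw [hc]; norm_num)
  obtain ⟨hW, he⟩ := block11 hc T
  obtain ⟨t, ht⟩ := exists_conj_pow T (j := 2) (by rw [he]; norm_num)
  rw [hT] at ht
  obtain ⟨φ, hφ, h1', h2⟩ := exists_hom_nf_one (X := G ⧸ H) S.hx hy (by norm_num) hH (by norm_num)
    le_rfl (by norm_num) (k := 5) (M := 32) rfl (by decide)
  obtain ⟨tg, htg, K, ⟨e⟩, hK⟩ := search_hom (E := E24) φ hφ (h1'.trans hX) (h2.trans hY) ht
    (Yj := g24Yj) (by decide +kernel) s24_chain search (by simp) tab_ok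
    (by
      simp only [List.forall_mem_cons]
      exact ⟨fun g => orderOf_eq_of_sing T hW, fun g => orderOf_eq_of_sing S hV, by simp⟩)
    (fun q hq g h => by
      have := h.trans (orderOf_dvd_natCard g)
      rw [hc] at this
      exact (by decide : ∀ q ∈ [13, 17, 19], ¬ q ∣ 244823040) q hq this) rfl tg_valid
  rw [List.mem_singleton.mp htg] at hK
  exact iso_of_inG e hK pre_ok (hc.trans_le (by decide +kernel))

/-- Two simple groups of order 244823040 are isomorphic. -/
theorem unique {G' : Type*} [Group G'] [Finite G'] [IsSimpleGroup G']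
    (hc' : Nat.card G' = 244823040) : Nonempty (G ≃* G') :=
  let ⟨e⟩ := iso_grp hc; let ⟨e'⟩ := iso_grp hc'; ⟨e.trans e'.symm⟩

end M24

end Cfsg.Agent.H16
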