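import Cfsg.Agent.H16.Gen6
import Cfsg.Agent.H16.M23s

/-! Simple groups of order 244823040: the searches for the local data. -/

set_option autoImplicit false
set_option linter.unusedSectionVars false
set_option synthInstance.maxSize 2048

namespace Cfsg.Agent.H16

open Cfsg Subgroup H35 H14

namespace M24

/-- the factorisation of the order -/
def ps : List (ℕ × ℕ) := [(2, 10), (3, 3), (5, 1), (7, 1), (11, 1), (23, 1)]

/-- the possible degrees -/
def DD : List ℕ := [
  15456, 15360, 15180, 15120, 14784, 14720, 14490, 14168, 14080, 13860, 13824, 13662, 13440,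
  13248, 12880, 12672, 12420, 12320, 12144, 12096, 11880, 11776, 11592, 11520, 11385, 11264,
  11088, 11040, 10752, 10626, 10560, 10395, 10304, 10120, 10080, 9936, 9856, 9660, 9504, 9240,
  9216, 9108, 8960, 8855, 8832, 8694, 8640, 8448, 8316, 8280, 8096, 8064, 7920, 7728, 7680, 7590,
  7560, 7392, 7360, 7245, 7168, 7084, 7040, 6930, 6912, 6831, 6720, 6624, 6440, 6336, 6210, 6160,
  6072, 6048, 5940, 5888, 5796, 5760, 5632, 5544, 5520, 5376, 5313, 5280, 5152, 5120, 5060, 5040,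
  4968, 4928, 4830, 4752, 4620, 4608, 4554, 4480, 4416, 4347, 4320, 4224, 4158, 4140, 4048, 4032,
  3960, 3864, 3840, 3795, 3780, 3696, 3680, 3584, 3542, 3520, 3465, 3456, 3360, 3312, 3220, 3168,
  3105, 3080, 3072, 3036, 3024, 2970, 2944, 2898, 2880, 2816, 2772, 2760, 2688, 2640, 2576, 2560,
  2530, 2520, 2484, 2464, 2415, 2376, 2310, 2304, 2277, 2240, 2208, 2160, 2112, 2079, 2070, 2024,
  2016, 1980, 1932, 1920, 1890, 1848, 1840, 1792, 1771, 1760, 1728, 1680, 1656, 1610, 1584, 1540,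
  1536, 1518, 1512, 1485, 1472, 1449, 1440, 1408, 1386, 1380, 1344, 1320, 1288, 1280, 1265, 1260,
  1242, 1232, 1188, 1155, 1152, 1120, 1104, 1080, 1056, 1035, 1024, 1012, 1008, 990, 966, 960,
  945, 924, 920, 896, 880, 864, 840, 828, 805, 792, 770, 768, 759, 756, 736, 720, 704, 693, 690,
  672, 660, 644, 640, 630, 621, 616, 594, 576, 560, 552, 540, 528, 512, 506, 504, 495, 483, 480,
  462, 460, 448, 440, 432, 420, 414, 396, 385, 384, 378, 368, 360, 352, 345, 336, 330, 322, 320,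
  315, 308, 297, 288, 280, 276, 270, 264, 256, 253, 252, 240, 231, 230, 224, 220, 216, 210, 207,
  198, 192, 189, 184, 180, 176, 168, 165, 161, 160, 154, 144, 140, 138, 135, 132, 128, 126, 120,
  115, 112, 110, 108, 105, 99, 96, 92, 90, 88, 84, 80, 77, 72, 70, 69, 66, 64, 63, 60, 56, 55, 54,
  48, 46, 45, 44, 42, 40, 36, 35, 33, 32, 30, 28, 27, 24, 23, 22, 21, 20, 18, 16, 15, 14, 12, 11,
  10, 9, 8, 7, 6, 5, 4, 3, 2]

theorem hps : ∀ x ∈ ps, x.1.Prime := by simp only [ps, List.forall_mem_cons]; norm_num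
theorem hps' : (ps.map fun x => x.1 ^ x.2).prod = 244823040 := by decide +kernel
theorem hDD : ddOK 244823040 ps DD = true := by decide +kernel

/-- the primes for the Brauer–Tuan relations -/
def fq (p v : ℕ) : List (ℕ × ℕ) := ps.filter fun x => decide (x.1 ≠ p ∧ v % x.1 ≠ 0)

theorem hfq (p v : ℕ) : ∀ x ∈ fq p v, x.1.Prime ∧ x.1 ≠ p ∧ v % x.1 ≠ 0 ∧
    244823040 % x.1 ^ x.2 = 0 := fun x hx => by
  rw [fq, List.mem_filter, decide_eq_true_eq] at hx
  exact ⟨hps x hx.1, hx.2.1, hx.2.2, (by decide : ∀ x ∈ ps, 244823040 % x.1 ^ x.2 = 0) x hx.1⟩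

/-- search through the local data -/
noncomputable def opt (p : ℕ) (exv : ℕ → ℕ → Bool) (ex : ℕ → Bool) (cs : ℕ → List (Cst ℕ))
    (Q : ℕ → ℕ → List ℕ → Bool) : Bool :=
  optS p 244823040 15500 ps DD exv ex cs [(2, 8), (3, 1)] Q

/-- the exceptional cases for the prime 23 -/
def X4 : List (ℕ × ℕ) := [(12, 22), (24, 11), (288, 22), (576, 11)]

theorem sV23 : opt 23 (fun v e => decide (v ≠ 1 ∧ (v, e) ∉ X4)) (fun _ => true) (fun _ => [])
    (fun _ _ _ => false) = true := by decide +kernel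

theorem sX4 : ∀ x ∈ X4, ∀ d ∈ DD, 244823040 / (23 * x.1) % d = 0 → degOK 23 x.2 d → 46 < d →
    d % 2 = 1 → d % 11 = 0 ∧ d ≤ 495 := by decide +kernel

/-- degrees allowed by the prime 23 -/
def ok23 (d : ℕ) : Prop := d % 23 = 0 ∨ degOK 23 11 d

instance (d : ℕ) : Decidable (ok23 d) := inferInstanceAs (Decidable (_ ∨ _))

/-- search for a column -/
noncomputable def col (p e v c m : ℕ) (N : ℤ) (l : List ℕ) (pre : List (ℕ × ℤ))
    (Q : List (ℕ × ℤ) → Bool) : Bool :=
  colR p e v 244823040 c m N l pre (fq p v) Q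

/-- possible centraliser orders of elements of `V` -/
noncomputable def cands (p v e r : ℕ) : List ℕ :=
  (dvs ps).filter fun c => bimp (Nat.beq (c % 23) 0) false && centOK3 p v e c r

theorem s7a : opt 7 (fun v _ => decide (v % 23 ≠ 0 ∧ (v % 5 = 0 ∨ v % 11 = 0)))
    (fun d => decide (ok23 d)) (fun e => [crossC 7 e 23 11])
    (fun v _ l => decide (¬ ratB 7 v [5, 11] l)) = true := by decide +kernel

theorem s11a : memo (fun v e => cands 11 v e (if v = 24 ∧ e = 5 then 5 else Nat.gcd 1024 (v * e)))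
    [(2, 5), (24, 5), (288, 5)] (fun C =>
    opt 11 (fun v e => decide (v ≠ 1 ∧ v % 23 ≠ 0 ∧ v % 7 ≠ 0 ∧ (v, e) ≠ (12, 10)))
    (fun d => decide (ok23 d)) (fun e => [crossC 11 e 23 11])
    (fun v e l => bimp (decide (ratB 11 v [2, 3, 5] l)) (decide (v % 2 = 0) &&
      allL (C v e) fun c => col 11 e v c 44 (c - 1) l.reverse [] fun _ => false))) = true := by
  decide +kernel

/-- degrees in the principal 11-block in the exceptional case -/
def d11 (d : ℕ) : Prop := 244823040 / (11 * 12) % d = 0 ∧ degOK 11 10 d ∧ 2 * 11 < d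

instance (d : ℕ) : Decidable (d11 d) := inferInstanceAs (Decidable (_ ∧ _))

theorem sD11 : ∀ d ∈ DD, d11 d → ok23 d → sgn 11 10 d * tau 23 11 d < 0 → d ∈ [45, 3840] := by
  decide +kernel

theorem s5a : forceL ((cands 11 12 10 5).filter fun c =>
      valOK 244823040 c 44 45 || valOK 244823040 c 44 3840) (fun C =>
    opt 5 (fun v _ => decide (v % 23 ≠ 0 ∧ v % 11 ≠ 0 ∧ v % 7 ≠ 0 ∧ v % 2 = 0))
    (fun d => decide (ok23 d)) (fun e => [crossC 5 e 23 11])
    (fun v e l => bimp (subOK 512 (l.map fun d => if d11 d then sgn 5 e d * tau 11 10 d else 0)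
      (-(11 - 1 : ℕ))) (allL C fun c => bimp (centOK 5 v e c)
        (col 5 e v c 20 (c - 1) l.reverse [] fun _ => false)))) = true := by
  decide +kernel

end M24

end Cfsg.Agent.H16
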