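import Cfsg.Agent.H16.M24t

/-! Simple groups of order 244823040: the column of an involution, first part. -/

set_option autoImplicit false
set_option linter.unusedSectionVars false
set_option synthInstance.maxSize 2048

namespace Cfsg.Agent.H16

open Cfsg Subgroup H35 H14

namespace M24

/-- the degrees allowed by the primes 11 and 23 -/
def DA : List ℕ := DD.filter fun d => decide (ok23 d ∧ ok11 d)

theorem sOm : ∀ f ∈ DA, ∀ s ∈ DA, ∀ δ ∈ [(1 : ℤ), -1], ∀ ε ∈ [(1 : ℤ), -1], ε * s = 252 + δ * f →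
    (f - 2 * δ) % 5 = 0 → (s - 4 * ε) % 5 = 0 → (f, s) ∈ [(12, 264), (2772, 3024)] ∨
      (δ = -1 ∧ ε = -1 ∧ (f, s) ∈ [(483, 231), (528, 276)]) := by
  decide +kernel

/-- values at an involution -/
structure Key where
  /-- centraliser order -/
  c : ℕ
  /-- value -/
  a : ℤ
  /-- value -/
  b : ℤ
  /-- degree -/
  d : ℕ
  /-- value -/
  g : ℤ
  /-- value -/
  l : ℤ
  /-- value -/
  m : ℤ
  deriving DecidableEq

/-- bound for the principal 7-block -/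
def Key.n (k : Key) : ℤ :=
  k.c - 1 - (k.l ^ 2 + k.b ^ 2 + (k.a + k.b) ^ 2 + k.a ^ 2 + (k.a + k.g) ^ 2 + 2 * k.g ^ 2)

/-- the possible values -/
def K1 : List Key := [⟨1512, 0, 0, 231, -21, 7, 8⟩, ⟨2688, 0, 0, 231, -21, 7, 8⟩,
  ⟨2688, 0, 0, 276, -24, 7, 8⟩, ⟨2688, 0, 0, 276, 24, 7, 8⟩, ⟨4032, 0, 0, 231, -21, 7, 8⟩,
  ⟨4032, 0, 0, 276, -24, 7, 8⟩, ⟨4032, 0, 0, 276, 24, 7, 8⟩, ⟨7168, -28, 56, 276, -4, 35, 8⟩,
  ⟨7168, 28, -56, 231, 7, -21, 8⟩, ⟨8064, 0, 0, 231, -21, 7, 8⟩, ⟨8064, 0, 0, 276, -24, 7, 8⟩,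
  ⟨8064, 0, 0, 276, 24, 7, 8⟩, ⟨12096, 0, 0, 231, -21, 7, 8⟩, ⟨12096, 0, 0, 276, -24, 7, 8⟩,
  ⟨12096, 0, 0, 276, 24, 7, 8⟩, ⟨21504, -28, 56, 231, -49, 35, 8⟩, ⟨21504, -28, 56, 276, -4, 35, 8⟩,
  ⟨21504, 28, -56, 231, 7, -21, 8⟩, ⟨21504, 28, -56, 276, 52, -21, 8⟩,
  ⟨32256, 0, 0, 231, -21, 7, 8⟩, ⟨32256, 0, 0, 276, -24, 7, 8⟩, ⟨32256, 0, 0, 276, 24, 7, 8⟩,
  ⟨96768, 0, 0, 231, -21, 7, 8⟩, ⟨96768, 0, 0, 276, -24, 7, 8⟩, ⟨96768, 0, 0, 276, 24, 7, 8⟩,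
  ⟨107520, -28, 224, 276, -4, 91, 64⟩]

/-- the test for the column on the principal 5-block -/
noncomputable def q1 (c : ℕ) (l m b e : ℤ) : Bool :=
  bimp (decide ((m - 2024) % 7 = 0 ∧ vok 244823040 c 252 (e - b) ∧
    ((244823040 / c : ℕ) * (e - b) / (252 : ℕ) - (244823040 / c : ℕ) * b / (5544 : ℕ)) % 3 = 0 ∧
    ((244823040 / c : ℕ) * (e - b) / (252 : ℕ) - (244823040 / c : ℕ) * e / (5796 : ℕ)) % 3 = 0))
  (allL [(483, 231), (528, 276)] fun x : ℕ × ℕ => allL (vals 244823040 c 4 x.2) fun g =>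
    bimp (decide (vok 244823040 c x.1 (e - b + g) ∧
      255024 + (l ^ 2 * 144 - m ^ 2 * 126 - b ^ 2 * 46 + e ^ 2 * 44) = (e - b) ^ 2 * 1012 -
        (e - b + g) ^ 2 * (255024 / x.1 : ℕ) + g ^ 2 * (255024 / x.2 : ℕ) ∧
      0 ≤ Key.n ⟨c, e - b, b, x.2, g, l, m⟩)) (decide (⟨c, e - b, b, x.2, g, l, m⟩ ∈ K1)))

theorem st1 : forceL (c7 6 3 ∪ c7 48 3 ∪ c7 384 3 ∪ c7 24 6) (fun C => allL [12, 192] fun v =>
    allL C fun c => bimp (bimp (decide (c % 5 = 0)) (centOK 5 v 4 c))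
      (col 5 4 v c (if c % 5 = 0 then 20 else 4) (c - 1) [1771, 2024, 5544, 5796].reverse []
        fun l => q1 c (lk l 1771) (lk l 2024) (lk l 5544) (lk l 5796))) = true := by
  decide +kernel

/-- data for the principal 7-block -/
def T2 : List (ℕ × ℤ × ℤ) := [(1512, 8, 139), (2688, 8, 1315), (4032, 8, 2659), (7168, 8, 699),
  (8064, 8, 6691), (12096, 8, 10723), (21504, 8, 15035), (32256, 8, 30883), (96768, 8, 95395),
  (107520, 64, 8806)]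

theorem hT2 : ∀ k ∈ K1, ∃ t ∈ T2, t.1 = k.c ∧ t.2.1 = k.m ∧ k.n ≤ t.2.2 := by decide +kernel

/-- results for the principal 7-block -/
def K2 : List (ℕ × ℕ × ℤ × ℤ) := [(2688, 22, -6, 1279), (4032, 22, -6, 2553), (4032, 990, -18, 793),
  (4032, 3520, -8, 467), (8064, 22, -6, 2553), (8064, 990, -18, 793), (8064, 3520, -64, 2315),
  (8064, 3520, -8, 1349), (8064, 3520, 48, 971), (12096, 22, -6, 2553), (12096, 990, -18, 793),
  (12096, 3520, -64, 3883), (12096, 3520, -8, 467), (12096, 3520, 48, 6753), (21504, 990, -18, 793),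
  (21504, 3520, -64, 2315), (32256, 22, -6, 22741), (32256, 990, -18, 793),
  (32256, 3520, -64, 2315), (96768, 22, -6, 29503), (96768, 990, -18, 793),
  (96768, 3520, -64, 3883), (96768, 3520, 160, 22853), (107520, 990, 10, 7121)]

theorem hK2 : ∀ y ∈ K2, y.2.1 ∈ [990, 22, 3520, 6336] := by decide +kernel

theorem st2 : memo c7 [(6, 3), (48, 3), (384, 3), (24, 6)] (fun C =>
    s7 (fun v => decide (v ∈ [6, 48, 384, 24])) fun v e l =>
      decide (∀ d ∈ l, d ∉ ([1771, 5544, 5796, 252, 483, 231, 528, 276] : List ℕ)) && allL T2 fun t =>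
      bimp (decide (t.1 ∈ C v e)) (col 7 e v t.1 28 t.2.2 l.reverse [(2024, t.2.1)] fun l' =>
        anyL K2 fun y => decide (y.1 = t.1 ∧ (y.2.1, y.2.2.1) ∈ l' ∧ y.2.2.2 ≤
          ((l'.filter fun x => decide (x.1 % 23 = 0)).map fun x => x.2 ^ 2).sum))) = true := by
  decide +kernel

/-- the true column on the principal 23-block -/
def c23 : List (ℕ × ℤ) := [(45, -3), (231, 7), (252, 28), (770, -14), (990, -18), (3520, 64),
  (5544, -56), (10395, -21)]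

/-- search for the column on the principal 23-block -/
noncomputable def st3 (K : List Key) : Bool :=
  s23 (fun _ => true) 1 [atl 11 5544 1, atl 11 252 1] fun l => allL K fun k => allL K2 fun y =>
    bimp (Nat.beq y.1 k.c) (col 23 11 1 k.c 4 (k.c - 1 - (k.l ^ 2 + (k.a + k.b) ^ 2 +
      (if k.d = 231 then (k.a + k.g) ^ 2 else 2 * k.g ^ 2) + y.2.2.2)) l.reverse
      ([(252, k.a), (5544, k.b)] ++ (if k.d = 231 then [(231, k.g), (231, k.g)] else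
        [(528, k.a + k.g)]) ++ List.replicate (if y.2.1 = 990 then 2 else 1) (y.2.1, y.2.2.1))
      fun l' => decide (l = [45, 45, 231, 231, 252, 770, 990, 990, 3520, 5544, 10395] ∧
        l' ⊆ c23 ∧ k.d = 231 ∧ k.m = 8 ∧ y.2.1 = 990 ∧ y.2.2.1 = -18))

end M24

end Cfsg.Agent.H16
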