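import Cfsg.Agent.H16.Steiner3

/-! Counting facts in S(3,6,22) and the two strongly regular graphs attached to it. -/

set_option autoImplicit false

namespace Cfsg.Agent.H16

open Finset

variable {α : Type*} [Fintype α] [DecidableEq α]

theorem even_inter_3_6_22 (hα : Fintype.card α = 22) {B : Set (Finset α)}
    (hB : IsSteinerSystem 3 6 B) {b c : Finset α} (hb : b ∈ B) (hc : c ∈ B) :
    (b ∩ c).card % 2 = 0 := by
  by_cases h : b = c
  · subst h; rw [inter_self, hB.1 b hb]
  · have := inter_3_6_22 hα hB hb hc h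
    omega

theorem even_symmDiff_3_6_22 (hα : Fintype.card α = 22) {B : Set (Finset α)}
    (hB : IsSteinerSystem 3 6 B) {b c : Finset α} (hb : b ∈ B) (hc : c ∈ B) :
    ∀ d ∈ B, (d ∩ symmDiff b c).card % 2 = 0 := by
  intro d hd
  rw [inter_symmDiff']
  have h1 := card_symmDiff' (d ∩ b) (d ∩ c)
  have h2 := even_inter_3_6_22 hα hB hd hb
  have h3 := even_inter_3_6_22 hα hB hd hc
  omega

theorem nj0_even_3_6_22 (hα : Fintype.card α = 22) {B : Set (Finset α)}
    (hB : IsSteinerSystem 3 6 B) {W : Finset α} (hW : ∀ b ∈ B, (b ∩ W).card % 2 = 0) :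
    (W.card = 12 → nj B ∅ W 0 = 0) ∧ (W.card = 8 → nj B ∅ W 0 = 7) := by
  have h0 := nj_eq0 hB hα W 0 77 (by norm_num) (by norm_num) (by decide)
  have h1 := nj_eq0 hB hα W 1 21 (by norm_num) (by norm_num) (by decide)
  have h2 := nj_eq0 hB hα W 2 5 (by norm_num) (by norm_num) (by decide)
  have h3 := nj_eq0 hB hα W 3 1 (by norm_num) (by norm_num) (by decide)
  have z1 := nj_zero_of_parity hW 1 (by norm_num)
  have z3 := nj_zero_of_parity hW 3 (by norm_num)
  have z5 := nj_zero_of_parity hW 5 (by norm_num)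
  simp only [sum_range_succ, sum_range_zero, z1, z3, z5] at h0 h1 h2 h3
  constructor <;> intro h <;> rw [h] at h0 h1 h2 h3 <;>
    simp only [Nat.choose] at h0 h1 h2 h3 <;> omega

theorem no_three_disjoint_3_6_22 (hα : Fintype.card α = 22) {B : Set (Finset α)}
    (hB : IsSteinerSystem 3 6 B) {b c d : Finset α} (hb : b ∈ B) (hc : c ∈ B) (hd : d ∈ B)
    (hbc : Disjoint b c) (hdb : Disjoint d b) (hdc : Disjoint d c) : False := by
  have h1 := card_symmDiff' b c
  rw [disjoint_iff_inter_eq_empty.1 hbc, hB.1 b hb, hB.1 c hc, card_empty] at h1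
  have h2 := (nj0_even_3_6_22 hα hB (even_symmDiff_3_6_22 hα hB hb hc)).1 (by omega)
  apply nj_eq_zero_iff.1 h2 d hd (empty_subset _)
  rw [inter_symmDiff', disjoint_iff_inter_eq_empty.1 hdb, disjoint_iff_inter_eq_empty.1 hdc]
  simp

theorem card_disjoint_both_3_6_22 (hα : Fintype.card α = 22) {B : Set (Finset α)}
    (hB : IsSteinerSystem 3 6 B) {b c : Finset α} (hb : b ∈ B) (hc : c ∈ B)
    (hbc : (b ∩ c).card = 2) :
    ((blk B).filter (fun d => Disjoint b d ∧ Disjoint c d)).card = 4 := by
  have h1 := card_symmDiff' b c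
  rw [hbc, hB.1 b hb, hB.1 c hc] at h1
  have h2 := (nj0_even_3_6_22 hα hB (even_symmDiff_3_6_22 hα hB hb hc)).2 (by omega)
  have h3 : lam B (b ∩ c) = 5 :=
    lam_eq hB hα 2 5 (by norm_num) (by norm_num) (by decide) _ hbc
  have hne : b ≠ c := by
    rintro rfl
    rw [inter_self, hB.1 b hb] at hbc
    omega
  have h4 : (((blk B).filter (fun d => b ∩ c ⊆ d)) \ {b, c}).card = 3 := by
    rw [card_sdiff_of_subset, card_pair hne]
    · rw [lam] at h3; rw [h3]
    · intro d hd
      simp only [mem_insert, mem_singleton] at hd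
      rcases hd with rfl | rfl <;> simp [hb, hc]
  have h5 : (blk B).filter (fun d => ∅ ⊆ d ∧ (d ∩ symmDiff b c).card = 0) =
      (blk B).filter (fun d => Disjoint b d ∧ Disjoint c d) ∪
        (((blk B).filter (fun d => b ∩ c ⊆ d)) \ {b, c}) := by
    ext d
    simp only [mem_filter, mem_blk, empty_subset, true_and, mem_union, mem_sdiff, mem_insert,
      mem_singleton, card_eq_zero, not_or]
    constructor
    · rintro ⟨hd, h⟩
      rw [inter_symmDiff', ← bot_eq_empty, symmDiff_eq_bot] at h
      have hsub : d ∩ b ⊆ b ∩ c := subset_inter inter_subset_right (h ▸ inter_subset_right)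
      have hle := card_le_card hsub
      have he := even_inter_3_6_22 hα hB hd hb
      by_cases h0 : (d ∩ b).card = 0
      · left
        rw [card_eq_zero] at h0
        refine ⟨hd, ?_, ?_⟩
        · rw [disjoint_iff_inter_eq_empty, inter_comm, h0]
        · rw [disjoint_iff_inter_eq_empty, inter_comm, ← h, h0]
      · right
        have : d ∩ b = b ∩ c := eq_of_subset_of_card_le hsub (by omega)
        refine ⟨⟨hd, this ▸ inter_subset_left⟩, ?_, ?_⟩
        · rintro rfl
          rw [inter_self, hB.1 d hd] at hle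
          omega
        · rintro rfl
          rw [h, inter_self, hB.1 d hd] at hle
          omega
    · rintro (⟨hd, h1, h2⟩ | ⟨⟨hd, h⟩, h1, h2⟩)
      · refine ⟨hd, ?_⟩
        rw [inter_symmDiff', disjoint_iff_inter_eq_empty.1 h1.symm,
          disjoint_iff_inter_eq_empty.1 h2.symm]
        simp
      · refine ⟨hd, ?_⟩
        have e1 : b ∩ c = d ∩ b := eq_of_subset_of_card_le (subset_inter h inter_subset_left)
          (by have := steiner_inter_lt hB hd hb h1; omega)
        have e2 : b ∩ c = d ∩ c := eq_of_subset_of_card_le (subset_inter h inter_subset_right)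
          (by have := steiner_inter_lt hB hd hc h2; omega)
        rw [inter_symmDiff', ← e1, ← e2]
        simp
  rw [nj, h5, card_union_of_disjoint, h4] at h2
  · omega
  · rw [disjoint_left]
    intro d hd hd'
    simp only [mem_filter, mem_sdiff] at hd hd'
    have : b ∩ c ⊆ b ∩ d := subset_inter inter_subset_left hd'.1.2
    have h6 := card_le_card this
    rw [disjoint_iff_inter_eq_empty.1 hd.2.1, card_empty] at h6
    omega

theorem card_disjoint_3_6_22 (hα : Fintype.card α = 22) {B : Set (Finset α)}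
    (hB : IsSteinerSystem 3 6 B) {b : Finset α} (hb : b ∈ B) :
    ((blk B).filter (fun d => Disjoint b d)).card = 16 := by
  rw [← (nj_3_6_22 hα hB hb).1, nj]
  congr 1
  ext d
  simp only [mem_filter, empty_subset, true_and, card_eq_zero, disjoint_iff_inter_eq_empty,
    inter_comm]

theorem card_mem_disjoint_3_6_22 (hα : Fintype.card α = 22) {B : Set (Finset α)}
    (hB : IsSteinerSystem 3 6 B) {b : Finset α} (hb : b ∈ B) {a : α} (ha : a ∉ b) :
    ((blk B).filter (fun d => a ∈ d ∧ Disjoint b d)).card = 6 := by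
  have hd : Disjoint {a} b := disjoint_singleton_left.2 ha
  have h0 := nj_eq hB hα {a} b hd 0 21 (by simp) (by norm_num) (by simp; decide)
  have h1 := nj_eq hB hα {a} b hd 1 5 (by simp) (by norm_num) (by simp)
  have h2 := nj_eq hB hα {a} b hd 2 1 (by simp) (by norm_num) (by simp)
  have h3 := nj_block_zero hB hb {a} (j := 3) (by norm_num) (by norm_num)
  have h4 := nj_block_zero hB hb {a} (j := 4) (by norm_num) (by norm_num)
  have h5 := nj_block_zero hB hb {a} (j := 5) (by norm_num) (by norm_num)
  have h6 : nj B {a} b 6 = 0 := by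
    rw [nj_eq_zero_iff]
    intro d hd hs h
    have : d = b := steiner_eq_of_inter hB hd hb (by omega)
    subst this
    exact ha (hs (mem_singleton_self a))
  rw [hB.1 b hb] at h0 h1 h2
  simp only [sum_range_succ, sum_range_zero, h3, h4, h5, h6, Nat.choose] at h0 h1 h2
  have : nj B {a} b 0 = 6 := by omega
  rw [← this, nj]
  congr 1
  ext d
  simp only [mem_filter, singleton_subset_iff, card_eq_zero, disjoint_iff_inter_eq_empty,
    inter_comm]

theorem card_blk_3_6_22 (hα : Fintype.card α = 22) {B : Set (Finset α)}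
    (hB : IsSteinerSystem 3 6 B) : (blk B).card = 77 := by
  rw [← lam_empty]
  exact lam_eq hB hα 0 77 (by norm_num) (by norm_num) (by decide) _ card_empty

omit [DecidableEq α] in
theorem card_filter_blocks (B : Set (Finset α)) [Fintype B] (Q : Finset α → Prop)
    [DecidablePred Q] (P : B → Prop) [DecidablePred P] (h : ∀ b : B, P b ↔ Q b) :
    (univ.filter P).card = ((blk B).filter Q).card := by
  apply card_bij (fun (b : B) _ => (b : Finset α))
  · intro b hb
    simp only [mem_filter, mem_univ, true_and, mem_blk] at hb ⊢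
    exact ⟨b.2, (h b).1 hb⟩
  · intro b _ c _ h
    exact Subtype.ext h
  · intro b hb
    simp only [mem_filter, mem_blk] at hb
    exact ⟨⟨b, hb.1⟩, by simpa using (h ⟨b, hb.1⟩).2 hb.2, rfl⟩

omit [Fintype α] [DecidableEq α] in
theorem blockGraph_adj {t k : ℕ} {B : Set (Finset α)} (hB : IsSteinerSystem t (k + 1) B)
    (b c : B) : (blockGraph B).Adj b c ↔ Disjoint (b : Finset α) c := by
  have : (blockGraph B).Adj b c ↔ b ≠ c ∧ (Disjoint (b : Finset α) c ∨ Disjoint (c : Finset α) b) :=
    SimpleGraph.fromRel_adj _ _ _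
  rw [this]
  constructor
  · rintro ⟨-, h | h⟩
    · exact h
    · exact h.symm
  · intro h
    refine ⟨?_, Or.inl h⟩
    rintro rfl
    rw [disjoint_self, bot_eq_empty] at h
    have := hB.1 _ b.2
    rw [h] at this
    simp at this

theorem card_commonNeighbors_eq {V : Type*} [Fintype V] (G : SimpleGraph V) [DecidableRel G.Adj]
    (v w : V) [Fintype (G.commonNeighbors v w)] : Fintype.card (G.commonNeighbors v w) =
      (univ.filter (fun x => G.Adj v x ∧ G.Adj w x)).card := by
  rw [← Fintype.card_subtype]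
  exact Fintype.card_congr (Equiv.refl _)

theorem degree_eq_filter {V : Type*} [Fintype V] (G : SimpleGraph V) [DecidableRel G.Adj]
    (v : V) : G.degree v = (univ.filter (fun x => G.Adj v x)).card := by
  rw [← SimpleGraph.card_neighborFinset_eq_degree, SimpleGraph.neighborFinset_eq_filter]

theorem blockGraph_srg (hα : Fintype.card α = 22) {B : Set (Finset α)}
    (hB : IsSteinerSystem 3 6 B) [Fintype B] [DecidableRel (blockGraph B).Adj] :
    (blockGraph B).IsSRGWith 77 16 0 4 := by
  refine ⟨?_, ?_, ?_, ?_⟩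
  · rw [← card_blk_3_6_22 hα hB, card_blk, ← Nat.card_eq_fintype_card, Nat.card_coe_set_eq]
  · intro b
    rw [degree_eq_filter, card_filter_blocks B (fun d => Disjoint (b : Finset α) d) _
      (fun c => blockGraph_adj hB b c), card_disjoint_3_6_22 hα hB b.2]
  · intro b c hbc
    rw [card_commonNeighbors_eq, card_eq_zero, filter_eq_empty_iff]
    rintro d - ⟨h1, h2⟩
    rw [blockGraph_adj hB] at hbc h1 h2
    exact no_three_disjoint_3_6_22 hα hB b.2 c.2 d.2 hbc h1.symm h2.symm
  · intro b c hne hbc
    rw [blockGraph_adj hB, disjoint_iff_inter_eq_empty, ← card_eq_zero] at hbc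
    have := inter_3_6_22 hα hB b.2 c.2 (fun h => hne (Subtype.ext h))
    rw [card_commonNeighbors_eq, card_filter_blocks B
      (fun d => Disjoint (b : Finset α) d ∧ Disjoint (c : Finset α) d) _
      (fun d => by rw [blockGraph_adj hB, blockGraph_adj hB]),
      card_disjoint_both_3_6_22 hα hB b.2 c.2 (by omega)]

end Cfsg.Agent.H16
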