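import Cfsg.Agent.H16.SSearch2

/-! The search for S(4,5,11). -/

set_option autoImplicit false
set_option maxRecDepth 100000

namespace Cfsg.Agent.H16

def blocks11 : List ℕ :=
  [31, 103, 391, 1543, 171, 587, 1291, 1075, 339, 659, 803, 1219, 301, 1101, 653, 565, 213, 1301,
  1189, 837, 121, 1177, 793, 1577, 457, 433, 1617, 737, 1377, 1921, 558, 334, 1166, 182, 1110,
  790, 1318, 710, 314, 218, 1562, 1130, 906, 626, 1426, 482, 1698, 1858, 1084, 604, 412, 236,
  1804, 372, 1684, 1636, 932, 1476, 696, 1368, 872, 1448, 1736, 1264, 1840, 976]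

def perms11 : List (List ℕ) :=
  [[0, 1, 2, 3, 4, 5, 6, 7, 8, 9, 10], [0, 1, 2, 3, 4, 6, 5, 9, 10, 7, 8], [0, 1, 2, 3, 4, 10, 9,
  8, 7, 6, 5], [0, 1, 2, 3, 4, 9, 10, 6, 5, 8, 7], [0, 1, 2, 3, 4, 8, 7, 10, 9, 5, 6], [0, 1, 2,
  3, 4, 7, 8, 5, 6, 10, 9], [0, 1, 2, 3, 4, 7, 8, 6, 5, 10, 9], [0, 1, 2, 3, 4, 8, 7, 10, 9, 6,
  5], [0, 1, 2, 3, 4, 9, 10, 5, 6, 8, 7], [0, 1, 2, 3, 4, 10, 9, 8, 7, 5, 6], [0, 1, 2, 3, 4, 5,
  6, 9, 10, 7, 8], [0, 1, 2, 3, 4, 6, 5, 7, 8, 9, 10]]

def sets11 : List ℕ :=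
  [15, 23, 39, 71, 135, 263, 519, 1031, 27, 43, 75, 139, 267, 523, 1035, 51, 83, 147, 275, 531,
  1043, 99, 163, 291, 547, 1059, 195, 323, 579, 1091, 387, 643, 1155, 771, 1283, 1539, 29, 45,
  77, 141, 269, 525, 1037, 53, 85, 149, 277, 533, 1045, 101, 165, 293, 549, 1061, 197, 325, 581,
  1093, 389, 645, 1157, 773, 1285, 1541, 57, 89, 153, 281, 537, 1049, 105, 169, 297, 553, 1065,
  201, 329, 585, 1097, 393, 649, 1161, 777, 1289, 1545, 113, 177, 305, 561, 1073, 209, 337, 593,
  1105, 401, 657, 1169, 785, 1297, 1553, 225, 353, 609, 1121, 417, 673, 1185, 801, 1313, 1569,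
  449, 705, 1217, 833, 1345, 1601, 897, 1409, 1665, 1793, 30, 46, 78, 142, 270, 526, 1038, 54,
  86, 150, 278, 534, 1046, 102, 166, 294, 550, 1062, 198, 326, 582, 1094, 390, 646, 1158, 774,
  1286, 1542, 58, 90, 154, 282, 538, 1050, 106, 170, 298, 554, 1066, 202, 330, 586, 1098, 394,
  650, 1162, 778, 1290, 1546, 114, 178, 306, 562, 1074, 210, 338, 594, 1106, 402, 658, 1170, 786,
  1298, 1554, 226, 354, 610, 1122, 418, 674, 1186, 802, 1314, 1570, 450, 706, 1218, 834, 1346,
  1602, 898, 1410, 1666, 1794, 60, 92, 156, 284, 540, 1052, 108, 172, 300, 556, 1068, 204, 332,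
  588, 1100, 396, 652, 1164, 780, 1292, 1548, 116, 180, 308, 564, 1076, 212, 340, 596, 1108, 404,
  660, 1172, 788, 1300, 1556, 228, 356, 612, 1124, 420, 676, 1188, 804, 1316, 1572, 452, 708,
  1220, 836, 1348, 1604, 900, 1412, 1668, 1796, 120, 184, 312, 568, 1080, 216, 344, 600, 1112,
  408, 664, 1176, 792, 1304, 1560, 232, 360, 616, 1128, 424, 680, 1192, 808, 1320, 1576, 456,
  712, 1224, 840, 1352, 1608, 904, 1416, 1672, 1800, 240, 368, 624, 1136, 432, 688, 1200, 816,
  1328, 1584, 464, 720, 1232, 848, 1360, 1616, 912, 1424, 1680, 1808, 480, 736, 1248, 864, 1376,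
  1632, 928, 1440, 1696, 1824, 960, 1472, 1728, 1856, 1920]

def bitmap11 : ℕ := 0x2000000000000000400010000000010000000000000000100000000040010000000000010000200000000020004000080000000000000001000000100000400000000000201000000000000400020080000010000000000080000002002004000000004000040200010080000000000000000000000010000000000100000040000000100000000200000000802400000000000020000004001000000000820000004000010000800002040000000000000000004000002000002000010000080001000000008400004002000000000000000100004200000004008000000000002000080000000000000000080000000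

theorem sets11_ok : ∀ s ∈ sets11, s < 2 ^ 11 ∧ (fb 11 s).card = 4 := by decide +kernel

theorem search11_ok : searchF 11 4 blocks11 perms11 sets11 [] = true := by
  decide +kernel

theorem aut11_ok : autChk 11 blocks11 bitmap11 (11 - 4) (List.range 4) = true := by
  decide +kernel

theorem searchOk11 : SearchOk 11 4 blocks11 :=
  searchOk_of perms11 sets11 bitmap11 (by norm_num) sets11_ok search11_ok
    (by decide +kernel) (by decide +kernel) (by decide +kernel) aut11_ok

end Cfsg.Agent.H16
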