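import Cfsg.Agent.H16.Gen4
import Cfsg.Agent.H35.McKay1
import Cfsg.Agent.H35.BlkMatch
import Cfsg.Agent.H35.ResC

/-! Values of characters on the section of an element generating a Sylow subgroup. -/

set_option autoImplicit false
set_option linter.unusedSectionVars false

namespace Cfsg.Agent.H16

open Cfsg Subgroup H35 H14
open scoped ComplexConjugate

variable {G : Type*} [Group G] [Finite G] {p : ℕ} [hp : Fact p.Prime]

theorem orderOf_xp_mul (S : Setup G p) {i : ZMod p} (hi : i ≠ 0) (v : S.V) :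
    orderOf (S.xp i * (v : S.K)) = p * orderOf ((v : S.K) : G) := by
  have h := orderOf_eq_of_mem_zpowers hp.out S.hx (S.xp_mem i) (S.xp_ne_one hi)
  rw [(S.commute_xp i v).orderOf_mul_eq_mul_orderOf_of_coprime
    (by rw [h]; exact (Nat.Prime.coprime_iff_not_dvd hp.out).mpr (S.not_dvd_orderOf _)), h]

theorem orderOf_V_dvd (S : Setup G p) (v : S.V) : orderOf ((v : S.K) : G) ∣ Nat.card S.V := by
  rw [orderOf_coe, orderOf_coe]; exact orderOf_dvd_natCard v

theorem sum_V_zero {S : Setup G p} (B : S.Blk fun _ => 1) {χ : IrrCharacter G}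
    (h : ¬ (χ ∈ B.X ∨ χ ∈ B.Y)) {i : ZMod p} (hi : i ≠ 0) :
    ∑ v : S.V, (χ : G → ℂ) (S.xp i * (v : S.K)) = 0 := by
  have := S.card_mul_psi H5.isCharacter_one χ i
  rw [B.psi0 χ (not_or.mp h).1 (not_or.mp h).2 i hi] at this
  simpa using this.symm

open Classical in
/-- the block relation on the section of an element of another prime order -/
theorem PB.cross' {S : Setup G p} (P : PB S) {q : ℕ} [hq : Fact q.Prime] {T : Setup G q} (Q : PB T)
    (hV : ¬ p ∣ Nat.card T.V) (hpq : p ≠ q) :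
    ∑ χ ∈ P.Z, (if χ ∈ Q.B.X ∨ χ ∈ Q.B.Y then sgn p S.V.index (dg χ) * tau q T.V.index (dg χ)
      else 0) = -(q - 1 : ℕ) := by
  have h : ∑ v : T.V, ∑ i ∈ Finset.univ.erase (0 : ZMod q),
      (1 + ∑ χ ∈ P.Z, sgn p S.V.index (dg χ) * (χ : G → ℂ) (T.xp i * (v : T.K))) = 0 :=
    Finset.sum_eq_zero fun v _ => Finset.sum_eq_zero fun i hi => P.lin (by
      rw [orderOf_xp_mul T (Finset.ne_of_mem_erase hi), hp.out.dvd_mul, not_or]
      exact ⟨fun h => hpq ((Nat.prime_dvd_prime_iff_eq hp.out hq.out).mp h),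
        fun h => hV (h.trans (orderOf_V_dvd T v))⟩)
  have h1 : ∀ χ ∈ P.Z, ∑ v : T.V, ∑ i ∈ Finset.univ.erase (0 : ZMod q),
      sgn p S.V.index (dg χ) * (χ : G → ℂ) (T.xp i * (v : T.K)) = Nat.card T.V *
      ((if χ ∈ Q.B.X ∨ χ ∈ Q.B.Y then sgn p S.V.index (dg χ) * tau q T.V.index (dg χ)
        else 0 : ℤ) : ℂ) := fun χ _ => by
    split_ifs with h
    · simp only [← Finset.mul_sum, Q.trace_mem h]
      simp [mul_left_comm]
    · rw [Finset.sum_comm, Finset.sum_eq_zero fun i hi => by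
        rw [← Finset.mul_sum, sum_V_zero Q.B h (Finset.ne_of_mem_erase hi), mul_zero]]
      simp
  simp only [Finset.sum_add_distrib] at h
  rw [Finset.sum_congr rfl fun v _ => Finset.sum_comm, Finset.sum_comm (t := P.Z),
    Finset.sum_congr rfl h1, ← Finset.mul_sum, ← Int.cast_sum, Finset.sum_const, Finset.sum_const,
    Finset.card_erase_of_mem (Finset.mem_univ _), Finset.card_univ, Finset.card_univ, ZMod.card,
    ← Nat.card_eq_fintype_card, nsmul_eq_mul, nsmul_eq_mul, mul_one, ← mul_add,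
    mul_eq_zero, or_iff_right H5.natCard_ne_zero] at h
  have : ((q - 1 : ℕ) + ∑ χ ∈ P.Z, (if χ ∈ Q.B.X ∨ χ ∈ Q.B.Y then
    sgn p S.V.index (dg χ) * tau q T.V.index (dg χ) else 0) : ℤ) = 0 := by exact_mod_cast h
  omega

theorem norm_psi_le (S : Setup G p) (θ : IrrCharacter S.V) (χ : IrrCharacter G) {i : ZMod p}
    (hi : i ≠ 0) : ‖S.psi θ χ i‖ ≤ Nat.card (S.autH θ) := by
  obtain ⟨B, -⟩ := S.exists_blk θ.2 χ
  by_cases h : S.psi θ χ i = 0
  · rw [h, norm_zero]; positivity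
  rcases B.mem_of_psi_ne_zero hi h with h | h
  · rw [B.psiX χ h i hi]
    have : 1 ≤ Nat.card (S.autH θ) := Nat.card_pos
    rcases B.δ_sign χ h with h | h <;> simpa [h] using this
  · rw [B.psiY χ h i hi, norm_mul, show ‖(B.ε : ℂ)‖ = 1 by rcases B.ε_sign with h | h <;> simp [h],
      one_mul]
    refine (norm_sum_le _ _).trans ?_
    simp

theorem orbit_eq (S : Setup G p) {χ : IrrCharacter G} {θ θ' : IrrCharacter S.V} {i j : ZMod p}
    (hi : i ≠ 0) (hj : j ≠ 0) (h : S.psi θ χ i ≠ 0) (h' : S.psi θ' χ j ≠ 0) :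
    dg θ' = dg θ ∧ ∃ a, a ≠ 0 ∧ S.psi θ' χ a = S.psi θ χ 1 := by
  obtain ⟨k, hk⟩ := S.exists_cj_eq θ.2 θ'.2 χ.2 hi hj h h'
  refine ⟨?_, S.κ k * 1, by simp, by rw [S.psi_conj _ (H5.isClassFunction_of_isIrr χ.2), hk]⟩
  have := congrFun hk 1
  rw [Setup.cj, map_one, dg_cast, dg_cast] at this
  exact_mod_cast this

/-- an integer value at the generator is a small multiple of a degree of `V` -/
theorem exists_div (S : Setup G p) {χ : IrrCharacter G} {a : ℤ} (ha : (χ : G → ℂ) S.x = a)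
    (h0 : a ≠ 0) : ∃ t : ℕ, t ∣ Nat.card S.V ∧ (t : ℤ) ∣ a ∧ |a| ≤ S.V.index * t := by
  classical
  have h1 := S.apply_eq_sum_psi (H5.isClassFunction_of_isIrr χ.2) 1 1
  rw [S.xp_one, OneMemClass.coe_one, OneMemClass.coe_one, mul_one, ha] at h1
  obtain ⟨θ, -, hθ⟩ := Finset.exists_ne_zero_of_sum_ne_zero (h1 ▸ Int.cast_ne_zero.mpr h0)
  have h2 := left_ne_zero_of_mul hθ
  set O := Finset.univ.filter fun θ' : IrrCharacter S.V => ∃ j, j ≠ 0 ∧ S.psi θ' χ j ≠ 0
  have h3 : (a : ℂ) = (∑ θ' ∈ O, S.psi θ' χ 1) * dg θ := by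
    rw [h1, Finset.sum_mul, ← Finset.sum_subset (Finset.subset_univ O) fun θ' _ h => by
      by_contra h4
      exact h (Finset.mem_filter.mpr ⟨Finset.mem_univ _, 1, one_ne_zero, left_ne_zero_of_mul h4⟩)]
    refine Finset.sum_congr rfl fun θ' h => ?_
    obtain ⟨j, hj, h4⟩ := (Finset.mem_filter.mp h).2
    rw [dg_cast, (orbit_eq S one_ne_zero hj h2 h4).1]
  have h4 : (dg θ : ℂ) ≠ 0 := by exact_mod_cast (dg_pos θ).ne'
  refine ⟨dg θ, dg_dvd θ, H5.int_dvd_of_isIntegral_div (by exact_mod_cast (dg_pos θ).ne') ?_, ?_⟩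
  · rw [h3, Int.cast_natCast, mul_div_cancel_right₀ _ h4]
    exact IsIntegral.sum _ fun θ' _ => S.isIntegral_psi (irr_char θ') (irr_char χ) 1
  · have h5 : ‖∑ θ' ∈ O, S.psi θ' χ 1‖ ≤ S.V.index := by
      refine (norm_sum_le _ _).trans ((Finset.sum_le_sum (g := fun _ =>
        (S.V.index : ℝ) / O.card) fun θ' h => ?_).trans ?_)
      · obtain ⟨j, hj, h4⟩ := (Finset.mem_filter.mp h).2
        rw [S.card_filter_psi hj h4, S.index_V_eq (H5.isClassFunction_of_isIrr θ'.2), Nat.cast_mul,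
          mul_div_cancel_left₀ _ (by exact_mod_cast index_ne_zero_of_finite)]
        exact norm_psi_le S θ' χ one_ne_zero
      · rw [Finset.sum_const, nsmul_eq_mul]
        exact (mul_div_cancel₀ _ (Nat.cast_ne_zero.mpr (Finset.card_ne_zero_of_mem
          (Finset.mem_filter.mpr ⟨Finset.mem_univ θ, 1, one_ne_zero, h2⟩)))).le
    have h6 := congrArg norm h3
    rw [Complex.norm_intCast, norm_mul, Complex.norm_natCast] at h6
    have : |(a : ℝ)| ≤ S.V.index * dg θ := h6 ▸ mul_le_mul_of_nonneg_right h5 (Nat.cast_nonneg _)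
    exact_mod_cast this

/-- the block belonging to a pair of linear characters of order three -/
theorem exists_omega {S : Setup G 5} (P : PB S) (he : S.V.index = 4) {α : IrrCharacter G}
    (hα : ∀ g, 5 ∣ orderOf g → (α : G → ℂ) g = if 3 ∣ orderOf g then -1 else 2)
    (hn : ¬ (α ∈ P.B.X ∨ α ∈ P.B.Y)) : ∃ (φ ψ ψ' : IrrCharacter G) (δ ε : ℤ), ψ ≠ ψ' ∧
      (δ = 1 ∨ δ = -1) ∧ (ε = 1 ∨ ε = -1) ∧ (dg φ - 2 * δ) % 5 = 0 ∧ (dg ψ - 4 * ε) % 5 = 0 ∧
      (∀ g, ¬ 5 ∣ orderOf g → ε * (ψ : G → ℂ) g = (α : G → ℂ) g + δ * (φ : G → ℂ) g ∧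
        (ψ' : G → ℂ) g = (ψ : G → ℂ) g) ∧ ∀ t : G, t * t = 1 →
      ((α : G → ℂ) t ^ 2 / dg α + δ * ((φ : G → ℂ) t ^ 2 / dg φ) -
        ε * ((ψ : G → ℂ) t ^ 2 / dg ψ)) * Nat.card S.V * (centralizer ({t} : Set G)).index ^ 2 =
          5 * Nat.card G * (invJ S t).card ^ 2 := by
  classical
  let f : S.V → ℂ := fun v => if 3 ∣ orderOf ((v : S.K) : G) then -1 else 2
  have hf : ∀ i, i ≠ 0 → (fun v : S.V => (α : G → ℂ) (S.xp i * (v : S.K))) = f := fun i hi =>
    funext fun v => by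
      rw [hα _ (S.dvd_orderOf_xp_mul hi v), orderOf_xp_mul S hi]
      exact if_congr (Nat.Coprime.dvd_mul_left (by norm_num)) rfl rfl
  have h1 : ∀ θ i, i ≠ 0 → S.psi θ α i = classInner f θ := fun θ i hi => by rw [← hf i hi]; rfl
  have hc : IsClassFunction S.V f :=
    hf 1 one_ne_zero ▸ S.isClassFunction_section (H5.isClassFunction_of_isIrr α.2) 1
  have h2 : classInner f f = 2 := by
    have h3 : classInner f f = classInner (f + (2 : ℂ) • fun _ => 1) fun _ => 1 := by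
      simp only [classInner]
      congr 1
      refine Finset.sum_congr rfl fun v _ => ?_
      simp only [f, Pi.add_apply, Pi.smul_apply]
      split_ifs <;> simp [map_ofNat] <;> norm_num
    rw [h3, H5.classInner_add_left, H5.classInner_smul_left,
      H5.classInner_irr_self H5.isIrrCharacter_one, ← h1 _ 1 one_ne_zero,
      P.B.psi0 α (not_or.mp hn).1 (not_or.mp hn).2 1 one_ne_zero]
    simp
  set O := Finset.univ.filter fun θ' : IrrCharacter S.V => ∃ j, j ≠ 0 ∧ S.psi θ' α j ≠ 0 with hO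
  have h3 : ∀ θ, θ ∈ O ↔ S.psi θ α 1 ≠ 0 := fun θ => by
    simp only [hO, Finset.mem_filter, Finset.mem_univ, true_and]
    exact ⟨fun ⟨j, hj, h⟩ => by rwa [h1 _ _ hj, ← h1 _ _ one_ne_zero] at h,
      fun h => ⟨1, one_ne_zero, h⟩⟩
  have h4 : ∀ F : IrrCharacter S.V → ℂ, ∑ θ : IrrCharacter S.V, classInner f θ * F θ =
      ∑ θ ∈ O, S.psi θ α 1 * F θ := fun F => by
    simp only [← h1 _ 1 one_ne_zero]
    exact (Finset.sum_subset (Finset.subset_univ O) fun θ _ h => by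
      rw [not_not.mp ((h3 θ).not.mp h), zero_mul]).symm
  have h5 : ∀ θ ∈ O, O.card = 2 ∧ S.psi θ α 1 = 1 ∧ dg θ = 1 ∧ (S.inertia θ).index = 2 ∧
      Nat.card (S.autH θ) = 2 ∧ ∀ B : S.Blk θ, α ∈ B.X := fun θ hθ => by
    have k1 : ∀ θ' ∈ O, dg θ' = dg θ ∧ S.psi θ' α 1 = S.psi θ α 1 := fun θ' h => by
      obtain ⟨k2, a, ha, k3⟩ := orbit_eq S one_ne_zero one_ne_zero ((h3 θ).mp hθ) ((h3 θ').mp h)
      exact ⟨k2, by rw [← k3, h1 _ _ ha, h1 _ _ one_ne_zero]⟩
    have k2 := H5.classInner_eq_sum_irr (f' := f) hc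
    rw [h2, h4, Finset.sum_congr rfl fun θ' h => by
      rw [← H5.conj_classInner, ← h1 _ _ one_ne_zero, (k1 θ' h).2], Finset.sum_const,
      nsmul_eq_mul] at k2
    have k3 := H5.classFunction_apply_eq_sum hc 1
    rw [h4, Finset.sum_congr rfl fun θ' h => by rw [dg_cast, (k1 θ' h).1, (k1 θ' h).2],
      Finset.sum_const, nsmul_eq_mul, show f 1 = 2 from if_neg (by simp)] at k3
    have k4 := S.card_filter_psi one_ne_zero ((h3 θ).mp hθ)
    have k5 := S.index_V_eq (H5.isClassFunction_of_isIrr θ.2)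
    rw [← hO] at k4
    rw [he, ← k4] at k5
    have k6 : ∀ B : S.Blk θ, α ∈ B.X := fun B =>
      (B.mem_of_psi_ne_zero one_ne_zero ((h3 θ).mp hθ)).resolve_right fun h => by
        have k7 := congrArg ((B.ε : ℂ) * ·) (Setup.sum_ech_ne_zero (S.autH θ) (B.α α))
        simp only [Finset.mul_sum (s := Finset.univ.erase (0 : ZMod 5))] at k7
        rw [Finset.sum_congr rfl fun i hi => by
          rw [← B.psiY α h i (Finset.ne_of_mem_erase hi), h1 _ _ (Finset.ne_of_mem_erase hi),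
            ← h1 _ _ one_ne_zero], Finset.sum_const, Finset.card_erase_of_mem (Finset.mem_univ _),
          Finset.card_univ, ZMod.card, nsmul_eq_mul] at k7
        have k8 : S.psi θ α 1 = (-B.ε * Nat.card (S.autH θ) : ℤ) / 4 := by
          push_cast at k7 ⊢; linear_combination k7 / 4
        have k9 : (B.ε : ℂ) * B.ε = 1 := by rcases B.ε_sign with h | h <;> simp [h]
        have k10 : (4 : ℂ) = O.card * Nat.card (S.autH θ) := by exact_mod_cast k5
        rw [k8, map_div₀, map_intCast, map_ofNat] at k2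
        push_cast at k2
        have k11 : Nat.card (S.autH θ) = 8 := by
          apply Nat.cast_injective (R := ℂ)
          linear_combination -4 * k2 + (Nat.card (S.autH θ) / 4 : ℂ) * k10 -
            (O.card * Nat.card (S.autH θ) ^ 2 / 4 : ℂ) * k9
        rw [k11] at k5
        omega
    obtain ⟨B, -⟩ := S.exists_blk θ.2 α
    have k7 := B.psiX α (k6 B) 1 one_ne_zero
    rw [k7] at k2 k3 ⊢
    have k8 : O.card = 2 := by
      apply Nat.cast_injective (R := ℂ)
      rcases B.δ_sign α (k6 B) with h | h <;> simpa [h] using k2.symm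
    rw [k8] at k3 k4 k5
    have k9 : B.δ α * dg θ = 1 := by
      apply Int.cast_injective (α := ℂ)
      push_cast at k3 ⊢
      linear_combination -k3 / 2
    have k10 : B.δ α = 1 ∧ dg θ = 1 := by
      rcases B.δ_sign α (k6 B) with h | h <;> rw [h] at k9 ⊢ <;> omega
    exact ⟨k8, by simp [k10.1], k10.2, k4.symm, by omega, k6⟩
  obtain ⟨θ, hθ⟩ : O.Nonempty := Finset.nonempty_iff_ne_empty.mpr fun h => by
    have k2 := H5.classInner_eq_sum_irr (f' := f) hc
    rw [h2, h4, h] at k2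
    simp at k2
  obtain ⟨k1, k2, k3, k4, k5, k6⟩ := h5 θ hθ
  obtain ⟨B, -⟩ := S.exists_blk θ.2 α
  have k7 : B.δ α = 1 := by exact_mod_cast (B.psiX α (k6 B) 1 one_ne_zero).symm.trans k2
  obtain ⟨φ, k8⟩ : ∃ φ, φ ≠ α ∧ B.X = {α, φ} := by
    obtain ⟨a, b, hab, h⟩ := Finset.card_eq_two.mp (B.cardX.trans k5)
    have := k6 B
    rw [h, Finset.mem_insert, Finset.mem_singleton] at this
    rcases this with rfl | rfl
    exacts [⟨b, hab.symm, h⟩, ⟨a, hab, h.trans (Finset.pair_comm _ _)⟩]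
  obtain ⟨ψ, ψ', k9, k10⟩ := Finset.card_eq_two.mp (show B.Y.card = 2 by
    have := B.cardY; rw [k5] at this; omega)
  have m1 : φ ∈ B.X := by simp [k8.2]
  have m2 : ψ ∈ B.Y := by simp [k10]
  have t1 : (θ : S.V → ℂ) 1 = (1 : ℕ) := by rw [dg_cast, k3]
  refine ⟨φ, ψ, ψ', B.δ φ, B.ε, k9, B.δ_sign φ m1, B.ε_sign, ?_, ?_, fun g hg =>
    ⟨?_, B.eq_on_regular (by simp [k10]) m2 hg⟩, fun t ht => ?_⟩
  · have := B.degX φ m1 _ 1 (dg_cast φ) t1
    rw [k4] at this
    exact Int.emod_eq_zero_of_dvd ((ZMod.intCast_zmod_eq_zero_iff_dvd _ 5).mp (by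
      push_cast at this ⊢; linear_combination this))
  · have := B.degY ψ m2 _ 1 (dg_cast ψ) t1
    rw [k4, k5] at this
    exact Int.emod_eq_zero_of_dvd ((ZMod.intCast_zmod_eq_zero_iff_dvd _ 5).mp (by
      push_cast at this ⊢; linear_combination this))
  · rw [B.reg ψ m2 g hg, k8.2, Finset.sum_pair k8.1.symm, k7]
    simp
  · have h6 := quad_rel (by norm_num) B m2 ht
    rw [k8.2, Finset.sum_pair k8.1.symm, k7, Finset.sum_congr (s₁ := invJ S t) rfl
      (g := fun _ => ((invJ S t).card : ℂ)) fun k hk => ?_] at h6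
    · simpa [sq] using h6
    rw [Finset.sum_congr rfl (g := fun _ => 1) fun k' hk' => ?_]
    · simp
    rw [dif_pos (mul_mem_V hk hk')]
    set u : S.V := ⟨k * k', mul_mem_V hk hk'⟩
    have h7 : ∀ θ' ∈ O, (θ' : S.V → ℂ) u = 1 ∨ (θ' : S.V → ℂ) u = -1 := fun θ' h => by
      obtain ⟨-, -, l3, -, l5, -⟩ := h5 θ' h
      obtain ⟨a, ha, ho⟩ := H36.exists_orderOf_eq_of_dvd (S.autH θ') Nat.prime_two l5.symm.dvd
      have l6 : k ∈ S.inertia θ' := by
        have l7 : k ∈ (S.autH θ').comap S.κ := by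
          rw [mem_comap, (mem_invJ.mp hk).2]
          exact (by decide : ∀ a : (ZMod 5)ˣ, a ^ 2 = 1 → a ≠ 1 → a = -1) a
            (ho ▸ pow_orderOf_eq_one a) (fun e => by simp [e] at ho) ▸ ha
        rwa [Setup.autH, comap_map_eq, sup_eq_left.mpr
          (S.V_le_inertia (H5.isClassFunction_of_isIrr θ'.2))] at l7
      have l7 := congrFun (S.mem_inertia.mp l6) u
      have l8 : MulAut.conjNormal k u = u⁻¹ := by
        have e1 : k * k = 1 := Subtype.ext (sq_of_conj ht (mem_invJ.mp hk).1)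
        have e2 : k' * k' = 1 := Subtype.ext (sq_of_conj ht (mem_invJ.mp hk').1)
        refine Subtype.ext ?_
        simp only [MulAut.conjNormal_apply, u, InvMemClass.coe_inv, mul_inv_rev, ← mul_assoc, e1,
          inv_eq_of_mul_eq_one_left e2, one_mul]
      have l9 := H5.map_mul_of_degree_one (irr_char θ') (by rw [dg_cast, l3]; simp) u u⁻¹
      rw [Setup.cj, l8] at l7
      rw [l7, mul_inv_cancel, dg_cast, l3, Nat.cast_one] at l9
      exact mul_self_eq_one_iff.mp l9.symm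
    have h8 := H5.classFunction_apply_eq_sum hc u
    rw [h4, Finset.sum_congr rfl fun θ' h => by rw [(h5 θ' h).2.1, one_mul],
      ← Finset.add_sum_erase _ _ hθ] at h8
    obtain ⟨θ', h9⟩ := Finset.card_eq_one.mp (show (O.erase θ).card = 1 by
      rw [Finset.card_erase_of_mem hθ, k1])
    have h10 := h7 θ' (Finset.mem_of_mem_erase (h9 ▸ Finset.mem_singleton_self θ'))
    rw [h9, Finset.sum_singleton] at h8
    rcases h7 θ hθ with h | h
    · rw [h, map_one]
    · exfalso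
      simp only [f] at h8
      rcases h10 with h' | h' <;> rw [h, h'] at h8 <;> split_ifs at h8 <;> norm_num at h8

end Cfsg.Agent.H16
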