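import Cfsg.Agent.H16.Steiner

/-! Intersection numbers of the Witt designs. -/

set_option autoImplicit false

namespace Cfsg.Agent.H16

open Finset

variable {α : Type*} [Fintype α] [DecidableEq α]

theorem nj_5_8_24 (hα : Fintype.card α = 24) {B : Set (Finset α)} (hB : IsSteinerSystem 5 8 B)
    {b : Finset α} (hb : b ∈ B) :
    nj B ∅ b 0 = 30 ∧ nj B ∅ b 1 = 0 ∧ nj B ∅ b 2 = 448 ∧ nj B ∅ b 3 = 0 ∧ nj B ∅ b 4 = 280 := by
  have h0 := nj_eq0 hB hα b 0 759 (by norm_num) (by norm_num) (by decide)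
  have h1 := nj_eq0 hB hα b 1 253 (by norm_num) (by norm_num) (by decide)
  have h2 := nj_eq0 hB hα b 2 77 (by norm_num) (by norm_num) (by decide)
  have h3 := nj_eq0 hB hα b 3 21 (by norm_num) (by norm_num) (by decide)
  have h4 := nj_eq0 hB hα b 4 5 (by norm_num) (by norm_num) (by decide)
  have h5 := nj_block_zero hB hb ∅ (j := 5) (by norm_num) (by norm_num)
  have h6 := nj_block_zero hB hb ∅ (j := 6) (by norm_num) (by norm_num)
  have h7 := nj_block_zero hB hb ∅ (j := 7) (by norm_num) (by norm_num)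
  have h8 := nj_block_self hB hb (by norm_num)
  rw [hB.1 b hb] at h0 h1 h2 h3 h4
  simp only [sum_range_succ, sum_range_zero, h5, h6, h7, h8, Nat.choose] at h0 h1 h2 h3 h4
  omega

theorem nj_4_7_23 (hα : Fintype.card α = 23) {B : Set (Finset α)} (hB : IsSteinerSystem 4 7 B)
    {b : Finset α} (hb : b ∈ B) :
    nj B ∅ b 0 = 0 ∧ nj B ∅ b 1 = 112 ∧ nj B ∅ b 2 = 0 ∧ nj B ∅ b 3 = 140 := by
  have h0 := nj_eq0 hB hα b 0 253 (by norm_num) (by norm_num) (by decide)
  have h1 := nj_eq0 hB hα b 1 77 (by norm_num) (by norm_num) (by decide)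
  have h2 := nj_eq0 hB hα b 2 21 (by norm_num) (by norm_num) (by decide)
  have h3 := nj_eq0 hB hα b 3 5 (by norm_num) (by norm_num) (by decide)
  have h4 := nj_block_zero hB hb ∅ (j := 4) (by norm_num) (by norm_num)
  have h5 := nj_block_zero hB hb ∅ (j := 5) (by norm_num) (by norm_num)
  have h6 := nj_block_zero hB hb ∅ (j := 6) (by norm_num) (by norm_num)
  have h7 := nj_block_self hB hb (by norm_num)
  rw [hB.1 b hb] at h0 h1 h2 h3
  simp only [sum_range_succ, sum_range_zero, h4, h5, h6, h7, Nat.choose] at h0 h1 h2 h3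
  omega

theorem nj_3_6_22 (hα : Fintype.card α = 22) {B : Set (Finset α)} (hB : IsSteinerSystem 3 6 B)
    {b : Finset α} (hb : b ∈ B) :
    nj B ∅ b 0 = 16 ∧ nj B ∅ b 1 = 0 ∧ nj B ∅ b 2 = 60 := by
  have h0 := nj_eq0 hB hα b 0 77 (by norm_num) (by norm_num) (by decide)
  have h1 := nj_eq0 hB hα b 1 21 (by norm_num) (by norm_num) (by decide)
  have h2 := nj_eq0 hB hα b 2 5 (by norm_num) (by norm_num) (by decide)
  have h3 := nj_block_zero hB hb ∅ (j := 3) (by norm_num) (by norm_num)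
  have h4 := nj_block_zero hB hb ∅ (j := 4) (by norm_num) (by norm_num)
  have h5 := nj_block_zero hB hb ∅ (j := 5) (by norm_num) (by norm_num)
  have h6 := nj_block_self hB hb (by norm_num)
  rw [hB.1 b hb] at h0 h1 h2
  simp only [sum_range_succ, sum_range_zero, h3, h4, h5, h6, Nat.choose] at h0 h1 h2
  omega

theorem nj_5_6_12 (hα : Fintype.card α = 12) {B : Set (Finset α)} (hB : IsSteinerSystem 5 6 B)
    {b : Finset α} (hb : b ∈ B) :
    nj B ∅ b 0 = 1 ∧ nj B ∅ b 1 = 0 ∧ nj B ∅ b 2 = 45 ∧ nj B ∅ b 3 = 40 ∧ nj B ∅ b 4 = 45 := by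
  have h0 := nj_eq0 hB hα b 0 132 (by norm_num) (by norm_num) (by decide)
  have h1 := nj_eq0 hB hα b 1 66 (by norm_num) (by norm_num) (by decide)
  have h2 := nj_eq0 hB hα b 2 30 (by norm_num) (by norm_num) (by decide)
  have h3 := nj_eq0 hB hα b 3 12 (by norm_num) (by norm_num) (by decide)
  have h4 := nj_eq0 hB hα b 4 4 (by norm_num) (by norm_num) (by decide)
  have h5 := nj_block_zero hB hb ∅ (j := 5) (by norm_num) (by norm_num)
  have h6 := nj_block_self hB hb (by norm_num)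
  rw [hB.1 b hb] at h0 h1 h2 h3 h4
  simp only [sum_range_succ, sum_range_zero, h5, h6, Nat.choose] at h0 h1 h2 h3 h4
  omega

theorem nj_4_5_11 (hα : Fintype.card α = 11) {B : Set (Finset α)} (hB : IsSteinerSystem 4 5 B)
    {b : Finset α} (hb : b ∈ B) :
    nj B ∅ b 0 = 0 ∧ nj B ∅ b 1 = 15 ∧ nj B ∅ b 2 = 20 ∧ nj B ∅ b 3 = 30 := by
  have h0 := nj_eq0 hB hα b 0 66 (by norm_num) (by norm_num) (by decide)
  have h1 := nj_eq0 hB hα b 1 30 (by norm_num) (by norm_num) (by decide)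
  have h2 := nj_eq0 hB hα b 2 12 (by norm_num) (by norm_num) (by decide)
  have h3 := nj_eq0 hB hα b 3 4 (by norm_num) (by norm_num) (by decide)
  have h4 := nj_block_zero hB hb ∅ (j := 4) (by norm_num) (by norm_num)
  have h5 := nj_block_self hB hb (by norm_num)
  rw [hB.1 b hb] at h0 h1 h2 h3
  simp only [sum_range_succ, sum_range_zero, h4, h5, Nat.choose] at h0 h1 h2 h3
  omega

theorem inter_5_8_24 (hα : Fintype.card α = 24) {B : Set (Finset α)}
    (hB : IsSteinerSystem 5 8 B) {b c : Finset α} (hb : b ∈ B) (hc : c ∈ B) (hbc : b ≠ c) :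
    (b ∩ c).card = 0 ∨ (b ∩ c).card = 2 ∨ (b ∩ c).card = 4 := by
  obtain ⟨-, h1, -, h3, -⟩ := nj_5_8_24 hα hB hc
  have := nj_eq_zero_iff.1 h1 b hb (empty_subset _)
  have := nj_eq_zero_iff.1 h3 b hb (empty_subset _)
  have := steiner_inter_lt hB hb hc hbc
  omega

theorem inter_4_7_23 (hα : Fintype.card α = 23) {B : Set (Finset α)}
    (hB : IsSteinerSystem 4 7 B) {b c : Finset α} (hb : b ∈ B) (hc : c ∈ B) (hbc : b ≠ c) :
    (b ∩ c).card = 1 ∨ (b ∩ c).card = 3 := by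
  obtain ⟨h1, -, h3, -⟩ := nj_4_7_23 hα hB hc
  have := nj_eq_zero_iff.1 h1 b hb (empty_subset _)
  have := nj_eq_zero_iff.1 h3 b hb (empty_subset _)
  have := steiner_inter_lt hB hb hc hbc
  omega

theorem inter_3_6_22 (hα : Fintype.card α = 22) {B : Set (Finset α)}
    (hB : IsSteinerSystem 3 6 B) {b c : Finset α} (hb : b ∈ B) (hc : c ∈ B) (hbc : b ≠ c) :
    (b ∩ c).card = 0 ∨ (b ∩ c).card = 2 := by
  obtain ⟨-, h1, -⟩ := nj_3_6_22 hα hB hc
  have := nj_eq_zero_iff.1 h1 b hb (empty_subset _)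
  have := steiner_inter_lt hB hb hc hbc
  omega

theorem compl_5_6_12 (hα : Fintype.card α = 12) {B : Set (Finset α)}
    (hB : IsSteinerSystem 5 6 B) {b : Finset α} (hb : b ∈ B) : bᶜ ∈ B := by
  obtain ⟨h0, -⟩ := nj_5_6_12 hα hB hb
  obtain ⟨c, hc, -, h⟩ := nj_pos_iff.1 (h0 ▸ Nat.one_pos : 0 < nj B ∅ b 0)
  have hsub : c ⊆ bᶜ := by
    intro x hx
    rw [mem_compl]
    intro hxb
    rw [card_eq_zero] at h
    have : x ∈ c ∩ b := mem_inter.2 ⟨hx, hxb⟩
    rw [h] at this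
    exact notMem_empty _ this
  have : c = bᶜ := eq_of_subset_of_card_le hsub (by rw [card_compl, hα, hB.1 b hb, hB.1 c hc])
  exact this ▸ hc

theorem inter_4_5_11 (hα : Fintype.card α = 11) {B : Set (Finset α)}
    (hB : IsSteinerSystem 4 5 B) {b c : Finset α} (hb : b ∈ B) (hc : c ∈ B) :
    (b ∩ c).card ≠ 0 :=
  nj_eq_zero_iff.1 (nj_4_5_11 hα hB hc).1 b hb (empty_subset _)

omit [Fintype α] in
theorem steiner_derived {t k : ℕ} {B : Set (Finset α)}
    (hB : Cfsg.IsSteinerSystem (t + 1) (k + 1) B) (p : α) :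
    Cfsg.IsSteinerSystem t k {b' : Finset {a : α // a ≠ p} |
      ∃ b ∈ B, p ∈ b ∧ b' = Finset.subtype (fun a => a ≠ p) b} := by
  constructor
  · rintro b' ⟨b, hb, hp, rfl⟩
    rw [card_subtype, filter_ne', card_erase_of_mem hp, hB.1 b hb]
    rfl
  · intro s hs
    have hp : p ∉ s.map (Function.Embedding.subtype _) := by
      simp
    obtain ⟨b, ⟨hb, hsb⟩, huniq⟩ := hB.2 (insert p (s.map (Function.Embedding.subtype _)))
      (by rw [card_insert_of_notMem hp, card_map, hs])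
    refine ⟨Finset.subtype (fun a => a ≠ p) b, ⟨⟨b, hb, hsb (mem_insert_self _ _), rfl⟩, ?_⟩, ?_⟩
    · intro x hx
      rw [mem_subtype]
      exact hsb (mem_insert_of_mem (mem_map_of_mem _ hx))
    · rintro c' ⟨⟨c, hc, hpc, rfl⟩, hsc⟩
      rw [huniq c ⟨hc, ?_⟩]
      intro x hx
      rcases mem_insert.1 hx with rfl | hx
      · exact hpc
      · obtain ⟨y, hy, rfl⟩ := mem_map.1 hx
        exact mem_subtype.1 (hsc hy)

end Cfsg.Agent.H16
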