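import Cfsg.Agent.H16.Steiner2

/-! Sets meeting all blocks of a Witt design with fixed parity. -/

set_option autoImplicit false

namespace Cfsg.Agent.H16

open Finset

variable {α : Type*} [Fintype α] [DecidableEq α]

theorem nj_zero_of_parity {B : Set (Finset α)} {W : Finset α} {r : ℕ}
    (h : ∀ b ∈ B, (b ∩ W).card % 2 = r) (j : ℕ) (hj : j % 2 ≠ r) : nj B ∅ W j = 0 := by
  rw [nj_eq_zero_iff]
  intro b hb _ h'
  exact hj (h' ▸ h b hb)

omit [Fintype α] in
theorem mem_of_nj_pos_aux {t k : ℕ} {B : Set (Finset α)} (hB : IsSteinerSystem t k B)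
    {W : Finset α} (hW : W.card = k) {c : Finset α} (hc : c ∈ B) (h : (c ∩ W).card = k) :
    W ∈ B := by
  have h1 : c ∩ W = c := eq_of_subset_of_card_le inter_subset_left (by rw [h, hB.1 c hc])
  have h2 : c ∩ W = W := eq_of_subset_of_card_le inter_subset_right (by rw [h, hW])
  rw [← h2, h1]; exact hc

theorem mem_of_nj_pos {t k : ℕ} {B : Set (Finset α)} (hB : IsSteinerSystem t k B)
    {W : Finset α} (hW : W.card = k) (h : 0 < nj B ∅ W k) : W ∈ B := by
  obtain ⟨c, hc, -, h⟩ := nj_pos_iff.1 h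
  exact mem_of_nj_pos_aux hB hW hc h

theorem even_5_8_24 (hα : Fintype.card α = 24) {B : Set (Finset α)} (hB : IsSteinerSystem 5 8 B)
    {W : Finset α} (hW : ∀ b ∈ B, (b ∩ W).card % 2 = 0) (h8 : W.card ≤ 8) :
    W = ∅ ∨ W ∈ B := by
  have h1 := nj_eq0 hB hα W 1 253 (by norm_num) (by norm_num) (by decide)
  have h2 := nj_eq0 hB hα W 2 77 (by norm_num) (by norm_num) (by decide)
  have h3 := nj_eq0 hB hα W 3 21 (by norm_num) (by norm_num) (by decide)
  have h4 := nj_eq0 hB hα W 4 5 (by norm_num) (by norm_num) (by decide)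
  have h5 := nj_eq0 hB hα W 5 1 (by norm_num) (by norm_num) (by decide)
  have z1 := nj_zero_of_parity hW 1 (by norm_num)
  have z3 := nj_zero_of_parity hW 3 (by norm_num)
  have z5 := nj_zero_of_parity hW 5 (by norm_num)
  have z7 := nj_zero_of_parity hW 7 (by norm_num)
  have y8 := @nj_eq_zero_of_lt α _ _ B ∅ W 8
  have y6 := @nj_eq_zero_of_lt α _ _ B ∅ W 6
  have y4 := @nj_eq_zero_of_lt α _ _ B ∅ W 4
  have y2 := @nj_eq_zero_of_lt α _ _ B ∅ W 2
  have m8 := @mem_of_nj_pos α _ _ 5 8 B hB W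
  rw [← card_eq_zero]
  generalize W.card = m at *
  simp only [sum_range_succ, sum_range_zero, z1, z3, z5, z7] at h1 h2 h3 h4 h5
  interval_cases m
  · exact Or.inl rfl
  all_goals
    simp only [Nat.choose] at h1 h2 h3 h4 h5
    first
      | (exfalso; omega)
      | exact Or.inr (m8 rfl (by omega))

theorem even_4_7_23 (hα : Fintype.card α = 23) {B : Set (Finset α)} (hB : IsSteinerSystem 4 7 B)
    {W : Finset α} (hW : ∀ b ∈ B, (b ∩ W).card % 2 = 0) (h8 : W.card ≤ 7) : W = ∅ := by
  have h1 := nj_eq0 hB hα W 1 77 (by norm_num) (by norm_num) (by decide)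
  have h2 := nj_eq0 hB hα W 2 21 (by norm_num) (by norm_num) (by decide)
  have h3 := nj_eq0 hB hα W 3 5 (by norm_num) (by norm_num) (by decide)
  have h4 := nj_eq0 hB hα W 4 1 (by norm_num) (by norm_num) (by decide)
  have z1 := nj_zero_of_parity hW 1 (by norm_num)
  have z3 := nj_zero_of_parity hW 3 (by norm_num)
  have z5 := nj_zero_of_parity hW 5 (by norm_num)
  have z7 := nj_zero_of_parity hW 7 (by norm_num)
  have y6 := @nj_eq_zero_of_lt α _ _ B ∅ W 6
  have y4 := @nj_eq_zero_of_lt α _ _ B ∅ W 4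
  have y2 := @nj_eq_zero_of_lt α _ _ B ∅ W 2
  rw [← card_eq_zero]
  generalize W.card = m at *
  simp only [sum_range_succ, sum_range_zero, z1, z3, z5, z7] at h1 h2 h3 h4
  interval_cases m
  · rfl
  all_goals
    simp only [Nat.choose] at h1 h2 h3 h4
    exfalso; omega

theorem odd_4_7_23 (hα : Fintype.card α = 23) {B : Set (Finset α)} (hB : IsSteinerSystem 4 7 B)
    {W : Finset α} (hW : ∀ b ∈ B, (b ∩ W).card % 2 = 1) (h8 : W.card ≤ 7) : W ∈ B := by
  have h0 := nj_eq0 hB hα W 0 253 (by norm_num) (by norm_num) (by decide)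
  have h1 := nj_eq0 hB hα W 1 77 (by norm_num) (by norm_num) (by decide)
  have h2 := nj_eq0 hB hα W 2 21 (by norm_num) (by norm_num) (by decide)
  have h3 := nj_eq0 hB hα W 3 5 (by norm_num) (by norm_num) (by decide)
  have h4 := nj_eq0 hB hα W 4 1 (by norm_num) (by norm_num) (by decide)
  have z0 := nj_zero_of_parity hW 0 (by norm_num)
  have z2 := nj_zero_of_parity hW 2 (by norm_num)
  have z4 := nj_zero_of_parity hW 4 (by norm_num)
  have z6 := nj_zero_of_parity hW 6 (by norm_num)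
  have y7 := @nj_eq_zero_of_lt α _ _ B ∅ W 7
  have y5 := @nj_eq_zero_of_lt α _ _ B ∅ W 5
  have y3 := @nj_eq_zero_of_lt α _ _ B ∅ W 3
  have y1 := @nj_eq_zero_of_lt α _ _ B ∅ W 1
  have m8 := @mem_of_nj_pos α _ _ 4 7 B hB W
  generalize W.card = m at *
  simp only [sum_range_succ, sum_range_zero, z0, z2, z4, z6] at h0 h1 h2 h3 h4
  interval_cases m
  all_goals
    simp only [Nat.choose] at h0 h1 h2 h3 h4
    first
      | (exfalso; omega)
      | exact (m8 rfl (by omega))

theorem even_3_6_22 (hα : Fintype.card α = 22) {B : Set (Finset α)} (hB : IsSteinerSystem 3 6 B)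
    {W : Finset α} (hW : ∀ b ∈ B, (b ∩ W).card % 2 = 0) :
    W.card % 2 = 0 ∧ (W.card ≤ 6 → W = ∅ ∨ W ∈ B) := by
  have h1 := nj_eq0 hB hα W 1 21 (by norm_num) (by norm_num) (by decide)
  have h2 := nj_eq0 hB hα W 2 5 (by norm_num) (by norm_num) (by decide)
  have h3 := nj_eq0 hB hα W 3 1 (by norm_num) (by norm_num) (by decide)
  have z1 := nj_zero_of_parity hW 1 (by norm_num)
  have z3 := nj_zero_of_parity hW 3 (by norm_num)
  have z5 := nj_zero_of_parity hW 5 (by norm_num)
  have y6 := @nj_eq_zero_of_lt α _ _ B ∅ W 6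
  have y4 := @nj_eq_zero_of_lt α _ _ B ∅ W 4
  have y2 := @nj_eq_zero_of_lt α _ _ B ∅ W 2
  have m8 := @mem_of_nj_pos α _ _ 3 6 B hB W
  rw [← card_eq_zero]
  generalize W.card = m at *
  simp only [sum_range_succ, sum_range_zero, z1, z3, z5] at h1 h2 h3
  constructor
  · simp only [Nat.choose_one_right] at h1
    omega
  intro h8
  interval_cases m
  · exact Or.inl rfl
  all_goals
    simp only [Nat.choose] at h1 h2 h3
    first
      | (exfalso; omega)
      | exact Or.inr (m8 rfl (by omega))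

theorem odd_3_6_22 (hα : Fintype.card α = 22) {B : Set (Finset α)} (hB : IsSteinerSystem 3 6 B)
    {W : Finset α} (hW : ∀ b ∈ B, (b ∩ W).card % 2 = 1) : 7 ≤ W.card := by
  by_contra h8
  have h0 := nj_eq0 hB hα W 0 77 (by norm_num) (by norm_num) (by decide)
  have h1 := nj_eq0 hB hα W 1 21 (by norm_num) (by norm_num) (by decide)
  have h2 := nj_eq0 hB hα W 2 5 (by norm_num) (by norm_num) (by decide)
  have h3 := nj_eq0 hB hα W 3 1 (by norm_num) (by norm_num) (by decide)
  have z0 := nj_zero_of_parity hW 0 (by norm_num)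
  have z2 := nj_zero_of_parity hW 2 (by norm_num)
  have z4 := nj_zero_of_parity hW 4 (by norm_num)
  have z6 := nj_zero_of_parity hW 6 (by norm_num)
  have y5 := @nj_eq_zero_of_lt α _ _ B ∅ W 5
  have y3 := @nj_eq_zero_of_lt α _ _ B ∅ W 3
  have y1 := @nj_eq_zero_of_lt α _ _ B ∅ W 1
  rw [not_le] at h8
  generalize W.card = m at *
  simp only [sum_range_succ, sum_range_zero, z0, z2, z4, z6] at h0 h1 h2 h3
  interval_cases m
  all_goals
    simp only [Nat.choose] at h0 h1 h2 h3
    omega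

omit [Fintype α] in
theorem card_symmDiff' (a b : Finset α) :
    (symmDiff a b).card + 2 * (a ∩ b).card = a.card + b.card := by
  rw [Finset.symmDiff_def, card_union_of_disjoint disjoint_sdiff_sdiff]
  have h1 := card_sdiff_add_card_inter a b
  have h2 := card_sdiff_add_card_inter b a
  rw [inter_comm b a] at h2
  omega

omit [Fintype α] in
theorem inter_symmDiff' (d a b : Finset α) : d ∩ symmDiff a b = symmDiff (d ∩ a) (d ∩ b) :=
  inf_symmDiff_distrib_left d a b

theorem even_inter_5_8_24 (hα : Fintype.card α = 24) {B : Set (Finset α)}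
    (hB : IsSteinerSystem 5 8 B) {b c : Finset α} (hb : b ∈ B) (hc : c ∈ B) :
    (b ∩ c).card % 2 = 0 := by
  by_cases h : b = c
  · subst h; rw [inter_self, hB.1 b hb]
  · have := inter_5_8_24 hα hB hb hc h
    omega

theorem symmDiff_5_8_24 (hα : Fintype.card α = 24) {B : Set (Finset α)}
    (hB : IsSteinerSystem 5 8 B) {b c : Finset α} (hb : b ∈ B) (hc : c ∈ B)
    (h4 : (b ∩ c).card = 4) : symmDiff b c ∈ B := by
  have hcard := card_symmDiff' b c
  rw [h4, hB.1 b hb, hB.1 c hc] at hcard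
  have key : ∀ d ∈ B, (d ∩ symmDiff b c).card % 2 = 0 := by
    intro d hd
    rw [inter_symmDiff']
    have h1 := card_symmDiff' (d ∩ b) (d ∩ c)
    have h2 := even_inter_5_8_24 hα hB hd hb
    have h3 := even_inter_5_8_24 hα hB hd hc
    omega
  rcases even_5_8_24 hα hB key (by omega) with h | h
  · rw [h] at hcard; simp at hcard
  · exact h

end Cfsg.Agent.H16
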