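import Cfsg.Agent.H16.SSearch2
import Cfsg.Agent.H16.Sharp
import Cfsg.Agent.S0364
import Cfsg.Agent.S0366
import Cfsg.Agent.S0369
import Cfsg.Agent.S0363

/-! Set systems obtained from the octads by deriving at a set of points. -/

set_option autoImplicit false

namespace Cfsg.Agent.H16

open Finset
open scoped Pointwise

theorem exists_equiv_of_perm {α β Ω : Type*} (f : α ↪ Ω) (f' : β ↪ Ω) (g : Equiv.Perm Ω)
    (h : ∀ p, p ∈ Set.range f ↔ g p ∈ Set.range f') : ∃ e : α ≃ β, ∀ a, f' (e a) = g (f a) :=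
  ⟨(Equiv.ofInjective f f.injective).trans ((g.subtypeEquiv h).trans
    (Equiv.ofInjective f' f'.injective).symm), fun a => by
    simp [Equiv.apply_ofInjective_symm]⟩

theorem exists_smul_emb {G Ω ι : Type*} [Group G] [MulAction G Ω] [Finite Ω] [Fintype ι] {n : ℕ}
    (h : MulAction.IsMultiplyPretransitive G Ω n) (hn : n ≤ Nat.card Ω)
    (hι : Fintype.card ι ≤ n) (u v : ι ↪ Ω) : ∃ g : G, ∀ i, g • u i = v i := by
  have := MulAction.isMultiplyPretransitive_of_le (G := G) (α := Ω) hι hn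
  obtain ⟨g, hg⟩ := MulAction.exists_smul_eq G
    ((Fintype.equivFin ι).symm.toEmbedding.trans u) ((Fintype.equivFin ι).symm.toEmbedding.trans v)
  exact ⟨g, fun i => by simpa using DFunLike.congr_fun hg (Fintype.equivFin ι i)⟩

theorem M24_octad {g : Equiv.Perm GolayPt} :
    g ∈ M24 ↔ ∀ b : Finset GolayPt, b.map g.toEmbedding ∈ octads ↔ b ∈ octads := by
  rw [S0369.result, mem_setSystemAut_iff]

theorem smul_finset_eq_map {α : Type*} [DecidableEq α] (σ : Equiv.Perm α) (b : Finset α) :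
    σ • b = b.map σ.toEmbedding := by
  rw [Finset.smul_finset_def, map_eq_image]; rfl

/-- `B` is the system derived from the octads at `S`, along `f`. -/
structure WittEmb {α : Type*} [DecidableEq α] (B : Set (Finset α)) (f : α ↪ GolayPt)
    (S : Finset GolayPt) : Prop where
  range : ∀ p, p ∈ Set.range f ↔ p ∉ S
  block : ∀ b, b.map f ∪ S ∈ octads ↔ b ∈ B
  ext : ∀ σ ∈ setSystemAut B, ∃ g ∈ M24, ∀ a, g (f a) = f (σ a)

variable {α β : Type*} [DecidableEq α] [DecidableEq β] {B : Set (Finset α)} {B' : Set (Finset β)}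
  {f : α ↪ GolayPt} {f' : β ↪ GolayPt} {S S' : Finset GolayPt}

theorem WittEmb.exists_equiv (h : WittEmb B f S) (h' : WittEmb B' f' S') {g : Equiv.Perm GolayPt}
    (hg : g ∈ M24) (hS : S.map g.toEmbedding = S') :
    ∃ e : α ≃ β, (∀ a, f' (e a) = g (f a)) ∧ ∀ b, b.map e.toEmbedding ∈ B' ↔ b ∈ B := by
  obtain ⟨e, he⟩ := exists_equiv_of_perm f f' g (fun p => by
    rw [h.range, h'.range, ← hS, mem_map_equiv, Equiv.symm_apply_apply])
  refine ⟨e, he, fun b => ?_⟩
  rw [← h.block, ← h'.block, ← M24_octad.1 hg (b.map f ∪ S), map_union, hS, map_map, map_map]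
  have : e.toEmbedding.trans f' = f.trans g.toEmbedding := Function.Embedding.ext he
  rw [this]

theorem WittEmb.iso (h : WittEmb B f S) (h' : WittEmb B' f' S') (hc : S.card = S'.card) {k : ℕ}
    (hk : k + S.card ≤ 5) (x : Fin k ↪ α) (y : Fin k ↪ β) :
    ∃ e : α ≃ β, (∀ i, e (x i) = y i) ∧ ∀ b, b.map e.toEmbedding ∈ B' ↔ b ∈ B := by
  let φ : S ≃ S' := Finset.equivOfCardEq hc
  let u : Fin k ⊕ S ↪ GolayPt := ⟨Sum.elim (fun i => f (x i)) (fun s => s), by
    rintro (i | s) (j | t) hij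
    · exact congrArg _ (x.injective (f.injective hij))
    · exact absurd t.2 ((h.range _).1 ⟨_, hij⟩)
    · exact absurd s.2 ((h.range _).1 ⟨_, hij.symm⟩)
    · exact congrArg _ (Subtype.ext hij)⟩
  let v : Fin k ⊕ S ↪ GolayPt := ⟨Sum.elim (fun i => f' (y i)) (fun s => φ s), by
    rintro (i | s) (j | t) hij
    · exact congrArg _ (y.injective (f'.injective hij))
    · exact absurd (φ t).2 ((h'.range _).1 ⟨_, hij⟩)
    · exact absurd (φ s).2 ((h'.range _).1 ⟨_, hij.symm⟩)
    · exact congrArg _ (φ.injective (Subtype.ext hij))⟩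
  obtain ⟨g, hg⟩ := exists_smul_emb S0366.result (by simp) (by simpa using hk) u v
  obtain ⟨e, he, he'⟩ := h.exists_equiv h' g.2 (eq_of_subset_of_card_le (fun p hp => by
    obtain ⟨s, hs, rfl⟩ := mem_map.1 hp
    have : (g : Equiv.Perm GolayPt) s = φ ⟨s, hs⟩ := hg (Sum.inr ⟨s, hs⟩)
    rw [Equiv.coe_toEmbedding, this]
    exact (φ _).2) (by rw [card_map, hc]))
  exact ⟨e, fun i => f'.injective ((he _).trans (hg (Sum.inl i))), he'⟩

theorem WittEmb.setSystemIso (h : WittEmb B f S) (h' : WittEmb B' f' S') (hc : S.card = S'.card)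
    (hk : S.card ≤ 5) : SetSystemIso B B' := by
  obtain ⟨e, -, he⟩ := h.iso h' hc (k := 0) (by omega) (Function.Embedding.ofIsEmpty)
    (Function.Embedding.ofIsEmpty)
  exact setSystemIso_of_iff e he

theorem WittEmb.trans (h : WittEmb B f S) {k : ℕ} (hk : k + S.card ≤ 5) :
    MulAction.IsMultiplyPretransitive (setSystemAut B) α k := by
  constructor
  intro x y
  obtain ⟨e, h1, h2⟩ := h.iso h rfl hk x y
  exact ⟨⟨e, mem_setSystemAut_iff.2 h2⟩, Function.Embedding.ext h1⟩

theorem M24_eq_one_of_fix {g : Equiv.Perm GolayPt} (hg : g ∈ M24) {S : Finset GolayPt}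
    (hS : S.card ≤ 2) (h : ∀ p ∉ S, g p = p) : g = 1 := by
  by_contra hne
  obtain ⟨p, hp⟩ : ∃ p, g p ≠ p := by
    by_contra h'
    push Not at h'
    exact hne (Equiv.ext h')
  have hpS : p ∈ S := by by_contra h'; exact hp (h p h')
  have hB := S0363.result
  have hc : Fintype.card GolayPt = 24 := by simp
  -- a block through `p` missing `g p`
  have h1 : lam octads {p} = 253 :=
    lam_eq hB hc 1 253 (by norm_num) (by norm_num) (by decide) _ (card_singleton p)
  have h2 : lam octads {p, g p} = 77 :=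
    lam_eq hB hc 2 77 (by norm_num) (by norm_num) (by decide) _ (card_pair hp.symm)
  rw [lam] at h1 h2
  obtain ⟨b, hb, hb'⟩ := exists_mem_notMem_of_card_lt_card 
    (h2.trans_lt ((show 77 < 253 by norm_num).trans_eq h1.symm))
  simp only [mem_filter, mem_blk, singleton_subset_iff, insert_subset_iff, not_and] at hb hb'
  have hb2 := (M24_octad.1 hg b).2 hb.1
  have hsub : b \ S ⊆ b ∩ b.map g.toEmbedding := fun x hx => by
    rw [mem_sdiff] at hx
    exact mem_inter.2 ⟨hx.1, mem_map.2 ⟨x, hx.1, h x hx.2⟩⟩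
  have h3 := card_le_card hsub
  have h4 := le_card_sdiff S b
  have := steiner_eq_of_inter hB hb.1 hb2 (by rw [hB.1 b hb.1] at h4; omega)
  exact hb' hb.1 hb.2 (this ▸ mem_map.2 ⟨p, hb.2, rfl⟩)

theorem WittEmb.exists_mulEquiv (h : WittEmb B f S) (hS : S.card ≤ 2) :
    ∃ ρ : MulAction.stabilizer M24 S ≃* setSystemAut B,
      ∀ g a, f ((ρ g : Equiv.Perm α) a) = ((g : M24) : Equiv.Perm GolayPt) (f a) := by
  have key : ∀ g : MulAction.stabilizer M24 S, ∃ e : setSystemAut B,
      ∀ a, f ((e : Equiv.Perm α) a) = ((g : M24) : Equiv.Perm GolayPt) (f a) := fun g => by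
    obtain ⟨e, h1, h2⟩ := h.exists_equiv h g.1.2 (by rw [← smul_finset_eq_map]; exact g.2)
    exact ⟨⟨e, mem_setSystemAut_iff.2 h2⟩, h1⟩
  choose r hr using key
  let ρ : MulAction.stabilizer M24 S →* setSystemAut B := MonoidHom.mk' r (fun g g' => by
    apply Subtype.ext
    ext a
    apply f.injective
    rw [hr, Subgroup.coe_mul, Subgroup.coe_mul, Subgroup.coe_mul, Equiv.Perm.mul_apply,
      Equiv.Perm.mul_apply, hr, hr])
  refine ⟨MulEquiv.ofBijective ρ ⟨?_, ?_⟩, hr⟩
  · rw [injective_iff_map_eq_one]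
    intro g hg
    apply Subtype.ext
    apply Subtype.ext
    refine M24_eq_one_of_fix g.1.2 hS fun p hp => ?_
    obtain ⟨a, rfl⟩ := (h.range p).2 hp
    rw [← hr]
    change f ((ρ g : Equiv.Perm α) a) = f a
    rw [hg]; rfl
  · intro σ
    obtain ⟨g, hg, hg'⟩ := h.ext σ σ.2
    have hgS : (⟨g, hg⟩ : M24) ∈ MulAction.stabilizer M24 S := by
      change g • S = S
      rw [smul_finset_eq_map]
      refine eq_of_subset_of_card_le (fun p hp => ?_) (by rw [card_map])
      obtain ⟨s, hs, rfl⟩ := mem_map.1 hp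
      by_contra h'
      obtain ⟨a, ha⟩ := (h.range _).2 h'
      have := hg' ((σ : Equiv.Perm α).symm a)
      rw [Equiv.apply_symm_apply, ha] at this
      exact (h.range s).1 ⟨_, g.injective this⟩ hs
    refine ⟨⟨_, hgS⟩, Subtype.ext (Equiv.ext fun a => f.injective ?_)⟩
    exact (hr _ a).trans (hg' a)

theorem card_stabilizer_M24 (S : Finset GolayPt) (hS : S.card ≤ 5) :
    Nat.card (MulAction.stabilizer M24 S) * Nat.choose 24 S.card = 244823040 := by
  rw [← S0364.result, ← (MulAction.stabilizer M24 S).card_mul_index, MulAction.index_stabilizer]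
  congr 1
  have : MulAction.orbit M24 S = ↑(powersetCard S.card (univ : Finset GolayPt)) := by
    ext T
    simp only [MulAction.mem_orbit_iff, mem_coe, mem_powersetCard, subset_univ,
      true_and]
    constructor
    · rintro ⟨g, rfl⟩
      exact card_smul_finset _ _
    · intro hT
      let φ : S ≃ T := Finset.equivOfCardEq hT.symm
      obtain ⟨g, hg⟩ := exists_smul_emb S0366.result (by simp) (by simpa using hS)
        (Function.Embedding.subtype (· ∈ S)) (φ.toEmbedding.trans (Function.Embedding.subtype _))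
      refine ⟨g, eq_of_subset_of_card_le (fun p hp => ?_) (by rw [card_smul_finset, hT])⟩
      obtain ⟨s, hs, rfl⟩ := mem_smul_finset.1 hp
      have : g • s = φ ⟨s, hs⟩ := hg ⟨s, hs⟩
      rw [this]
      exact (φ _).2
  rw [this, Set.ncard_coe_finset, card_powersetCard, card_univ]
  simp

theorem WittEmb.card_aut (h : WittEmb B f S) (hS : S.card ≤ 2) :
    Nat.card (setSystemAut B) * Nat.choose 24 S.card = 244823040 := by
  obtain ⟨ρ, -⟩ := h.exists_mulEquiv hS
  rw [← Nat.card_congr ρ.toEquiv, card_stabilizer_M24 S (by omega)]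

end Cfsg.Agent.H16
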