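import Cfsg.Agent.H16.Code
import Cfsg.Agent.H16.WittEmb
import Cfsg.Agent.H16.S22

/-! Every S(5,8,24), S(4,7,23), S(3,6,22) is derived from the octads of the Golay code. -/

set_option autoImplicit false

namespace Cfsg.Agent.H16

open Finset

theorem mem_M24_of_family {γ : Type*} [DecidableEq γ] {O : Set (Finset γ)} {e : γ ≃ GolayPt}
    (he : ∀ W : Finset γ, (∀ o ∈ O, (o ∩ W).card % 2 = 0) ↔
      W.map e.toEmbedding ∈ supports (golayCode : Set (GolayPt → ZMod 2)))
    (τ : Equiv.Perm γ) (hτ : ∀ o ∈ O, ∀ o' ∈ O, (o' ∩ o.map τ.symm.toEmbedding).card % 2 = 0) :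
    (e.symm.trans τ).trans e ∈ M24 := by
  apply mem_setSystemAut_of_forall
  intro W hW
  rw [← map_map_equiv, ← he, ← map_map_equiv]
  intro o ho
  have h1 := (he _).1 (hτ o ho)
  have h2 := golay_even h1 hW
  rw [← map_symm_map e W, ← map_inter, card_map] at h2
  rw [← map_symm_map τ o, ← map_inter, card_map]
  exact h2

variable {α : Type*} [Fintype α] [DecidableEq α]

theorem witt24 (hα : Fintype.card α = 24) {B : Set (Finset α)} (hB : IsSteinerSystem 5 8 B) :
    ∃ f : α ↪ GolayPt, WittEmb B f ∅ := by
  obtain ⟨e, he⟩ := golay_of_family hα B (fun o ho => by rw [hB.1 o ho])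
    (fun o ho o' ho' => even_inter_5_8_24 hα hB ho ho')
    (fun W hW h6 => (even_5_8_24 hα hB hW (by omega)).resolve_right fun h => by
      have := hB.1 W h; omega)
  refine ⟨e.toEmbedding, fun p => ?_, fun b => ?_, fun σ hσ => ?_⟩
  · simp
  · rw [union_empty, mem_octads, ← he, card_map]
    constructor
    · rintro ⟨h1, h2⟩
      exact (even_5_8_24 hα hB h1 h2.le).resolve_left fun h => by simp [h] at h2
    · intro hb
      exact ⟨fun o ho => even_inter_5_8_24 hα hB ho hb, hB.1 b hb⟩
  · refine ⟨_, mem_M24_of_family he σ fun o ho o' ho' => even_inter_5_8_24 hα hB ho' ?_,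
      fun a => by simp⟩
    rw [← mem_setSystemAut_iff.1 hσ, map_symm_map]
    exact ho

omit [Fintype α] in
theorem card_inter_insertNone (b : Finset α) (W : Finset (Option α)) :
    (insertNone b ∩ W).card = (b ∩ eraseNone W).card + if none ∈ W then 1 else 0 := by
  split_ifs with h
  · rw [← card_insertNone]
    congr 1
    ext (_ | a) <;> simp [h]
  · rw [add_zero, ← card_map Function.Embedding.some (s := b ∩ eraseNone W)]
    congr 1
    ext (_ | a) <;> simp [h]

omit [Fintype α] in
theorem card_inter_map_some (b : Finset α) (W : Finset (Option α)) :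
    (b.map Function.Embedding.some ∩ W).card = (b ∩ eraseNone W).card := by
  rw [← card_map Function.Embedding.some (s := b ∩ eraseNone W)]
  congr 1
  ext (_ | a) <;> simp

theorem card_eraseNone' (W : Finset (Option α)) :
    W.card = (eraseNone W).card + if none ∈ W then 1 else 0 := by
  have := card_inter_insertNone (univ : Finset α) W
  rwa [univ_inter, show insertNone (univ : Finset α) = univ by ext (_ | a) <;> simp,
    univ_inter] at this

omit [Fintype α] [DecidableEq α] in
theorem map_optionCongr_insertNone {β : Type*} (σ : α ≃ β) (b : Finset α) :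
    (insertNone b).map (Equiv.optionCongr σ).toEmbedding = insertNone (b.map σ.toEmbedding) := by
  ext (_ | a) <;> simp [mem_map_equiv, ← Equiv.optionCongr_symm]

theorem odd_inter_4_7_23 (hα : Fintype.card α = 23) {B : Set (Finset α)}
    (hB : IsSteinerSystem 4 7 B) {b c : Finset α} (hb : b ∈ B) (hc : c ∈ B) :
    (b ∩ c).card % 2 = 1 := by
  by_cases h : b = c
  · subst h; rw [inter_self, hB.1 b hb]
  · have := inter_4_7_23 hα hB hb hc h
    omega

theorem witt23 (hα : Fintype.card α = 23) {B : Set (Finset α)} (hB : IsSteinerSystem 4 7 B) :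
    ∃ (f : α ↪ GolayPt) (p : GolayPt), WittEmb B f {p} := by
  have hev : ∀ o ∈ insertNone '' B, ∀ o' ∈ insertNone '' B, (o ∩ o').card % 2 = 0 := by
    rintro _ ⟨b, hb, rfl⟩ _ ⟨c, hc, rfl⟩
    have := odd_inter_4_7_23 hα hB hb hc
    rw [card_inter_insertNone, eraseNone_insertNone, if_pos (by simp)]
    omega
  obtain ⟨e, he⟩ := golay_of_family (γ := Option α) (by simp [hα]) (insertNone '' B)
    (by rintro _ ⟨b, hb, rfl⟩; rw [card_insertNone, hB.1 b hb]) hev
    (fun W hW h6 => by
      have h1 := card_eraseNone' W
      have h2 : ∀ b ∈ B, ((b ∩ eraseNone W).card + if none ∈ W then 1 else 0) % 2 = 0 :=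
        fun b hb => by rw [← card_inter_insertNone]; exact hW _ ⟨b, hb, rfl⟩
      split_ifs at h1 h2 with h
      · have := hB.1 _ (odd_4_7_23 hα hB (W := eraseNone W)
          (fun b hb => by have := h2 b hb; omega) (by omega))
        omega
      · have := even_4_7_23 hα hB (W := eraseNone W) h2 (by omega)
        rwa [this, card_empty, card_eq_zero] at h1)
  refine ⟨Function.Embedding.some.trans e.toEmbedding, e none, fun p => ?_, fun b => ?_,
    fun σ hσ => ?_⟩
  · obtain ⟨q, rfl⟩ := e.surjective p
    rcases q with _ | a <;> simp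
  · have : b.map (Function.Embedding.some.trans e.toEmbedding) ∪ {e none} =
        (insertNone b).map e.toEmbedding := by
      ext p
      obtain ⟨q, rfl⟩ := e.surjective p
      rcases q with _ | a <;> simp
    rw [this, mem_octads, ← he, card_map, card_insertNone]
    constructor
    · rintro ⟨h1, h2⟩
      refine odd_4_7_23 hα hB (fun c hc => ?_) (by omega)
      have := h1 _ ⟨c, hc, rfl⟩
      rw [card_inter_insertNone, eraseNone_insertNone, if_pos (by simp)] at this
      omega
    · intro hb
      exact ⟨fun o ho => hev o ho _ ⟨b, hb, rfl⟩, by rw [hB.1 b hb]⟩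
  · refine ⟨_, mem_M24_of_family he (Equiv.optionCongr σ) fun o ho o' ho' => hev o' ho' _ ?_,
      fun a => by simp⟩
    obtain ⟨b, hb, rfl⟩ := ho
    refine ⟨b.map σ.symm.toEmbedding, ?_, ?_⟩
    · rw [← mem_setSystemAut_iff.1 hσ, map_symm_map]
      exact hb
    · rw [← Equiv.optionCongr_symm, map_optionCongr_insertNone]

/-- a set meeting every block of an S(3,6,22) in an odd number of points -/
theorem exists_shadow (hα : Fintype.card α = 22) {B : Set (Finset α)}
    (hB : IsSteinerSystem 3 6 B) : ∃ s : Finset α, ∀ b ∈ B, (b ∩ s).card % 2 = 1 := by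
  let C : Submodule (ZMod 2) (α → ZMod 2) := Submodule.span (ZMod 2) (ind '' B)
  have horth : ∀ v ∈ C, ∀ w ∈ C, ∑ i, v i * w i = 0 := by
    intro v hv w hw
    rw [← dotB_apply]
    induction hv using Submodule.span_induction with
    | mem x hx =>
      induction hw using Submodule.span_induction with
      | mem y hy =>
        obtain ⟨b, hb, rfl⟩ := hx
        obtain ⟨c, hc, rfl⟩ := hy
        rw [dotB_apply, dot_eq_zero_iff, supp_ind, supp_ind]
        exact even_inter_3_6_22 hα hB hb hc
      | zero => simp
      | add x y _ _ hx hy => rw [map_add, hx, hy, add_zero]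
      | smul a x _ hx => rw [map_smul, hx, smul_zero]
    | zero => simp
    | add x y _ _ hx hy => rw [map_add, LinearMap.add_apply, hx, hy, add_zero]
    | smul a x _ hx => rw [map_smul, LinearMap.smul_apply, hx, smul_zero]
  let q : C →ₗ[ZMod 2] ZMod 2 :=
    { toFun := fun w => (((support₂ (w : α → ZMod 2)).card / 2 : ℕ) : ZMod 2)
      map_add' := fun v w => by
        have h1 := card_symmDiff' (support₂ (v : α → ZMod 2)) (support₂ (w : α → ZMod 2))
        have h2 := (dot_eq_zero_iff _ _).1 (horth _ v.2 _ w.2)
        have h3 := (dot_eq_zero_iff _ _).1 (horth _ v.2 _ v.2)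
        have h4 := (dot_eq_zero_iff _ _).1 (horth _ w.2 _ w.2)
        rw [inter_self] at h3 h4
        rw [Submodule.coe_add, supp_add, ← Nat.cast_add, ZMod.natCast_eq_natCast_iff']
        omega
      map_smul' := fun a w => by
        rcases zmod2_cases a with rfl | rfl
        · simp [supp_zero]
        · simp }
  obtain ⟨g, hg⟩ := q.exists_extend
  refine ⟨support₂ fun i => g (Pi.single i 1), fun b hb => ?_⟩
  have h1 : g (ind b) = 1 := by
    have := LinearMap.congr_fun hg ⟨ind b, Submodule.subset_span ⟨b, hb, rfl⟩⟩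
    refine this.trans ?_
    change (((support₂ (ind b)).card / 2 : ℕ) : ZMod 2) = 1
    rw [supp_ind, hB.1 b hb]; rfl
  have h2 : g (ind b) = ∑ i, ind b i * g (Pi.single i 1) := by
    conv_lhs => rw [← Finset.univ_sum_single (ind b), map_sum]
    refine sum_congr rfl fun i _ => ?_
    rw [← smul_eq_mul, ← map_smul, ← Pi.single_smul', smul_eq_mul, mul_one]
  by_contra h
  rw [h2, (dot_eq_zero_iff _ _).2 (by rw [supp_ind]; omega)] at h1
  exact zero_ne_one h1

theorem card_shadow (hα : Fintype.card α = 22) {B : Set (Finset α)}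
    (hB : IsSteinerSystem 3 6 B) {W : Finset α} (hW : ∀ b ∈ B, (b ∩ W).card % 2 = 1) :
    W.card % 4 = 3 := by
  have h0 := nj_eq0 hB hα W 0 77 (by norm_num) (by norm_num) (by decide)
  have h1 := nj_eq0 hB hα W 1 21 (by norm_num) (by norm_num) (by decide)
  have h2 := nj_eq0 hB hα W 2 5 (by norm_num) (by norm_num) (by decide)
  have h3 := nj_eq0 hB hα W 3 1 (by norm_num) (by norm_num) (by decide)
  have z0 := nj_zero_of_parity hW 0 (by norm_num)
  have z2 := nj_zero_of_parity hW 2 (by norm_num)
  have z4 := nj_zero_of_parity hW 4 (by norm_num)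
  have z6 := nj_zero_of_parity hW 6 (by norm_num)
  have h8 : W.card ≤ 22 := hα ▸ card_le_univ W
  generalize W.card = m at *
  simp only [sum_range_succ, sum_range_zero, z0, z2, z4, z6] at h0 h1 h2 h3
  interval_cases m
  all_goals
    simp only [Nat.choose] at h0 h1 h2 h3
    omega

theorem witt22 (hα : Fintype.card α = 22) {B : Set (Finset α)} (hB : IsSteinerSystem 3 6 B) :
    ∃ (f : α ↪ GolayPt) (p q : GolayPt), p ≠ q ∧ WittEmb B f {p, q} := by
  obtain ⟨s, hs⟩ := exists_shadow hα hB
  let O : Set (Finset (Option (Option α))) := (fun b => insertNone (insertNone b)) '' B ∪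
    {insertNone (s.map Function.Embedding.some)}
  have hO : ∀ W, (∀ o ∈ O, (o ∩ W).card % 2 = 0) ↔
      (∀ b ∈ B, ((b ∩ eraseNone (eraseNone W)).card + (if none ∈ eraseNone W then 1 else 0) +
        if none ∈ W then 1 else 0) % 2 = 0) ∧
      ((s ∩ eraseNone (eraseNone W)).card + if none ∈ W then 1 else 0) % 2 = 0 := by
    intro W
    constructor
    · intro h
      refine ⟨fun b hb => ?_, ?_⟩
      · rw [← card_inter_insertNone, ← card_inter_insertNone]
        exact h _ (Or.inl ⟨b, hb, rfl⟩)
      · rw [← card_inter_map_some, ← card_inter_insertNone]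
        exact h _ (Or.inr rfl)
    · rintro ⟨h1, h2⟩ o (⟨b, hb, rfl⟩ | rfl)
      · rw [card_inter_insertNone, card_inter_insertNone]
        exact h1 b hb
      · rw [card_inter_insertNone, card_inter_map_some]
        exact h2
  have hO1 : ∀ c ∈ B, ∀ o ∈ O, (o ∩ insertNone (insertNone c)).card % 2 = 0 := fun c hc => by
    rw [hO]
    simp only [eraseNone_insertNone, none_mem_insertNone, if_true]
    refine ⟨fun b hb => ?_, ?_⟩
    · have := even_inter_3_6_22 hα hB hb hc
      omega
    · have := hs c hc
      rw [inter_comm] at this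
      omega
  have hO2 : ∀ s' : Finset α, (∀ b ∈ B, (b ∩ s').card % 2 = 1) → (s ∩ s').card % 2 = 1 →
      ∀ o ∈ O, (o ∩ insertNone (s'.map Function.Embedding.some)).card % 2 = 0 :=
    fun s' h1 h2 => by
    rw [hO]
    simp only [eraseNone_insertNone, none_mem_insertNone, if_true, eraseNone_map_some]
    refine ⟨fun b hb => ?_, by omega⟩
    have := h1 b hb
    rw [if_neg (by simp)]
    omega
  have hO3 : ∀ s' : Finset α, (∀ b ∈ B, (b ∩ s').card % 2 = 1) → (s ∩ s').card % 2 = 0 →
      ∀ o ∈ O, (o ∩ (insertNone s').map Function.Embedding.some).card % 2 = 0 :=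
    fun s' h1 h2 => by
    rw [hO]
    simp only [eraseNone_insertNone, none_mem_insertNone, if_true, eraseNone_map_some]
    rw [if_neg (by simp)]
    refine ⟨fun b hb => ?_, by omega⟩
    have := h1 b hb
    omega
  have hs4 := card_shadow hα hB hs
  obtain ⟨e, he⟩ := golay_of_family (γ := Option (Option α)) (by simp [hα]) O
    (by
      rintro _ (⟨b, hb, rfl⟩ | rfl)
      · simp only [card_insertNone, hB.1 b hb]
      · rw [card_insertNone, card_map]; omega)
    (by
      rintro o ho _ (⟨b, hb, rfl⟩ | rfl)
      · exact hO1 b hb o ho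
      · exact hO2 s hs (by rw [inter_self]; omega) o ho)
    (fun W hW h6 => by
      have h1 := card_eraseNone' W
      have h2 := card_eraseNone' (eraseNone W)
      obtain ⟨h3, h4⟩ := (hO W).1 hW
      split_ifs at h1 h2 h3 h4 with ha hb hb
      · obtain ⟨-, h5⟩ := even_3_6_22 hα hB (W := eraseNone (eraseNone W))
          (fun b hb => by have := h3 b hb; omega)
        rcases h5 (by omega) with h5 | h5
        · rw [h5] at h4; simp at h4
        · have := hB.1 _ h5; omega
      · have := odd_3_6_22 hα hB (W := eraseNone (eraseNone W))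
          (fun b hb => by have := h3 b hb; omega)
        omega
      · have := odd_3_6_22 hα hB (W := eraseNone (eraseNone W))
          (fun b hb => by have := h3 b hb; omega)
        omega
      · obtain ⟨-, h5⟩ := even_3_6_22 hα hB (W := eraseNone (eraseNone W)) h3
        rcases h5 (by omega) with h5 | h5
        · rw [h5, card_empty] at h2
          rw [← card_eq_zero]; omega
        · have := hs _ h5
          rw [inter_comm] at this
          omega)
  refine ⟨(Function.Embedding.some.trans Function.Embedding.some).trans e.toEmbedding, e none,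
    e (some none), by simp, fun p => ?_, fun b => ?_, fun σ hσ => ?_⟩
  · obtain ⟨q, rfl⟩ := e.surjective p
    rcases q with _ | _ | a <;> simp
  · have : b.map ((Function.Embedding.some.trans Function.Embedding.some).trans e.toEmbedding) ∪
        {e none, e (some none)} = (insertNone (insertNone b)).map e.toEmbedding := by
      ext p
      obtain ⟨q, rfl⟩ := e.surjective p
      rcases q with _ | _ | a <;> simp
    rw [this, mem_octads, ← he, card_map, card_insertNone, card_insertNone]
    constructor
    · rintro ⟨h1, h2⟩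
      have h3 := ((hO _).1 h1).1
      simp only [eraseNone_insertNone, none_mem_insertNone, if_true] at h3
      obtain ⟨-, h5⟩ := even_3_6_22 hα hB (W := b) (fun c hc => by have := h3 c hc; omega)
      exact (h5 (by omega)).resolve_left fun h => by simp [h] at h2
    · intro hb
      exact ⟨hO1 b hb, by rw [hB.1 b hb]⟩
  · have hσ' : ∀ b ∈ B, b.map σ.symm.toEmbedding ∈ B := fun b hb => by
      rw [← mem_setSystemAut_iff.1 hσ, map_symm_map]
      exact hb
    have hs' : ∀ b ∈ B, (b ∩ s.map σ.symm.toEmbedding).card % 2 = 1 := fun b hb => by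
      rw [← card_map σ.toEmbedding, map_inter, map_symm_map]
      exact hs _ ((mem_setSystemAut_iff.1 hσ b).2 hb)
    rcases Nat.mod_two_eq_zero_or_one (s ∩ s.map σ.symm.toEmbedding).card with h | h
    · refine ⟨_, mem_M24_of_family he ((Equiv.swap none (some none)).trans
        (Equiv.optionCongr (Equiv.optionCongr σ))) ?_, fun a => by
          simp [Equiv.swap_apply_of_ne_of_ne]⟩
      rintro _ (⟨b, hb, rfl⟩ | rfl) o' ho'
      · convert hO1 _ (hσ' b hb) o' ho' using 4
        ext (_ | _ | a) <;> rw [mem_map_equiv, Equiv.symm_symm] <;>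
          simp [mem_map_equiv, Equiv.swap_apply_of_ne_of_ne]
      · convert hO3 _ hs' h o' ho' using 4
        ext (_ | _ | a) <;> rw [mem_map_equiv, Equiv.symm_symm] <;>
          simp [mem_map_equiv, Equiv.swap_apply_of_ne_of_ne]
    · refine ⟨_, mem_M24_of_family he (Equiv.optionCongr (Equiv.optionCongr σ)) ?_,
        fun a => by simp⟩
      rintro _ (⟨b, hb, rfl⟩ | rfl) o' ho'
      · convert hO1 _ (hσ' b hb) o' ho' using 4
        ext (_ | _ | a) <;> simp [mem_map_equiv]
      · convert hO2 _ hs' h o' ho' using 4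
        ext (_ | _ | a) <;> simp [mem_map_equiv]

end Cfsg.Agent.H16
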